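import Groth.Agent.KSixLib.Bridge
import Groth.Agent.RelPCS.FlatPiece
import Groth.Agent.RelPCS.FlatTerms
import Groth.Agent.RelFPUnit.Basic

/-!
# Perfect amplitude relative to a morphism
-/

set_option backward.isDefEq.respectTransparency false
set_option backward.isDefEq.respectTransparency.types false
set_option linter.style.haveILetI false
set_option autoImplicit false

universe u

open CategoryTheory Limits AlgebraicGeometry HomologicalComplex

attribute [local instance] HasDerivedCategory.standard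

namespace Groth.Agent.KSixLib

variable {X Y : Scheme.{u}}

lemma rel_of_iso (f : X ⟶ Y) {m : ℤ} {E E' : DCoh.D X} (e : E ≅ E') (h : DerSch.IsPseudoCoherentRel f m E) :
    DerSch.IsPseudoCoherentRel f m E' :=
  haveI := h.1
  RelPCS.rel_of_qpc fun _ hU _ hV hle _ _ hφ => RelPCS.qpc_iso e (RelPCS.qpc_of_rel h hU hV hle hφ)

/-- a module in degree zero has amplitude `[0, 0]` iff it is flat over the base -/
theorem torAmp_single_zero_iff (f : X ⟶ Y) (M : X.Modules) :
    DerSch.HasTorAmplitude f 0 0 ((HomologicalComplex.single _ (ComplexShape.up ℤ) 0).obj M) ↔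
      FlatMod.IsFlatOver f M := by
  refine forall_congr' fun x => ?_
  let e : DRing.toD ((DerSch.stalkCxOver f x).obj ((HomologicalComplex.single _ (ComplexShape.up ℤ) 0).obj M)) ≅
      Dual.inD (Y.presheaf.stalk (f.base x)) ((DQCoh.stA f x).obj M) :=
    DerivedCategory.Q.mapIso
      ((HomologicalComplex.singleMapHomologicalComplex (DQCoh.stA f x) (ComplexShape.up ℤ) 0).app M) ≪≫
      ((DerivedCategory.singleFunctorIsoCompQ _ 0).app _).symm
  rw [DQCoh.isFlatOverAt_iff, ← DRingKP.amp_zero_iff_flat]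
  exact ⟨fun h => DRingKP.amp_of_iso e h, fun h => DRingKP.amp_of_iso e.symm h⟩

/-- perfect amplitude `[0, 0]` of a module -/
theorem perfAmp_single_zero_iff (f : X ⟶ Y) [LocallyOfFiniteType f] (M : X.Modules) :
    DerSch.HasPerfAmplitudeRel f 0 0 ((HomologicalComplex.single _ (ComplexShape.up ℤ) 0).obj M) ↔
      (FlatMod.IsFlatOver f M ∧ DerSch.IsPseudoCoherentRel f (-1)
        (DCoh.toD X ((HomologicalComplex.single _ (ComplexShape.up ℤ) 0).obj M))) := by
  refine ⟨fun h => ⟨(torAmp_single_zero_iff f M).1 h.2, h.1 _⟩, fun h => ⟨fun m => ?_, (torAmp_single_zero_iff f M).2 h.1⟩⟩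
  let e := (DerivedCategory.singleFunctorIsoCompQ X.Modules 0).app M
  exact RelPCS.rel_of_qpc fun _ hU _ hV hle _ _ hφ => RelPCS.qpc_iso e
    (RelPCS.qpc_of_flat_fp (rel_of_iso f e.symm h.2) h.1 hU hV hle hφ m)

theorem isFlatOver_unit_iff (f : X ⟶ Y) : FlatMod.IsFlatOver f (Coh.structureModule X) ↔ Flat f := by
  rw [Flat.iff_flat_stalkMap]
  refine forall_congr' fun x => ?_
  rw [DQCoh.isFlatOverAt_iff]
  let e := (ModuleCat.restrictScalars.{u} (f.stalkMap x).hom).mapIso (stOneIso x)
  letI := (f.stalkMap x).hom.toAlgebra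
  let eI : (ModuleCat.restrictScalars.{u} (f.stalkMap x).hom).obj
      (ModuleCat.of (X.presheaf.stalk x) (X.presheaf.stalk x)) ≃ₗ[Y.presheaf.stalk (f.base x)]
        X.presheaf.stalk x :=
    { toFun := fun t => t
      invFun := fun t => t
      map_add' := fun _ _ => rfl
      map_smul' := fun _ _ => rfl
      left_inv := fun _ => rfl
      right_inv := fun _ => rfl }
  exact ⟨fun h => (@Module.Flat.of_linearEquiv _ _ _ _ _ _ _ _ h (eI.symm.trans e.toLinearEquiv) : Module.Flat _ (X.presheaf.stalk x)),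
    fun h => haveI : Module.Flat (Y.presheaf.stalk (f.base x)) (X.presheaf.stalk x) := h
      Module.Flat.of_linearEquiv (e.toLinearEquiv.symm.trans eI)⟩

section BaseChange

variable {Y' : Scheme.{u}} (f : X ⟶ Y) (h : Y' ⟶ Y) [Flat h]

theorem perfAmp_Lpull [LocallyOfFiniteType f] [DCoh.HasLpull (pullback.fst f h)] {a b : ℤ}
    (F : CochainComplex X.Modules ℤ) (hF : DerSch.HasPerfAmplitudeRel f a b F)
    (F' : CochainComplex (pullback f h).Modules ℤ)
    (e : DCoh.toD (pullback f h) F' ≅ (DCoh.Lpull (pullback.fst f h)).obj (DCoh.toD X F)) :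
    DerSch.HasPerfAmplitudeRel (pullback.snd f h) a b F' := by
  refine ⟨fun m => rel_of_iso _ ?_ (RelPCS.rel_flat_bc (IsPullback.of_hasPullback f h) (hF.1 m)),
    torAmpD_Lpull f h F hF.2 F' ⟨e⟩⟩
  exact (RelPCS.nonempty_lpullFlat (pullback.fst f h) _).some.symm ≪≫ e.symm

theorem nPseudoCoherent_baseChange [LocallyOfFiniteType f] {n : ℤ} (hf : DerSch.IsNPseudoCoherent f n) :
    DerSch.IsNPseudoCoherent (pullback.snd f h) n := by
  refine rel_of_iso _ ?_ (RelPCS.rel_flat_bc (IsPullback.of_hasPullback f h) hf)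
  exact (Scheme.Modules.pullback (pullback.fst f h)).mapDerivedCategoryFactors.app _ ≪≫
    DerivedCategory.Q.mapIso
      ((HomologicalComplex.singleMapHomologicalComplex (Scheme.Modules.pullback (pullback.fst f h))
          (ComplexShape.up ℤ) 0).app _ ≪≫
        (HomologicalComplex.single _ (ComplexShape.up ℤ) 0).mapIso (DerPerf.pullUnitIso _))

end BaseChange

end Groth.Agent.KSixLib
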