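import Groth.Agent.DRingKP.FlatBC
import Groth.Agent.DRingKP.ResAmp
import Groth.Agent.DQCoh.BCRing
import Mathlib.RingTheory.Flat.CategoryTheory

/-!
# Tor amplitude over a base, tensoring with a flat module and flat base change
-/

set_option autoImplicit false
set_option linter.style.haveILetI false
set_option backward.isDefEq.respectTransparency false
set_option backward.isDefEq.respectTransparency.types false
universe u

namespace Groth.Agent.KSixLib

open CategoryTheory Limits DerivedCategory MonoidalCategory HomologicalComplex TensorProduct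
open Groth.Agent.DRingKP

attribute [local instance] HasDerivedCategory.standard

variable {A T : Type u} [CommRing A] [CommRing T]

/-- `(L ⊗ N) ⊗ M ≅ (L ⊗ M) ⊗ N` -/
noncomputable def swap3 (N L M : ModuleCat.{u} T) : (L ⊗ N) ⊗ M ≅ (L ⊗ M) ⊗ N :=
  α_ L N M ≪≫ whiskerLeftIso L (β_ N M) ≪≫ (α_ L M N).symm

lemma swap3_left (N : ModuleCat.{u} T) {L L' : ModuleCat.{u} T} (f : L ⟶ L') (M : ModuleCat.{u} T) :
    ((f ▷ N) ▷ M) ≫ (swap3 N L' M).hom = (swap3 N L M).hom ≫ ((f ▷ M) ▷ N) := by
  refine ModuleCat.MonoidalCategory.tensor_ext₃' fun a b c => ?_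
  rfl

lemma swap3_right (N L : ModuleCat.{u} T) {M M' : ModuleCat.{u} T} (g : M ⟶ M') :
    ((L ⊗ N) ◁ g) ≫ (swap3 N L M').hom = (swap3 N L M).hom ≫ ((L ◁ g) ▷ N) := by
  refine ModuleCat.MonoidalCategory.tensor_ext₃' fun a b c => ?_
  rfl

/-- `(L ⊗ N) ⊗ K ≅ (L ⊗ K) ⊗ N` on complexes -/
noncomputable def swapTotIso (N : ModuleCat.{u} T) (L K : DRing.Cx T) :
    ((KFlat.tens (tB T)).obj ((tR N).obj L)).obj K ≅ (tR N).obj (((KFlat.tens (tB T)).obj L).obj K) :=
  haveI : PreservesColimitsOfSize.{0, 0} (tensorRight N) := preservesSmallestColimits_of_preservesColimits.{u, u, u, u + 1, u + 1, u} _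
  KFlat.mapTensIso (tensorRight N) (𝟭 _) (𝟭 _) (𝟭 _) (tensorRight N) (tB T) (tB T)
    (swap3 N) (fun f M => swap3_left N f M) (fun L _ _ g => swap3_right N L g) L K

variable (ψ : A →+* T)

/-- forgetting down along `ψ` on complexes -/
noncomputable abbrev resCx : DRing.Cx T ⥤ DRing.Cx A :=
  (ModuleCat.restrictScalars.{u} ψ).mapHomologicalComplex (ComplexShape.up ℤ)

/-- total tensor products with `A`-complexes -/
noncomputable def resTotIso (L : DRing.Cx T) (K : DRing.Cx A) :
    ((KFlat.tens (tB A)).obj ((resCx ψ).obj L)).obj K ≅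
      (resCx ψ).obj (((KFlat.tens (tB T)).obj L).obj ((bc ψ).obj K)) :=
  KFlat.projTotIso ψ L K

/-- **tensoring with a flat module keeps the tor amplitude over a ring mapping to the base** -/
theorem amp_flat_tensor (N : ModuleCat.{u} T) [Module.Flat T N] (L : DRing.Cx T) {a b : ℤ}
    (h : DRing.HasTorAmplitudeIn A a b (DRing.toD ((resCx ψ).obj L))) :
    DRing.HasTorAmplitudeIn A a b (DRing.toD ((resCx ψ).obj ((tR N).obj L))) := by
  haveI : PreservesFiniteLimits (tensorRight N) :=
    preservesFiniteLimits_of_natIso (BraidedCategory.tensorLeftIsoTensorRight N)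
  haveI : PreservesFiniteColimits (tensorRight N) :=
    preservesFiniteColimits_of_natIso (BraidedCategory.tensorLeftIsoTensorRight N)
  have twist : ∀ (P : DRing.Cx T) (i : ℤ), ((resCx ψ).obj P).ExactAt i →
      ((resCx ψ).obj ((tR N).obj P)).ExactAt i := fun P i hP => by
    rw [exactAt_iff] at hP ⊢
    exact (((ShortComplex.exact_map_iff_of_faithful (P.sc i) (ModuleCat.restrictScalars.{u} ψ)).1 hP).map
      (tensorRight N)).map (ModuleCat.restrictScalars.{u} ψ)
  have hab : ∀ i, b < i → IsZero (((resCx ψ).obj L).homology i) := fun i hi =>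
    (torVan_isAbove h i (by lia)).of_iso ((DerivedCategory.homologyFunctorFactors _ i).app _).symm
  obtain ⟨G₀, c₀, hG₀b, hG₀, ⟨e₀⟩⟩ := exists_proj_rep_le (DRing.toD ((resCx ψ).obj L))
    ⟨b + 1, fun i hi => (hab i (by lia)).of_iso ((DerivedCategory.homologyFunctorFactors _ i).app _)⟩
  obtain ⟨G, c, hGb, hG, ⟨e⟩⟩ := exists_proj_rep_le (DRing.toD ((resCx ψ).obj ((tR N).obj L)))
    ⟨b + 1, fun i hi => ((exactAt_iff_isZero_homology _ _).1
      (twist L i ((exactAt_iff_isZero_homology _ _).2 (hab i (by lia))))).of_iso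
        ((DerivedCategory.homologyFunctorFactors _ i).app _)⟩
  haveI := isKProjective_of_vanishesAbove hGb hG
  haveI := isKProjective_of_vanishesAbove hG₀b hG₀
  have hv : Van a b G₀ := torVan_rep (torVan_of_amp h) hG₀b (flat_of_projective hG₀) e₀
  refine amp_iff_torVan.2 ⟨G, c, hGb, flat_of_projective hG, ⟨e⟩, fun Q i hi => ?_⟩
  let R := projectiveResolution Q
  let PR := R.cochainComplex
  let Q0 := (HomologicalComplex.single _ (ComplexShape.up ℤ) 0).obj Q
  have key : ∀ {P : DRing.Cx A} {k : ℤ} {Z : DRing.Cx A} (_ : DRing.VanishesAbove P k)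
      (_ : DRing.TermwiseFlat P) (g : P ⟶ Z), QuasiIso g →
      (IsZero (((tR Q).obj P).homology i) ↔ (((KFlat.tens (tB A)).obj Z).obj PR).ExactAt i) := by
    intro P k Z hPb hP g hg
    haveI h1 : QuasiIso (((KFlat.tens (tB A)).map g).app PR) := (isKFlat_res R).quasiIso_map_app g
    haveI h2 : QuasiIso (((KFlat.tens (tB A)).map (resToSingle R)).app P) :=
      ((rflat_iff P).2 (isKFlat_of_bounded hPb hP)).quasiIso_map_app (resToSingle R)
    let H := HomologicalComplex.homologyFunctor (ModuleCat.{u} A) (ComplexShape.up ℤ) i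
    rw [exactAt_iff_isZero_homology]
    refine ((H.mapIso (KFlat.swapIso (tBraid A) Q0 P ≪≫ tensSingleIso P Q)).symm ≪≫
      (@isoOfQuasiIsoAt _ _ _ _ _ _ _ (((KFlat.tens (tB A)).map (resToSingle R)).app P) i _ _
        ((quasiIso_iff _).1 h2 i)).symm ≪≫
      H.mapIso (KFlat.swapIso (tBraid A) PR P) ≪≫
      @isoOfQuasiIsoAt _ _ _ _ _ _ _ (((KFlat.tens (tB A)).map g).app PR) i _ _
        ((quasiIso_iff _).1 h1 i)).isZero_iff
  obtain ⟨g₀, hg₀⟩ := PerfLocal.exists_lift e₀.hom
  haveI : IsIso (DerivedCategory.Q.map g₀) := by rw [hg₀]; infer_instance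
  obtain ⟨g, hg⟩ := PerfLocal.exists_lift e.hom
  haveI : IsIso (DerivedCategory.Q.map g) := by rw [hg]; infer_instance
  have h0 := (key hG₀b (flat_of_projective hG₀) g₀
    ((DerivedCategory.isIso_Q_map_iff_quasiIso _ g₀).1 inferInstance)).1 (hv Q i hi)
  refine (key hGb (flat_of_projective hG) g
    ((DerivedCategory.isIso_Q_map_iff_quasiIso _ g).1 inferInstance)).2 ?_
  exact ((twist _ i (h0.of_iso (resTotIso ψ L PR))).of_iso
    ((resCx ψ).mapIso (swapTotIso N L _).symm)).of_iso (resTotIso ψ _ PR).symm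

section Composite

variable {C : Type u} [CommRing C]

/-- a flat algebra keeps the tor amplitude -/
theorem amp_flat_bc (χ : T →+* C) (hχ : χ.Flat) (θ : A →+* C) (hθ : θ = χ.comp ψ) (L : DRing.Cx T) {a b : ℤ}
    (h : DRing.HasTorAmplitudeIn A a b (DRing.toD ((resCx ψ).obj L))) :
    DRing.HasTorAmplitudeIn A a b (DRing.toD ((resCx θ).obj ((bc χ).obj L))) := by
  subst hθ
  let N := (ModuleCat.restrictScalars.{u} χ).obj (ModuleCat.of C C)
  haveI : Module.Flat T N := hχ
  let i := ModuleCat.restrictScalarsComp'.{u} ψ χ (χ.comp ψ) rfl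
  exact amp_of_iso (DerivedCategory.Q.mapIso ((resCx ψ).mapIso (bcRestrictIso χ L).symm ≪≫
    (HomologicalComplex.Hom.isoOfComponents (fun n => (i.app (((bc χ).obj L).X n)).symm)
      (fun p q _ => (i.inv.naturality (((bc χ).obj L).d p q)).symm)))) (amp_flat_tensor ψ N L h)

end Composite

section BaseChange

variable {S A' C : Type u} [CommRing S] [CommRing A'] [CommRing C]
  [Algebra A S] [Algebra A A'] [Algebra A C] [Algebra S C] [Algebra A' C]
  [IsScalarTower A S C] [IsScalarTower A A' C]

attribute [local instance] Algebra.TensorProduct.rightAlgebra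

/-- `A' ⊗_A V ≅ T ⊗_S V` for `T = S ⊗ A'` -/
noncomputable def pushEquiv (V : ModuleCat.{u} S) :
    (ModuleCat.extendScalars.{u, u, u} (algebraMap A A')).obj
        ((ModuleCat.restrictScalars.{u} (algebraMap A S)).obj V) ≃ₗ[A']
      (ModuleCat.restrictScalars.{u} (algebraMap A' (S ⊗[A] A'))).obj
        ((ModuleCat.extendScalars.{u, u, u} (algebraMap S (S ⊗[A] A'))).obj V) :=
  letI : Module A V := Module.compHom V (algebraMap A S)
  haveI : IsScalarTower A S V := IsScalarTower.of_algebraMap_smul fun _ _ => rfl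
  let eL := (extendTensorIso (B := S ⊗[A] A') (A := S) V).toLinearEquiv
  let eL' : (ModuleCat.restrictScalars.{u} (algebraMap A' (S ⊗[A] A'))).obj
      ((ModuleCat.extendScalars.{u, u, u} (algebraMap S (S ⊗[A] A'))).obj V) ≃ₗ[A'] (S ⊗[A] A') ⊗[S] V :=
    { eL.toAddEquiv with
      map_smul' := fun r x => by
        rw [RingHom.id_apply]
        exact (eL.map_smul (algebraMap A' (S ⊗[A] A') r) x).trans (algebraMap_smul (S ⊗[A] A') r _) }
  (extendTensorIso (B := A') (A := A) V).toLinearEquiv.trans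
    ((Algebra.IsPushout.cancelBaseChange A A' S (S ⊗[A] A') V).symm.trans eL'.symm)

lemma pushEquiv_natural {V W : ModuleCat.{u} S} (g : V ⟶ W)
    (x : (ModuleCat.extendScalars.{u, u, u} (algebraMap A A')).obj
        ((ModuleCat.restrictScalars.{u} (algebraMap A S)).obj V)) :
    pushEquiv W (((ModuleCat.extendScalars.{u, u, u} (algebraMap A A')).map
        ((ModuleCat.restrictScalars.{u} (algebraMap A S)).map g)).hom x) =
      ((ModuleCat.restrictScalars.{u} (algebraMap A' (S ⊗[A] A'))).map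
        ((ModuleCat.extendScalars.{u, u, u} (algebraMap S (S ⊗[A] A'))).map g)).hom (pushEquiv V x) := by
  letI : Module A V := Module.compHom V (algebraMap A S)
  haveI : IsScalarTower A S V := IsScalarTower.of_algebraMap_smul fun _ _ => rfl
  letI : Module A W := Module.compHom W (algebraMap A S)
  haveI : IsScalarTower A S W := IsScalarTower.of_algebraMap_smul fun _ _ => rfl
  induction x using TensorProduct.induction_on with
  | zero => exact ((congrArg _ (map_zero _)).trans (map_zero _)).trans ((congrArg _ (map_zero _)).trans (map_zero _)).symm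
  | add a b ha hb =>
    exact ((congrArg _ (map_add _ a b)).trans (map_add _ _ _)).trans
      ((congrArg₂ (· + ·) ha hb).trans ((congrArg _ (map_add _ a b)).trans (map_add _ _ _)).symm)
  | tmul a v =>
    have key : ∀ (U : Type u) [AddCommGroup U] [Module S U] [Module A U] [IsScalarTower A S U] (w : U),
        (Algebra.IsPushout.cancelBaseChange A A' S (S ⊗[A] A') U).symm (a ⊗ₜ w) =
          algebraMap A' (S ⊗[A] A') a ⊗ₜ w := fun U _ _ _ _ w =>
      Algebra.IsPushout.cancelBaseChange_symm_tmul A A' S (S ⊗[A] A') U a w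
    have hW := congrArg (extendTensorIso (B := S ⊗[A] A') (A := S) W).toLinearEquiv.symm (key W (g.hom v))
    have hV := congrArg (fun y => ((ModuleCat.extendScalars.{u, u, u} (algebraMap S (S ⊗[A] A'))).map g).hom
      ((extendTensorIso (B := S ⊗[A] A') (A := S) V).toLinearEquiv.symm y)) (key V v)
    exact hW.trans hV.symm

/-- `res (T ⊗_S F) ≅ A' ⊗_A (res F)` for `T = S ⊗ A'` -/
noncomputable def pushCxIso (F : DRing.Cx S) :
    (resCx (algebraMap A' (S ⊗[A] A'))).obj ((bc (algebraMap S (S ⊗[A] A'))).obj F) ≅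
      (bc (algebraMap A A')).obj ((resCx (algebraMap A S)).obj F) :=
  (HomologicalComplex.Hom.isoOfComponents (fun n => (pushEquiv (A := A) (A' := A') (F.X n)).toModuleIso)
    (fun p q _ => ModuleCat.hom_ext (LinearMap.ext fun x => (pushEquiv_natural (F.d p q) x).symm))).symm

/-- **tor amplitude under a flat change of the base, followed by a flat algebra** -/
theorem amp_bc_twist [Module.Flat A A'] (hφ : (DQCoh.BCAlg.cmpHom A S A' C).Flat) (F : DRing.Cx S) {a b : ℤ}
    (h : DRing.HasTorAmplitudeIn A a b (DRing.toD ((resCx (algebraMap A S)).obj F))) :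
    DRing.HasTorAmplitudeIn A' a b
      (DRing.toD ((resCx (algebraMap A' C)).obj ((bc (algebraMap S C)).obj F))) := by
  obtain ⟨E, hE, hEf, ⟨e⟩⟩ := h
  have hflat : (algebraMap A A').Flat := RingHom.flat_algebraMap_iff.2 inferInstance
  have h1 : DRing.HasTorAmplitudeIn A' a b (DRing.toD ((resCx (algebraMap A' (S ⊗[A] A'))).obj
      ((bc (algebraMap S (S ⊗[A] A'))).obj F))) :=
    ⟨(bc (algebraMap A A')).obj E, fun i hi => (ModuleCat.extendScalars.{u, u, u} _).map_isZero (hE i hi),
      fun i => haveI := hEf i; Module.Flat.of_linearEquiv (extendTensorIso (B := A') (A := A) (E.X i)).toLinearEquiv,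
      ⟨bcDIso _ hflat e ≪≫ DerivedCategory.Q.mapIso (pushCxIso F).symm⟩⟩
  let χ := DQCoh.BCAlg.cmpHom A S A' C
  have h2 := amp_flat_bc _ χ hφ (algebraMap A' C) (RingHom.ext fun r => by
    rw [RingHom.comp_apply]
    exact ((DQCoh.BCAlg.cmpHom_tmul (R := A) (S := S) (R' := A') (C := C) 1 r).trans
      (by rw [map_one, one_mul])).symm) _ h1
  have hcomp : algebraMap S C = χ.comp (algebraMap S (S ⊗[A] A')) := RingHom.ext fun s => by
    rw [RingHom.comp_apply]
    exact ((DQCoh.BCAlg.cmpHom_tmul (R := A) (S := S) (R' := A') (C := C) s 1).trans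
      (by rw [map_one, mul_one])).symm
  rw [hcomp]
  let i := ModuleCat.extendScalarsComp (algebraMap S (S ⊗[A] A')) χ
  exact amp_of_iso (DerivedCategory.Q.mapIso ((resCx _).mapIso
    (HomologicalComplex.Hom.isoOfComponents (fun n => (i.app (F.X n)).symm)
      (fun p q _ => (i.inv.naturality (F.d p q)).symm)))) h2

end BaseChange

end Groth.Agent.KSixLib
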