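import Groth.Agent.DQCoh.RelBC
import Groth.Agent.DQCoh.PerfCrit
import Groth.Agent.DRingKP.ResAmp
import Groth.Agent.RelPCS.FlatBase
import Groth.Agent.KSixLib.FlatTwist
import Groth.Prelude.Def_DerSch2

/-!
# Stalkwise relative tor amplitude of complexes
-/

set_option backward.isDefEq.respectTransparency false
set_option backward.isDefEq.respectTransparency.types false
set_option linter.style.haveILetI false
set_option autoImplicit false

universe u

open CategoryTheory Limits AlgebraicGeometry HomologicalComplex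

attribute [local instance] HasDerivedCategory.standard

namespace Groth.Agent.KSixLib

open Groth.Agent.DQCoh

variable {X Y Z : Scheme.{u}}

/-- the two forms of stalkwise amplitude -/
lemma torAmpAt_iff (f : X ⟶ Y) (a b : ℤ) (F : CochainComplex X.Modules ℤ) (x : X) :
    DerSch.HasTorAmplitudeAt f a b F x ↔ RelAmpAt f a b (DCoh.toD X F) x :=
  ⟨fun h => DRingKP.amp_of_iso ((stA f x).mapDerivedCategoryFactors.app F).symm h,
    fun h => DRingKP.amp_of_iso ((stA f x).mapDerivedCategoryFactors.app F) h⟩

lemma torAmp_of_iso (f : X ⟶ Y) {a b : ℤ} {F G : CochainComplex X.Modules ℤ} (e : DCoh.toD X F ≅ DCoh.toD X G)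
    (h : DerSch.HasTorAmplitude f a b F) : DerSch.HasTorAmplitude f a b G := fun x =>
  (torAmpAt_iff f a b G x).2 (relAmpAt_of_iso e ((torAmpAt_iff f a b F x).1 (h x)))

lemma torAmp_widen (f : X ⟶ Y) {a b a' b' : ℤ} (ha : a' ≤ a) (hb : b ≤ b') {F : CochainComplex X.Modules ℤ}
    (h : DerSch.HasTorAmplitude f a b F) : DerSch.HasTorAmplitude f a' b' F := fun x =>
  DRingKP.amp_widen ha hb (h x)

lemma torAmpD_of_rep (f : X ⟶ Y) {a b : ℤ} {K : DCoh.D X} {G : CochainComplex X.Modules ℤ}
    (e : DCoh.toD X G ≅ K) (h : DerSch.HasTorAmplitude f a b G) : DerSch.HasTorAmplitudeD f a b K :=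
  fun _ ⟨eF⟩ => torAmp_of_iso f (e ≪≫ eF.symm) h

/-- the stalk of the structure sheaf -/
noncomputable def stOneIso (x : X) :
    ModuleCat.of (X.presheaf.stalk x) (X.presheaf.stalk x) ≅
      (DerSch.stalkFunctor X x).obj (Coh.structureModule X) :=
  (LinearEquiv.ofBijective (KFlat.oneMap x) (KFlat.oneMap_bijective x)).toModuleIso

section Comp

variable (f : X ⟶ Y) (g : Y ⟶ Z)

/-- stalks over the base of a composite -/
noncomputable def stACompIso (x : X) :
    stA (f ≫ g) x ≅ stA f x ⋙ ModuleCat.restrictScalars.{u} (g.stalkMap (f.base x)).hom :=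
  Functor.isoWhiskerLeft (DerSch.stalkFunctor X x)
      (ModuleCat.restrictScalarsComp'.{u} (g.stalkMap (f.base x)).hom (f.stalkMap x).hom
        ((f ≫ g).stalkMap x).hom (congrArg CommRingCat.Hom.hom (Scheme.Hom.stalkMap_comp f g x))) ≪≫
    (Functor.associator _ _ _).symm

/-- **tor amplitude of composites, at a point** -/
theorem torAmpAt_comp {n : ℕ} {a b : ℤ} {F : CochainComplex X.Modules ℤ} {x : X}
    (hg : DerSch.HasTorAmplitudeAt g (-(n : ℤ)) 0 (DerSch.unitCx Y) (f.base x))
    (hF : DerSch.HasTorAmplitudeAt f a b F x) : DerSch.HasTorAmplitudeAt (f ≫ g) (a - n) b F x := by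
  letI : Algebra (Z.presheaf.stalk (g.base (f.base x))) (Y.presheaf.stalk (f.base x)) :=
    (g.stalkMap (f.base x)).hom.toAlgebra
  let eB : (stA g (f.base x)).obj (Coh.structureModule Y) ≅
      ModuleCat.of (Z.presheaf.stalk (g.base (f.base x))) (Y.presheaf.stalk (f.base x)) :=
    (ModuleCat.restrictScalars.{u} _).mapIso (stOneIso (f.base x)).symm ≪≫
      LinearEquiv.toModuleIso
        ({ toFun := fun t => t
           invFun := fun t => t
           map_add' := fun _ _ => rfl
           map_smul' := fun _ _ => rfl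
           left_inv := fun _ => rfl
           right_inv := fun _ => rfl } :
          (ModuleCat.restrictScalars.{u} (g.stalkMap (f.base x)).hom).obj
            (ModuleCat.of (Y.presheaf.stalk (f.base x)) (Y.presheaf.stalk (f.base x))) ≃ₗ[Z.presheaf.stalk
              (g.base (f.base x))] (Y.presheaf.stalk (f.base x)))
  have hB : DRing.HasTorAmplitudeIn (Z.presheaf.stalk (g.base (f.base x))) (-(n : ℤ)) 0
      (Dual.inD _ (Y.presheaf.stalk (f.base x))) :=
    DRingKP.amp_of_iso (DerivedCategory.Q.mapIso
        ((HomologicalComplex.singleMapHomologicalComplex (stA g (f.base x)) (ComplexShape.up ℤ) 0).app _ ≪≫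
          (HomologicalComplex.single _ (ComplexShape.up ℤ) 0).mapIso eB) ≪≫
      ((DerivedCategory.singleFunctorIsoCompQ _ 0).app _).symm) hg
  have h := DRingKP.amp_res n hB _ a b hF
  refine DRingKP.amp_of_iso ((ModuleCat.restrictScalars.{u} (g.stalkMap (f.base x)).hom).mapDerivedCategoryFactors.app _ ≪≫
    DerivedCategory.Q.mapIso ?_) h
  exact (HomologicalComplex.Hom.isoOfComponents (fun i => ((stACompIso f g x).app (F.X i)).symm)
    (fun p q _ => ((stACompIso f g x).inv.naturality (F.d p q)).symm))

theorem torAmp_comp {n : ℕ} (hg : DerSch.HasTorDimLE g n) {a b : ℤ} {F : CochainComplex X.Modules ℤ}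
    (hF : DerSch.HasTorAmplitude f a b F) : DerSch.HasTorAmplitude (f ≫ g) (a - n) b F := fun x =>
  torAmpAt_comp f g (hg _) (hF x)

end Comp

section BaseChange

variable {Y' : Scheme.{u}} (f : X ⟶ Y) (h : Y' ⟶ Y) [Flat h]

/-- **stalkwise tor amplitude under flat base change** -/
theorem torAmpAt_pullback (F : CochainComplex X.Modules ℤ) {a b : ℤ} (z : ↑(pullback f h))
    (hF : DerSch.HasTorAmplitudeAt f a b F ((pullback.fst f h).base z)) :
    DerSch.HasTorAmplitudeAt (pullback.snd f h) a b
      (((Scheme.Modules.pullback (pullback.fst f h)).mapHomologicalComplex (ComplexShape.up ℤ)).obj F) z := by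
  let p := pullback.fst f h
  let q := pullback.snd f h
  let x := p.base z
  let A := Y.presheaf.stalk (f.base x)
  let Rx := X.presheaf.stalk x
  let A' := Y'.presheaf.stalk (q.base z)
  let C := (pullback f h).presheaf.stalk z
  letI : Algebra A Rx := (f.stalkMap x).hom.toAlgebra
  letI : Algebra A A' := (BCStalk.baseMap f h z).hom.toAlgebra
  letI : Algebra Rx C := (p.stalkMap z).hom.toAlgebra
  letI : Algebra A' C := (q.stalkMap z).hom.toAlgebra
  letI : Algebra A C := (f.stalkMap x ≫ p.stalkMap z).hom.toAlgebra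
  haveI : IsScalarTower A Rx C := IsScalarTower.of_algebraMap_eq fun _ => rfl
  haveI : IsScalarTower A A' C := IsScalarTower.of_algebraMap_eq fun t => congr(($(BCStalk.comm f h z)).hom t)
  have hφ : (BCAlg.cmpHom A Rx A' C).Flat := BCStalk.flat_cmpHom f h z
  haveI : Module.Flat A A' := by
    refine RingHom.flat_algebraMap_iff.1 ?_
    change (h.stalkMap (q.base z)).hom.comp
      (Y.presheaf.stalkSpecializes (specializes_of_eq (BCStalk.base_eq f h z))).hom |>.Flat
    refine RingHom.Flat.comp (RingHom.Flat.of_bijective ?_) (Flat.stalkMap h _)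
    exact ConcreteCategory.bijective_of_isIso (Y.presheaf.stalkCongr (.of_eq (BCStalk.base_eq f h z))).inv
  have h1 := amp_bc_twist (A := A) (S := Rx) (A' := A') (C := C) hφ ((KFlat.stCx x).obj F) hF
  let i := Functor.isoWhiskerRight (KFlat.pullStalkIso p z) (ModuleCat.restrictScalars.{u} (q.stalkMap z).hom)
  refine DRingKP.amp_of_iso (DerivedCategory.Q.mapIso ?_) h1
  exact (HomologicalComplex.Hom.isoOfComponents (fun n => i.app (F.X n))
    (fun m n _ => (i.hom.naturality (F.d m n)).symm)).symm

theorem torAmpD_Lpull [DCoh.HasLpull (pullback.fst f h)] {a b : ℤ} (F : CochainComplex X.Modules ℤ)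
    (hF : DerSch.HasTorAmplitude f a b F) :
    DerSch.HasTorAmplitudeD (pullback.snd f h) a b ((DCoh.Lpull (pullback.fst f h)).obj (DCoh.toD X F)) :=
  torAmpD_of_rep _
    (((Scheme.Modules.pullback (pullback.fst f h)).mapDerivedCategoryFactors.app F).symm ≪≫
      (RelPCS.nonempty_lpullFlat (pullback.fst f h) _).some.symm)
    fun z => torAmpAt_pullback f h F z (hF _)

end BaseChange

end Groth.Agent.KSixLib
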