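import Groth.Agent.KSixLib.TorPushLoc
import Groth.Agent.RelPCS.Comp
import Groth.Agent.PCMor.Scheme
import Groth.Agent.PCMor.Stalk

/-!
# Perfect morphisms and relative perfection
-/

set_option backward.isDefEq.respectTransparency false
set_option backward.isDefEq.respectTransparency.types false
set_option linter.style.haveILetI false
set_option autoImplicit false

universe u

open CategoryTheory Limits AlgebraicGeometry HomologicalComplex

attribute [local instance] HasDerivedCategory.standard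

namespace Groth.Agent.KSixLib

variable {X Y : Scheme.{u}} (f : X ⟶ Y)

/-- pseudo-coherent morphisms have relatively pseudo-coherent structure sheaf -/
theorem nPseudoCoherent_of_pcMor [LocallyOfFiniteType f] (h : MoreMor.IsPseudoCoherentMor f) (m : ℤ) :
    DerSch.IsNPseudoCoherent f m := by
  refine RelPCS.rel_of_qpc fun U hU V hV hle n φ hφ => ⟨hφ.1, ?_⟩
  haveI := RelPCS.closedImm_sp hφ.1
  have hp : RelPC.PCHom φ := PCMor.PC.pcHom (h U V hU hV hle) hφ.1 hφ.2
  refine DQCoh.pc_of_iso ((RelPCS.PD (RelPCS.sp φ)).mapIso ?_).symm (RelPCS.hypO_sp hφ.1 hp m)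
  exact (DQCoh.RD hU.fromSpec).mapIso ((DerivedCategory.singleFunctorIsoCompQ X.Modules 0).app _).symm ≪≫
    RelPCS.rdInD hU.fromSpec (Coh.structureModule X) ≪≫
    (DerivedCategory.singleFunctor _ 0).mapIso (Scheme.Modules.restrictUnitIso hU.fromSpec)

/-- perfect morphisms are locally of finite tor dimension -/
theorem locTorDim_of_perfectMor (h : MoreMor.IsPerfectMor f) : DerSch.LocFiniteTorDim f := fun x => by
  obtain ⟨U, V, hU, hV, hx, hUV, -⟩ := PCMor.exists_pair f x (W := ⊤) trivial
  let A := Γ(Y, V)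
  let B := Γ(X, U)
  letI : Algebra A B := (f.appLE V U hUV).hom.toAlgebra
  obtain ⟨d, hd⟩ := (h U V hU hV hUV).2
  refine ⟨U, -(d : ℤ), 0, hx, fun z hz => ?_⟩
  let Ap := Y.presheaf.stalk (f.base z)
  let C := X.presheaf.stalk z
  letI : Algebra B C := (X.presheaf.germ U z hz).hom.toAlgebra
  haveI : IsLocalization.AtPrime C (hU.primeIdealOf ⟨z, hz⟩).asIdeal := hU.isLocalization_stalk ⟨z, hz⟩
  haveI : Module.Flat B C := IsLocalization.flat C (hU.primeIdealOf ⟨z, hz⟩).asIdeal.primeCompl
  letI : Algebra A Ap := (Y.presheaf.germ V (f.base z) (hUV hz)).hom.toAlgebra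
  haveI : IsLocalization.AtPrime Ap (hV.primeIdealOf ⟨f.base z, hUV hz⟩).asIdeal :=
    hV.isLocalization_stalk ⟨f.base z, hUV hz⟩
  letI : Algebra A C := ((X.presheaf.germ U z hz).hom.comp (f.appLE V U hUV).hom).toAlgebra
  letI : Algebra Ap C := (f.stalkMap z).hom.toAlgebra
  haveI : IsScalarTower A B C := IsScalarTower.of_algebraMap_eq' rfl
  haveI : IsScalarTower A Ap C := IsScalarTower.of_algebraMap_eq' (show
      (X.presheaf.germ U z hz).hom.comp (f.appLE V U hUV).hom =
        (f.stalkMap z).hom.comp (Y.presheaf.germ V (f.base z) (hUV hz)).hom by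
    rw [← CommRingCat.hom_comp, ← CommRingCat.hom_comp, Scheme.Hom.germ_stalkMap, Scheme.Hom.appLE,
      Category.assoc, X.presheaf.germ_res])
  let res := ModuleCat.restrictScalars.{u} (algebraMap A B)
  let eC : res.obj (ModuleCat.of B C) ≅ ModuleCat.of A C :=
    ({ toFun := fun t => t
       map_add' := fun _ _ => rfl
       map_smul' := fun c t => algebraMap_smul (A := B) (M := C) c t
       invFun := fun t => t
       left_inv := fun _ => rfl
       right_inv := fun _ => rfl } : res.obj (ModuleCat.of B C) ≃ₗ[A] C).toModuleIso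
  have h1 : DRing.HasTorDimLE A d C := (DRingKP.hasTorDimLE_iff C d).2 (DRingKP.amp_of_iso
    ((res.mapDerivedCategorySingleFunctor 0).app _ ≪≫
      (DerivedCategory.singleFunctor (ModuleCat.{u} A) 0).mapIso eC)
    (DRingKP.amp_widen (by simp) le_rfl
      (DRingKP.amp_res d ((DRingKP.hasTorDimLE_iff B d).1 hd) _ 0 0
        ((DRingKP.amp_zero_iff_flat C).2 inferInstance))))
  have h2 := PCMor.amp_ascend_localization (hV.primeIdealOf ⟨f.base z, hUV hz⟩).asIdeal.primeCompl Ap C d h1
  let eS : (DQCoh.stA f z).obj (Coh.structureModule X) ≅ ModuleCat.of Ap C :=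
    (ModuleCat.restrictScalars.{u} (f.stalkMap z).hom).mapIso (stOneIso z).symm ≪≫
      LinearEquiv.toModuleIso
        ({ toFun := fun t => t
           invFun := fun t => t
           map_add' := fun _ _ => rfl
           map_smul' := fun _ _ => rfl
           left_inv := fun _ => rfl
           right_inv := fun _ => rfl } :
          (ModuleCat.restrictScalars.{u} (f.stalkMap z).hom).obj (ModuleCat.of C C) ≃ₗ[Ap] C)
  exact DRingKP.amp_of_iso (DerivedCategory.Q.mapIso
      ((HomologicalComplex.singleMapHomologicalComplex (DQCoh.stA f z) (ComplexShape.up ℤ) 0).app _ ≪≫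
        (HomologicalComplex.single _ (ComplexShape.up ℤ) 0).mapIso eS) ≪≫
      ((DerivedCategory.singleFunctorIsoCompQ _ 0).app _).symm).symm h2

/-- **`Rf_*` preserves perfect objects**, given pseudo-coherence of the direct image -/
theorem isPerfect_push [DCoh.HasRpush f] [QuasiCompact f] [QuasiSeparated f] (h : MoreMor.IsPerfectMor f)
    (E : DCoh.D X) (hE : DCoh.IsPerfect E) (hq : DCoh.IsQCohD E)
    (hpc : ∀ m, DCoh.IsPseudoCoherentD m ((DCoh.Rpush f).obj E)) : DCoh.IsPerfect ((DCoh.Rpush f).obj E) := by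
  obtain ⟨F, -, -, ⟨e⟩⟩ := KFlat.exists_isKFlat_rep E
  refine (DQCoh.isPerfect_iff_pc_locTor _).2 ⟨hpc, ?_⟩
  have hF : DCoh.LocHasFiniteTorDim (DCoh.toD X F) := fun x => by
    obtain ⟨V, a, b, hx, hV⟩ := ((DQCoh.isPerfect_iff_pc_locTor E).1 hE).2 x
    exact ⟨V, a, b, hx, fun F' ⟨e'⟩ => hV F' ⟨e' ≪≫ e⟩⟩
  have h' := locTor_push f (locTorDim_of_perfectMor f h) F
    (fun i => QC.isQCoh_of_iso ((DerivedCategory.homologyFunctor _ i).mapIso e).symm (hq i)) hF
  intro y
  obtain ⟨V, a, b, hy, hV⟩ := h' y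
  exact ⟨V, a, b, hy, fun F' ⟨e'⟩ => hV F' ⟨e' ≪≫ ((DCoh.Rpush f).mapIso e).symm⟩⟩

end Groth.Agent.KSixLib
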