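import Groth.Agent.DRingKP.TorMore
import Groth.Agent.DRingKP.Amp
import Groth.Agent.DRingKP.Restrict
import Groth.Agent.DRingKP.FlatBC
import Groth.Agent.S7131
import Groth.Agent.S7066
import Groth.Agent.PCMor.Stalk

/-!
# Tor amplitude ascends along smooth algebras of bounded relative dimension
-/

set_option autoImplicit false
set_option linter.style.haveILetI false
set_option backward.isDefEq.respectTransparency false
set_option backward.isDefEq.respectTransparency.types false
universe u

namespace Groth.Agent.KSixLib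

open CategoryTheory Limits DerivedCategory HomologicalComplex
open Groth.Agent.DRingKP

attribute [local instance] HasDerivedCategory.standard

/-- modules flat over the base have tor dimension at most `d` -/
def FlatTd {A B : Type u} [CommRing A] [CommRing B] (φ : A →+* B) (d : ℕ) : Prop :=
  ∀ M : ModuleCat.{u} B, Module.Flat A ((ModuleCat.restrictScalars.{u} φ).obj M) →
    DRing.HasTorAmplitudeIn B (-(d : ℤ)) 0 (Dual.inD B M)

variable {A B : Type u} [CommRing A] [CommRing B]

/-- **complexes of finite tor amplitude over the base** -/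
theorem amp_ascend (φ : A →+* B) (hφ : φ.Flat) {d : ℕ} (hd : FlatTd φ d) (K : Dual.D B) {a b : ℤ}
    (h : DRing.HasTorAmplitudeIn A a b ((DRing.restrictD φ).obj K)) :
    DRing.HasTorAmplitudeIn B (a - d) b K := by
  have hK : IsAbove (b + 1) K := (isAbove_res φ).1 (torVan_isAbove h)
  obtain ⟨P, c, hc, hP, ⟨eP⟩⟩ := exists_proj_rep_le K ⟨_, hK⟩
  have hPf := flat_of_projective hP
  let res := ModuleCat.restrictScalars.{u} φ
  let Q : DRing.Cx A := (res.mapHomologicalComplex (ComplexShape.up ℤ)).obj P
  have hQb : DRing.VanishesAbove Q c := fun i hi => res.map_isZero (hc i hi)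
  have hQf : DRing.TermwiseFlat Q := fun i => by
    letI : Algebra A B := φ.toAlgebra
    letI : Module A (P.X i) := Module.compHom _ φ
    haveI : IsScalarTower A B (P.X i) := IsScalarTower.of_algebraMap_smul fun _ _ => rfl
    haveI : Module.Flat A B := hφ
    haveI := hPf i
    exact (Module.Flat.trans A B (P.X i) : Module.Flat A (P.X i))
  let eQ : DRing.toD Q ≅ (DRing.restrictD φ).obj K :=
    (res.mapDerivedCategoryFactors.app P).symm ≪≫ (DRing.restrictD φ).mapIso eP
  have hQamp := amp_of_iso eQ.symm h
  let C := ModuleCat.of B (P.X a ⧸ LinearMap.range (P.d (a - 1) a).hom)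
  have hC : Module.Flat A (res.obj C) := by
    haveI := flat_coker_of_amp hQb hQf hQamp
    exact Module.Flat.of_linearEquiv (M := Q.X a ⧸ LinearMap.range (Q.d (a - 1) a).hom)
      { toFun := fun x => x
        map_add' := fun _ _ => rfl
        map_smul' := fun r x => by
          obtain ⟨y, rfl⟩ := Submodule.Quotient.mk_surjective _ x
          rfl
        invFun := fun x => x
        left_inv := fun _ => rfl
        right_inv := fun _ => rfl }
  haveI : P.IsGE a := (CochainComplex.isGE_iff P a).2 fun i hi => by
    rw [exactAt_iff_isZero_homology]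
    have h1 : IsZero ((DerivedCategory.homologyFunctor (ModuleCat.{u} A) i).obj ((DRing.restrictD φ).obj K)) := by
      obtain ⟨E, hE, -, ⟨e⟩⟩ := h
      exact ((ShortComplex.isZero_homology_of_isZero_X₂ _ (hE i (Or.inl hi))).of_iso
        ((homologyFunctorFactors _ i).app E)).of_iso
          ((DerivedCategory.homologyFunctor (ModuleCat.{u} A) i).mapIso e).symm
    haveI := ModuleCat.subsingleton_of_isZero (h1.of_iso (resHHIso φ K i).symm)
    have h2 : IsZero ((DerivedCategory.homologyFunctor (ModuleCat.{u} B) i).obj K) :=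
      @ModuleCat.isZero_of_subsingleton _ _ _ ‹_›
    exact (h2.of_iso ((DerivedCategory.homologyFunctor (ModuleCat.{u} B) i).mapIso eP)).of_iso
      ((homologyFunctorFactors _ i).app P).symm
  haveI : QuasiIso (P.πTruncGE a) := (CochainComplex.quasiIso_πTruncGE_iff P a).2 inferInstance
  haveI : P.IsStrictlyLE c := (CochainComplex.isStrictlyLE_iff P c).2 hc
  let τ := P.truncGE a
  have hτ : DRing.VanishesOutside τ a c := fun i hi => by
    rcases hi with hi | hi
    · exact τ.isZero_of_isStrictlyGE a i hi
    · exact τ.isZero_of_isStrictlyLE c i hi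
  let eC : τ.X a ≅ C := P.truncGEXIsoOpcycles a ≪≫ P.opcyclesIsoSc' (a - 1) a (a + 1) (by simp) (by simp) ≪≫
    (P.sc' (a - 1) a (a + 1)).moduleCatOpcyclesIso
  refine amp_shrink (b := max (max a b) c) (amp_of_iso ((asIso (DerivedCategory.Q.map (P.πTruncGE a))).symm ≪≫ eP)
    (amp_of_termwise _ _ a c τ hτ fun i => ?_)) hK
  by_cases hic : i < a ∨ c < i
  · exact amp_of_isZero _ _ ((DerivedCategory.singleFunctor (ModuleCat.{u} B) 0).map_isZero (hτ i hic))
  rcases lt_trichotomy i a with hi | rfl | hi
  · exact absurd (Or.inl hi) hic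
  · exact amp_widen (by lia) (by lia)
      (amp_of_iso ((DerivedCategory.singleFunctor (ModuleCat.{u} B) 0).mapIso eC.symm) (hd C hC))
  · haveI : Module.Flat B (P.X i) := hPf i
    have hfl : Module.Flat B (τ.X i) := Module.Flat.of_linearEquiv (P.truncGEXIso a i hi).toLinearEquiv
    exact amp_widen (a := 0) (b := 0) (by lia) (by lia) ((amp_zero_iff_flat (τ.X i)).2 hfl)

/-- étale over a polynomial ring, then localised, over a localisation of the base -/
theorem flatTd_local {A₀ B₀ : Type u} [CommRing A₀] [CommRing B₀] {d : ℕ}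
    (g : MvPolynomial (Fin d) A₀ →+* B₀) (hg : g.Etale) [Algebra A₀ A] [Module.Flat A₀ A] [Algebra B₀ B]
    (S : Submonoid B₀) [IsLocalization S B] (φ : A →+* B)
    (hc : φ.comp (algebraMap A₀ A) = (algebraMap B₀ B).comp (g.comp MvPolynomial.C)) : FlatTd φ d := by
  intro M hM
  letI := g.toAlgebra
  haveI : Algebra.Etale (MvPolynomial (Fin d) A₀) B₀ := hg
  letI : Module B₀ M := Module.compHom M (algebraMap B₀ B)
  haveI : IsScalarTower B₀ B M := IsScalarTower.of_algebraMap_smul fun _ _ => rfl
  letI : Module (MvPolynomial (Fin d) A₀) M := Module.compHom M g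
  letI : Module A₀ M := Module.compHom M (g.comp MvPolynomial.C)
  haveI : IsScalarTower A₀ (MvPolynomial (Fin d) A₀) M := IsScalarTower.of_algebraMap_smul fun _ _ => rfl
  letI : Module A M := Module.compHom M φ
  haveI : IsScalarTower A₀ A M := IsScalarTower.of_algebraMap_smul fun r m => by
    change φ (algebraMap A₀ A r) • m = algebraMap B₀ B (g (MvPolynomial.C r)) • m
    exact congrArg (fun c => c • m) (RingHom.congr_fun hc r)
  haveI : Module.Flat A M := hM
  haveI : Module.Flat A₀ M := Module.Flat.trans A₀ A M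
  have h0 : DRing.HasTorAmplitudeIn A₀ (-((0 : ℕ) : ℤ)) 0 (Dual.inD A₀ M) := by
    simpa using (amp_zero_iff_flat (A := A₀) M).2 inferInstance
  have h1 := S7066.amp_mvPolynomial (A := A₀) d 0 M h0
  rw [Nat.zero_add] at h1
  have h2 : DRing.HasTorAmplitudeIn B₀ (-(d : ℤ)) 0 (Dual.inD B₀ (ModuleCat.of B₀ M)) := by
    refine S7131.key (Algebra.WeaklyEtale.flat_lmul' (MvPolynomial (Fin d) A₀) B₀) d (ModuleCat.of B₀ M)
      ((hasTorDimLE_iff _ d).2 (amp_of_iso ((DerivedCategory.singleFunctor _ 0).mapIso
        (LinearEquiv.toModuleIso ?_)) h1))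
    exact
      { toFun := fun x => x
        map_add' := fun _ _ => rfl
        map_smul' := fun _ _ => rfl
        invFun := fun x => x
        left_inv := fun _ => rfl
        right_inv := fun _ => rfl }
  exact PCMor.amp_ascend_localization S B M d ((hasTorDimLE_iff _ d).2 h2)

end Groth.Agent.KSixLib
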