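import Groth.Agent.KSixLib.Push
import Groth.Agent.KSixLib.SmoothRing
import Mathlib.AlgebraicGeometry.Morphisms.Smooth

/-!
# Absolute amplitude from amplitude over a base, for smooth morphisms
-/

set_option backward.isDefEq.respectTransparency false
set_option backward.isDefEq.respectTransparency.types false
set_option linter.style.haveILetI false
set_option autoImplicit false

universe u

open CategoryTheory Limits AlgebraicGeometry HomologicalComplex

attribute [local instance] HasDerivedCategory.standard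

namespace Groth.Agent.KSixLib

open Groth.Agent.DQCoh

variable {Y S : Scheme.{u}} (g : Y ⟶ S)

/-- an affine standard smooth chart at a point -/
lemma exists_smooth_chart (V : Y.Opens) {n : ℕ} [SmoothOfRelativeDimension n (V.ι ≫ g)] {y : Y} (hy : y ∈ V) :
    ∃ (U : S.Opens) (_ : IsAffineOpen U) (W : Y.Opens) (_ : IsAffineOpen W) (_ : y ∈ W) (e : W ≤ g ⁻¹ᵁ U),
      W ≤ V ∧ (g.appLE U W e).hom.IsStandardSmoothOfRelativeDimension n := by
  obtain ⟨U, hU, W, hW, hv, e, h⟩ := SmoothOfRelativeDimension.exists_isStandardSmoothOfRelativeDimension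
    (n := n) (f := V.ι ≫ g) ⟨y, hy⟩
  refine ⟨U, hU, V.ι ''ᵁ W, hW.image_of_isOpenImmersion V.ι, ⟨_, hv, rfl⟩, ?_, ?_, ?_⟩
  · rintro _ ⟨v, hv, rfl⟩; exact e hv
  · exact V.ι_image_le W
  · have : g.appLE U (V.ι ''ᵁ W) (by rintro _ ⟨v, hv, rfl⟩; exact e hv) = (V.ι ≫ g).appLE U W e := by
      rw [Scheme.Hom.comp_appLE, Scheme.Opens.ι_appLE, Scheme.Hom.appLE]
    rw [this]
    exact h

/-- the stalk map at a point of a chart -/
theorem flatTd_of_chart {U : S.Opens} (hU : IsAffineOpen U) {W : Y.Opens} (hW : IsAffineOpen W) (e : W ≤ g ⁻¹ᵁ U)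
    {n : ℕ} (h : (g.appLE U W e).hom.IsStandardSmoothOfRelativeDimension n) {y : Y} (hyW : y ∈ W) :
    FlatTd (g.stalkMap y).hom n := by
  obtain ⟨q, hq, hq'⟩ := h.exists_etale_mvPolynomial
  have hsU : g.base y ∈ U := e hyW
  letI : Algebra Γ(S, U) (S.presheaf.stalk (g.base y)) := (S.presheaf.germ U (g.base y) hsU).hom.toAlgebra
  letI : Algebra Γ(Y, W) (Y.presheaf.stalk y) := (Y.presheaf.germ W y hyW).hom.toAlgebra
  haveI : IsLocalization (hU.primeIdealOf ⟨_, hsU⟩).asIdeal.primeCompl (S.presheaf.stalk (g.base y)) :=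
    hU.isLocalization_stalk ⟨_, hsU⟩
  haveI : IsLocalization (hW.primeIdealOf ⟨_, hyW⟩).asIdeal.primeCompl (Y.presheaf.stalk y) :=
    hW.isLocalization_stalk ⟨_, hyW⟩
  haveI : Module.Flat Γ(S, U) (S.presheaf.stalk (g.base y)) :=
    IsLocalization.flat _ (hU.primeIdealOf ⟨_, hsU⟩).asIdeal.primeCompl
  refine flatTd_local q hq' (hW.primeIdealOf ⟨_, hyW⟩).asIdeal.primeCompl _ ?_
  rw [hq, RingHom.algebraMap_toAlgebra, RingHom.algebraMap_toAlgebra, ← CommRingCat.hom_comp, ← CommRingCat.hom_comp]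
  refine congrArg CommRingCat.Hom.hom ?_
  erw [g.germ_stalkMap U y hsU]
  rw [Scheme.Hom.appLE, Category.assoc]
  exact congrArg (g.app U ≫ ·) (Y.presheaf.germ_res (homOfLE e) y hyW).symm

/-- the stalk map at a point of a smooth morphism -/
theorem flatTd_stalkMap (V : Y.Opens) {n : ℕ} [SmoothOfRelativeDimension n (V.ι ≫ g)] {y : Y} (hy : y ∈ V) :
    FlatTd (g.stalkMap y).hom n := by
  obtain ⟨U, hU, W, hW, hyW, e, -, h⟩ := exists_smooth_chart g V (n := n) hy
  exact flatTd_of_chart g hU hW e h hyW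

/-- every point has a neighbourhood of bounded relative dimension -/
theorem exists_flatTd_nhd [Smooth g] (y : Y) :
    ∃ (W : Y.Opens) (n : ℕ), y ∈ W ∧ ∀ z ∈ W, FlatTd (g.stalkMap z).hom n := by
  obtain ⟨U, hU, W, hW, hy, e, h⟩ := Smooth.exists_isStandardSmooth g y
  obtain ⟨ι, σ, _, _, ⟨P⟩⟩ := h
  exact ⟨W, _, hy, fun z hz => flatTd_of_chart g hU hW e
    (letI := (g.appLE U W e).hom.toAlgebra; ⟨ι, σ, _, ‹_›, P, rfl⟩) hz⟩

lemma FlatTd.mono {A B : Type u} [CommRing A] [CommRing B] {φ : A →+* B} {n d : ℕ} (hnd : n ≤ d)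
    (h : FlatTd φ n) : FlatTd φ d := fun M hM => DRingKP.amp_widen (by lia) le_rfl (h M hM)

/-- **absolute amplitude at a point** -/
theorem torAmpAt_ascend [Flat g] {d : ℕ} {y : Y} (hd : FlatTd (g.stalkMap y).hom d) {a b : ℤ}
    (G : CochainComplex Y.Modules ℤ) (h : DerSch.HasTorAmplitudeAt g a b G y) :
    DerSch.HasTorAmplitudeAt (𝟙 Y) (a - d) b G y := by
  have h1 : DRing.HasTorAmplitudeIn (Y.presheaf.stalk y) (a - d) b (DRing.toD ((KFlat.stCx y).obj G)) :=
    amp_ascend (g.stalkMap y).hom (Flat.stalkMap g y) hd _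
      (DRingKP.amp_of_iso (((ModuleCat.restrictScalars.{u} (g.stalkMap y).hom).mapDerivedCategoryFactors.app _).symm) h)
  have hid : ((𝟙 Y : Y ⟶ Y).stalkMap y).hom = RingHom.id (Y.presheaf.stalk y) :=
    congrArg CommRingCat.Hom.hom (Scheme.Hom.stalkMap_id Y y)
  let i : DerSch.stalkFunctor Y y ≅ stA (𝟙 Y) y :=
    (Functor.rightUnitor _).symm ≪≫
      Functor.isoWhiskerLeft _ (ModuleCat.restrictScalarsId' _ hid).symm
  exact DRingKP.amp_of_iso (DerivedCategory.Q.mapIso
    (HomologicalComplex.Hom.isoOfComponents (fun n => i.app (G.X n))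
      (fun p q _ => (i.hom.naturality (G.d p q)).symm))) h1

variable {X : Scheme.{u}} (i : X ⟶ Y) [IsClosedImmersion i]

/-- stalks off the closed subscheme -/
lemma torAmpAt_push_off (a b : ℤ) (F : CochainComplex X.Modules ℤ) {y : Y} (hy : y ∉ Set.range i.base) :
    DerSch.HasTorAmplitudeAt g a b
      (((Scheme.Modules.pushforward i).mapHomologicalComplex (ComplexShape.up ℤ)).obj F) y := by
  have hz : ∀ n, IsZero ((stA g y).obj ((Scheme.Modules.pushforward i).obj (F.X n))) := fun n =>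
    @ModuleCat.isZero_of_subsingleton _ _ _ (KFlat.subsingleton_stalk_push i (F.X n) hy)
  refine ⟨((DerSch.stalkCxOver g y).obj
    (((Scheme.Modules.pushforward i).mapHomologicalComplex (ComplexShape.up ℤ)).obj F)), fun n _ => hz n,
    fun n => ?_, ⟨Iso.refl _⟩⟩
  haveI := ModuleCat.subsingleton_of_isZero (hz n)
  exact inferInstanceAs (Module.Flat _ ((stA g y).obj ((Scheme.Modules.pushforward i).obj (F.X n))))

lemma torAmpAt_push_all {a b : ℤ} (F : CochainComplex X.Modules ℤ) (y : Y)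
    (hF : ∀ x, i.base x = y → DerSch.HasTorAmplitudeAt (i ≫ g) a b F x) :
    DerSch.HasTorAmplitudeAt g a b
      (((Scheme.Modules.pushforward i).mapHomologicalComplex (ComplexShape.up ℤ)).obj F) y := by
  by_cases hy : y ∈ Set.range i.base
  · obtain ⟨x, rfl⟩ := hy
    exact (torAmpAt_push i g F x).2 (hF x rfl)
  · exact torAmpAt_push_off g i a b F hy

/-- flatness over the image of an open immersion -/
lemma isFlat_of_flatOver_openImm {U : Scheme.{u}} (j : U ⟶ Y) [IsOpenImmersion j] {M : U.Modules}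
    (h : FlatMod.IsFlatOver j M) : FlatMod.IsFlat M := fun v => by
  let A := Y.presheaf.stalk (j.base v)
  let B := U.presheaf.stalk v
  letI : Algebra A B := (j.stalkMap v).hom.toAlgebra
  let e : A ≃ₐ[A] B :=
    AlgEquiv.ofBijective (Algebra.ofId A B) (ConcreteCategory.bijective_of_isIso (j.stalkMap v))
  haveI : IsLocalization (IsUnit.submonoid A) B := IsLocalization.isLocalization_of_algEquiv _ e
  letI : Module A (M.presheaf.stalk v) := Module.compHom _ (j.stalkMap v).hom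
  haveI : IsScalarTower A B (M.presheaf.stalk v) := IsScalarTower.of_algebraMap_smul fun _ _ => rfl
  haveI : Module.Flat A (M.presheaf.stalk v) := h v
  exact (Module.flat_iff_of_isLocalization B (IsUnit.submonoid A) (M := M.presheaf.stalk v)).2 inferInstance

/-- flat amplitude on an open, stalkwise -/
theorem flatAmp_restrict (V : Y.Opens) {a b : ℤ} (F : CochainComplex Y.Modules ℤ)
    (h : ∀ y ∈ V, DerSch.HasTorAmplitudeAt (𝟙 Y) a b F y) :
    DCoh.HasFlatAmplitudeIn a b (DerivedCategory.Q.obj ((DCoh.restrictCx V).obj F)) := by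
  obtain ⟨E, hE, hEf, e⟩ := hasRel_of_relAmp (f := V.ι ≫ 𝟙 Y) fun v =>
    (relAmpAt_restrict_iff V F a b v).2 ((torAmpAt_iff (𝟙 Y) a b F _).1 (h _ v.2))
  exact ⟨E, hE, fun n => isFlat_of_flatOver_openImm (V.ι ≫ 𝟙 Y) (hEf n), e⟩

theorem locTor_of_stalks (F : CochainComplex Y.Modules ℤ)
    (h : ∀ y : Y, ∃ (V : Y.Opens) (a b : ℤ), y ∈ V ∧ ∀ z ∈ V, DerSch.HasTorAmplitudeAt (𝟙 Y) a b F z) :
    DCoh.LocHasFiniteTorDim (DCoh.toD Y F) := fun y => by
  obtain ⟨V, a, b, hy, hV⟩ := h y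
  exact ⟨V, a, b, hy, fun F' ⟨e⟩ => flatAmp_restrict V F' fun z hz =>
    (torAmpAt_iff _ a b F' z).2 (relAmpAt_of_iso e.symm ((torAmpAt_iff _ a b F z).1 (hV z hz)))⟩

theorem stalks_of_locTor {F : CochainComplex Y.Modules ℤ} (h : DCoh.LocHasFiniteTorDim (DCoh.toD Y F)) :
    ∀ y : Y, ∃ (V : Y.Opens) (a b : ℤ), y ∈ V ∧ ∀ z ∈ V, DerSch.HasTorAmplitudeAt (𝟙 Y) a b F z := fun y => by
  obtain ⟨V, a, b, hy, hV⟩ := h y
  obtain ⟨E, hE, hEf, e⟩ := hV F ⟨Iso.refl _⟩
  refine ⟨V, a, b, hy, fun z hz => (torAmpAt_iff _ a b F z).2 ((relAmpAt_restrict_iff V F a b ⟨z, hz⟩).1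
    (relAmpAt_of_rel ⟨E, hE, fun n => flatOver_of_flat _ (hEf n), e⟩ _))⟩

/-- amplitude over the base from absolute amplitude, at a point -/
theorem torAmpAt_of_id [Flat g] {a b : ℤ} {G : CochainComplex Y.Modules ℤ} {y : Y}
    (h : DerSch.HasTorAmplitudeAt (𝟙 Y) a b G y) : DerSch.HasTorAmplitudeAt g a b G y := by
  have hu : DerSch.HasTorAmplitude g 0 0 (DerSch.unitCx Y) :=
    (torAmp_single_zero_iff g _).2 ((isFlatOver_unit_iff g).2 inferInstance)
  have h1 := torAmpAt_comp (𝟙 Y) g (n := 0) (a := a) (b := b) (by simpa using hu _) h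
  have key : ∀ (g' : Y ⟶ S), g' = g → DerSch.HasTorAmplitudeAt g' (a - (0 : ℕ)) b G y →
      DerSch.HasTorAmplitudeAt g a b G y := fun g' e h' => by subst e; simpa using h'
  exact key _ (Category.id_comp g) h1

/-- **local finiteness of relative amplitude on a closed subscheme of a smooth scheme** -/
theorem locAmp_push_iff [Smooth g] (F : CochainComplex X.Modules ℤ) :
    DerSch.LocFiniteTorAmplitude (i ≫ g) F ↔ DCoh.LocHasFiniteTorDim
      (DCoh.toD Y (((Scheme.Modules.pushforward i).mapHomologicalComplex (ComplexShape.up ℤ)).obj F)) := by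
  constructor
  · intro h
    refine locTor_of_stalks _ fun y => ?_
    obtain ⟨W, n, hyW, hW⟩ := exists_flatTd_nhd g y
    by_cases hy : y ∈ Set.range i.base
    · obtain ⟨x, rfl⟩ := hy
      obtain ⟨V, a, b, hx, hV⟩ := h x
      obtain ⟨O, hO⟩ := RelPCS.exists_preimage_eq i V
      subst hO
      exact ⟨W ⊓ O, a - n, b, ⟨hyW, hx⟩, fun z hz => torAmpAt_ascend g (hW z hz.1) _
        (torAmpAt_push_all g i F z fun x' hx' => hV x' (show i.base x' ∈ O by rw [hx']; exact hz.2))⟩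
    · exact ⟨⟨(Set.range i.base)ᶜ, i.isClosedEmbedding.isClosed_range.isOpen_compl⟩, 0, 0, hy,
        fun z hz => torAmpAt_push_off (𝟙 Y) i 0 0 F hz⟩
  · intro h x
    obtain ⟨V, a, b, hx, hV⟩ := stalks_of_locTor h (i.base x)
    exact ⟨i ⁻¹ᵁ V, a, b, hx, fun x' hx' => (torAmpAt_push i g F x').1 (torAmpAt_of_id g (hV _ hx'))⟩

/-- **absolute amplitude of the direct image** -/
theorem flatAmp_push [Flat g] {d : ℕ} (hd : ∀ y : Y, FlatTd (g.stalkMap y).hom d) {a b : ℤ}
    (F : CochainComplex X.Modules ℤ) (hF : DerSch.HasTorAmplitude (i ≫ g) a b F) :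
    DCoh.HasFlatAmplitudeIn (a - d) b
      (DCoh.toD Y (((Scheme.Modules.pushforward i).mapHomologicalComplex (ComplexShape.up ℤ)).obj F)) :=
  flatAmp_iff.2 fun y => (torAmpAt_iff (𝟙 Y) _ b _ y).1
    (torAmpAt_ascend g (hd y) _ (torAmpAt_push_all g i F y fun x _ => hF x))

end Groth.Agent.KSixLib
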