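import Groth.Agent.KSixLib.TensorRing
import Groth.Agent.KSixLib.Bridge
import Groth.Agent.KSixLib.Ascend
import Groth.Agent.KFlat.LTensorCx
import Groth.Agent.KFlat.TorFlat

/-!
# Tor amplitude of derived pullbacks and tensor products on schemes
-/

set_option backward.isDefEq.respectTransparency false
set_option backward.isDefEq.respectTransparency.types false
set_option linter.style.haveILetI false
set_option autoImplicit false

universe u

open CategoryTheory Limits AlgebraicGeometry HomologicalComplex MonoidalCategory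

attribute [local instance] HasDerivedCategory.standard

namespace Groth.Agent.KSixLib

open Groth.Agent.DQCoh

variable {X Y Z : Scheme.{u}} (f : X ⟶ Y)

/-- stalks of pullback complexes -/
noncomputable def pullStalkCx (x : X) (G : CochainComplex Y.Modules ℤ) :
    (KFlat.stCx x).obj (((Scheme.Modules.pullback f).mapHomologicalComplex (ComplexShape.up ℤ)).obj G) ≅
      (DRingKP.bc (f.stalkMap x).hom).obj ((KFlat.stCx (f.base x)).obj G) :=
  HomologicalComplex.Hom.isoOfComponents (fun n => (KFlat.pullStalkIso f x).app (G.X n))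
    (fun i j _ => ((KFlat.pullStalkIso f x).hom.naturality (G.d i j)).symm)

/-- the stalk of the structure sheaf complex -/
noncomputable def unitStalkCx (x : X) :
    (KFlat.stCx x).obj (DerSch.unitCx X) ≅ 𝟙_ (DRing.Cx (X.presheaf.stalk x)) :=
  (HomologicalComplex.singleMapHomologicalComplex (DerSch.stalkFunctor X x) (ComplexShape.up ℤ) 0).app _ ≪≫
    (HomologicalComplex.single _ (ComplexShape.up ℤ) 0).mapIso (stOneIso x).symm

/-- tor amplitude of a tensor product with a pullback, for K-flat complexes -/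
theorem torAmpAt_tensor (g : Y ⟶ Z) {G : CochainComplex Y.Modules ℤ} (hG : DCoh.IsKFlat G)
    (F : CochainComplex X.Modules ℤ) {a b c d : ℤ} {x : X} (hF : DerSch.HasTorAmplitudeAt f a b F x)
    (hGa : DerSch.HasTorAmplitudeAt g c d G (f.base x)) :
    DerSch.HasTorAmplitudeAt (f ≫ g) (a + c) (b + d)
      ((DCoh.tensorCx.obj (((Scheme.Modules.pullback f).mapHomologicalComplex (ComplexShape.up ℤ)).obj G)).obj F) x :=
  DRingKP.amp_of_iso (DerivedCategory.Q.mapIso ((resCx ((f ≫ g).stalkMap x).hom).mapIso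
    ((tensorIso (pullStalkCx f x G).symm (Iso.refl _)) ≪≫ KFlat.stTotIso x _ F)))
    (amp_bc_tensor (g.stalkMap (f.base x)).hom (f.stalkMap x).hom ((f ≫ g).stalkMap x).hom
      (congrArg CommRingCat.Hom.hom (Scheme.Hom.stalkMap_comp f g x)) ((KFlat.isKFlat_iff_stalks G).1 hG _)
      ((KFlat.stCx x).obj F) hF hGa)

/-- tor amplitude of a pullback, for K-flat complexes -/
theorem torAmpAt_pullback_kflat (g : Y ⟶ Z) {G : CochainComplex Y.Modules ℤ} (hG : DCoh.IsKFlat G)
    {a b c d : ℤ} {x : X} (hF : DerSch.HasTorAmplitudeAt f a b (DerSch.unitCx X) x)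
    (hGa : DerSch.HasTorAmplitudeAt g c d G (f.base x)) :
    DerSch.HasTorAmplitudeAt (f ≫ g) (a + c) (b + d)
      (((Scheme.Modules.pullback f).mapHomologicalComplex (ComplexShape.up ℤ)).obj G) x :=
  DRingKP.amp_of_iso (DerivedCategory.Q.mapIso ((resCx ((f ≫ g).stalkMap x).hom).mapIso
    ((tensorIso (Iso.refl _) (unitStalkCx x)) ≪≫ ρ_ _ ≪≫ (pullStalkCx f x G).symm)))
    (amp_bc_tensor (g.stalkMap (f.base x)).hom (f.stalkMap x).hom ((f ≫ g).stalkMap x).hom
      (congrArg CommRingCat.Hom.hom (Scheme.Hom.stalkMap_comp f g x)) ((KFlat.isKFlat_iff_stalks G).1 hG _)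
      ((KFlat.stCx x).obj (DerSch.unitCx X)) hF hGa)

theorem torAmpD_ltensor_Lpull (g : Y ⟶ Z) (F : CochainComplex X.Modules ℤ) {a b c d : ℤ}
    (hF : DerSch.HasTorAmplitude f a b F) (G : CochainComplex Y.Modules ℤ)
    (hG : DerSch.HasTorAmplitude g c d G) [DCoh.HasLpull f] [DCoh.HasLTensorCx F] :
    DerSch.HasTorAmplitudeD (f ≫ g) (a + c) (b + d)
      ((DCoh.LTensorCx F).obj ((DCoh.Lpull f).obj (DCoh.toD Y G))) := by
  obtain ⟨G', hG', -, ⟨e⟩⟩ := KFlat.exists_isKFlat_rep (DCoh.toD Y G)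
  exact torAmpD_of_rep _ ((KFlat.ltIso F (KFlat.isKFlat_pullback f hG')).symm ≪≫
      (DCoh.LTensorCx F).mapIso ((KFlat.lpullIso f hG').symm ≪≫ (DCoh.Lpull f).mapIso e))
    fun x => torAmpAt_tensor f g hG' F (hF x) (torAmp_of_iso g e.symm hG _)

theorem torAmpD_Lpull_comp (g : Y ⟶ Z) {m : ℕ} (hf : DerSch.HasTorDimLE f m) {c d : ℤ}
    (G : CochainComplex Y.Modules ℤ) (hG : DerSch.HasTorAmplitude g c d G) [DCoh.HasLpull f] :
    DerSch.HasTorAmplitudeD (f ≫ g) (c - m) d ((DCoh.Lpull f).obj (DCoh.toD Y G)) := by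
  obtain ⟨G', hG', -, ⟨e⟩⟩ := KFlat.exists_isKFlat_rep (DCoh.toD Y G)
  refine torAmpD_of_rep _ ((KFlat.lpullIso f hG').symm ≪≫ (DCoh.Lpull f).mapIso e) fun x => ?_
  have h := torAmpAt_pullback_kflat f g hG' (hf x) (torAmp_of_iso g e.symm hG _)
  rw [show -(m : ℤ) + c = c - m by ring, show (0 : ℤ) + d = d by ring] at h
  exact h

/-- amplitude over an open subscheme of the base -/
theorem torAmpAt_of_openImm {Y' : Scheme.{u}} (f' : X ⟶ Y') (j : Y' ⟶ Y) [IsOpenImmersion j] {a b : ℤ}
    (F : CochainComplex X.Modules ℤ) (x : X) (h : DerSch.HasTorAmplitudeAt (f' ≫ j) a b F x) :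
    DerSch.HasTorAmplitudeAt f' a b F x := by
  let ψ := (j.stalkMap (f'.base x)).hom
  have hb : Function.Bijective ψ := ConcreteCategory.bijective_of_isIso (j.stalkMap (f'.base x))
  have hd : FlatTd ψ 0 := fun M hM => by
    let A := Y.presheaf.stalk (j.base (f'.base x))
    let B := Y'.presheaf.stalk (f'.base x)
    letI : Algebra A B := ψ.toAlgebra
    let e : A ≃ₐ[A] B := AlgEquiv.ofBijective (Algebra.ofId A B) hb
    haveI : IsLocalization (IsUnit.submonoid A) B := IsLocalization.isLocalization_of_algEquiv _ e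
    letI : Module A M := Module.compHom _ ψ
    haveI : IsScalarTower A B M := IsScalarTower.of_algebraMap_smul fun _ _ => rfl
    haveI : Module.Flat A M := hM
    simpa using (DRingKP.amp_zero_iff_flat (A := B) M).2
      ((Module.flat_iff_of_isLocalization B (IsUnit.submonoid A) (M := M)).2 inferInstance)
  have h1 : DRing.HasTorAmplitudeIn _ a b
      ((DRing.restrictD ψ).obj (DRing.toD ((DerSch.stalkCxOver f' x).obj F))) :=
    DRingKP.amp_of_iso (DerivedCategory.Q.mapIso
        (HomologicalComplex.Hom.isoOfComponents (fun n => (stACompIso f' j x).app (F.X n))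
          (fun p q _ => ((stACompIso f' j x).hom.naturality (F.d p q)).symm)) ≪≫
      ((ModuleCat.restrictScalars.{u} ψ).mapDerivedCategoryFactors.app _).symm) h
  have h2 := amp_ascend ψ (RingHom.Flat.of_bijective hb) hd _ h1
  rw [Nat.cast_zero, sub_zero] at h2
  exact h2

/-- vanishing of the cohomology sheaves of a derived tensor product with a pullback -/
theorem isZero_HD_ltensor (M : Y.Modules) (F : CochainComplex X.Modules ℤ) {a b : ℤ}
    (hF : DerSch.HasTorAmplitude f a b F) [DCoh.HasLpull f] [DCoh.HasLTensorCx F] (i : ℤ) (hi : i < a ∨ b < i) :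
    IsZero (DCoh.HD ((DCoh.LTensorCx F).obj ((DCoh.Lpull f).obj (DCoh.inD Y M))) i) := by
  obtain ⟨M', hM', -, ⟨e⟩⟩ := KFlat.exists_isKFlat_rep (DCoh.inD Y M)
  let T := (DCoh.tensorCx.obj (((Scheme.Modules.pullback f).mapHomologicalComplex (ComplexShape.up ℤ)).obj M')).obj F
  let eT : (DCoh.LTensorCx F).obj ((DCoh.Lpull f).obj (DCoh.inD Y M)) ≅ DCoh.toD X T :=
    (DCoh.LTensorCx F).mapIso ((DCoh.Lpull f).mapIso e.symm ≪≫ KFlat.lpullIso f hM') ≪≫
      KFlat.ltIso F (KFlat.isKFlat_pullback f hM')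
  have hM'z : ∀ j, j < (0 : ℤ) ∨ 0 < j → IsZero (M'.homology j) := fun j hj =>
    (HomologicalComplex.isZero_single_obj_homology (ComplexShape.up ℤ) 0 M j (by lia)).of_iso
      (((DerivedCategory.homologyFunctorFactors Y.Modules j).app M').symm ≪≫
        (DerivedCategory.homologyFunctor Y.Modules j).mapIso
          (e ≪≫ (DerivedCategory.singleFunctorIsoCompQ Y.Modules 0).app M) ≪≫
        (DerivedCategory.homologyFunctorFactors Y.Modules j).app _)
  have key : ∀ x, ((KFlat.stCx x).obj T).ExactAt i := fun x =>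
    (exactAt_bc_tensor (f.stalkMap x).hom (P := (KFlat.stCx (f.base x)).obj M')
      ((KFlat.isKFlat_iff_stalks M').1 hM' _) ((KFlat.stCx x).obj F) (c := 0) (d := 0) (hF x)
      (fun j hj => by
        rw [exactAt_iff]
        exact ((exactAt_iff_isZero_homology _ _).2 (hM'z j hj)).map (DerSch.stalkFunctor Y (f.base x)))
      i (by lia)).of_iso ((tensorIso (pullStalkCx f x M').symm (Iso.refl _)) ≪≫ KFlat.stTotIso x _ F)
  have hz : IsZero (T.homology i) := KFlat.isZero_of_stalks _ fun x =>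
    ((exactAt_iff_isZero_homology _ _).1 (key x)).of_iso
      ((T.sc i).mapHomologyIso (DerSch.stalkFunctor X x)).symm
  exact (hz.of_iso ((DerivedCategory.homologyFunctorFactors X.Modules i).app T)).of_iso
    ((DerivedCategory.homologyFunctor X.Modules i).mapIso eT)

end Groth.Agent.KSixLib
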