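import Groth.Agent.KSixLib.RelTens
import Groth.Agent.KSixLib.Tensor
import Groth.Agent.DQCoh.RelPerf

/-!
# Relative perfection of derived tensor products with pullbacks
-/

set_option backward.isDefEq.respectTransparency false
set_option backward.isDefEq.respectTransparency.types false
set_option linter.style.haveILetI false
set_option autoImplicit false

universe u

open CategoryTheory Limits AlgebraicGeometry HomologicalComplex

attribute [local instance] HasDerivedCategory.standard

namespace Groth.Agent.KSixLib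

variable {X Y Z : Scheme.{u}}

/-- complexes with tor amplitude in `[a, b]` are `≤ b` -/
lemma isLE_of_torAmp (f : X ⟶ Y) {a b : ℤ} (F : CochainComplex X.Modules ℤ) (hF : DerSch.HasTorAmplitude f a b F) :
    (DCoh.toD X F).IsLE b :=
  (DerivedCategory.isLE_iff _ b).2 fun i hi =>
    DQCoh.isZero_homology_of_relAmp (f := f) (a := a) (b := b) (fun x => (torAmpAt_iff _ a b F x).1 (hF x)) i hi

/-- `- ⊗^L O` is the identity -/
lemma nonempty_ltensor_unit (L : DCoh.D X) [DCoh.HasLTensorCx (DerSch.unitCx X)] :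
    Nonempty ((DCoh.LTensorCx (DerSch.unitCx X)).obj L ≅ L) := by
  obtain ⟨P, hP, -, ⟨e⟩⟩ := KFlat.exists_isKFlat_rep L
  exact ⟨(DCoh.LTensorCx (DerSch.unitCx X)).mapIso e.symm ≪≫ KFlat.ltIso (DerSch.unitCx X) hP ≪≫
    (DerivedCategory.Q.mapIso
      (((Functor.mapHomologicalComplexIdIso X.Modules (ComplexShape.up ℤ)).app P).symm ≪≫
        ((NatIso.mapHomologicalComplex (DQCoh.tensUnitNat X) (ComplexShape.up ℤ)).app P).symm ≪≫
        KFlat.tensSingleIso (KFlat.schB X) P (Coh.structureModule X))).symm ≪≫ e⟩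

/-- **perfection of `Lf^*F ⊗^L E`** -/
theorem perfRel_tens_Lpull (f : X ⟶ Y) (g : Y ⟶ Z) [LocallyOfFiniteType f] [LocallyOfFiniteType g]
    (E : CochainComplex X.Modules ℤ) {a b c d : ℤ} (hE : DerSch.HasPerfAmplitudeRel f a b E)
    (F : CochainComplex Y.Modules ℤ) (hF : DerSch.HasPerfAmplitudeRel g c d F)
    [DCoh.HasLpull f] [DCoh.HasLTensorCx E] (K : CochainComplex X.Modules ℤ)
    (eK : DCoh.toD X K ≅ (DCoh.LTensorCx E).obj ((DCoh.Lpull f).obj (DCoh.toD Y F))) :
    DerSch.HasPerfAmplitudeRel (f ≫ g) (a + c) (b + d) K := by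
  haveI := isLE_of_torAmp f E hE.2
  haveI := isLE_of_torAmp g F hF.2
  refine ⟨fun m => ?_, torAmpD_ltensor_Lpull f g E hE.2 F hF.2 K ⟨eK⟩⟩
  have h := (rel_tens_Lpull f g E (hE.1 (m - d)) (DCoh.toD Y F) (hF.1 (m - b)) (b := b) (d := d)).1
  rw [show max (m - d + d) (b + (m - b)) = m by simp] at h
  exact rel_of_iso _ eK.symm h

end Groth.Agent.KSixLib
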