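import Groth.Agent.KSixLib.TorIndep
import Groth.Agent.KFlat.LpullComp
import Groth.Agent.DerPerf.Local
import Groth.Agent.ResDesc.Main

/-!
# Tor amplitude of external products
-/

set_option backward.isDefEq.respectTransparency false
set_option backward.isDefEq.respectTransparency.types false
set_option linter.style.haveILetI false
set_option autoImplicit false

universe u

open CategoryTheory Limits AlgebraicGeometry HomologicalComplex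

attribute [local instance] HasDerivedCategory.standard

namespace Groth.Agent.KSixLib

variable {X Y : Scheme.{u}}

/-- complexes with tor amplitude have bounded above flat K-flat models -/
lemma exists_flat_model (f : X ⟶ Y) {a b : ℤ} (F : CochainComplex X.Modules ℤ) (hF : DerSch.HasTorAmplitude f a b F) :
    ∃ K : CochainComplex X.Modules ℤ, DCoh.IsKFlat K ∧ (∀ i, b < i → IsZero (K.X i)) ∧
      (∀ n, FlatMod.IsFlat (K.X n)) ∧ Nonempty (DCoh.toD X K ≅ DCoh.toD X F) ∧ DerSch.HasTorAmplitude f a b K := by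
  haveI : (DCoh.toD X F).IsLE b := (DerivedCategory.isLE_iff _ b).2 fun i hi =>
    DQCoh.isZero_homology_of_relAmp (f := f) (a := a) (b := b) (fun x => (torAmpAt_iff _ a b F x).1 (hF x)) i hi
  haveI : F.IsLE b := (DerivedCategory.isLE_Q_obj_iff F b).1 ‹_›
  obtain ⟨K, p, hK, hf, hp, hb⟩ := KFlat.exists_resolution_le_sch (F.truncLE b) b
  haveI := hp
  let e : DCoh.toD X K ≅ DCoh.toD X F :=
    asIso (DerivedCategory.Q.map p) ≪≫ asIso (DerivedCategory.Q.map (F.ιTruncLE b))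
  exact ⟨K, hK, fun i hi => CochainComplex.isZero_of_isStrictlyLE K b i hi, hf, ⟨e⟩, torAmp_of_iso f e.symm hF⟩

/-- the structure sheaf pulls back to the structure sheaf -/
noncomputable def pullUnitCx (p : X ⟶ Y) :
    ((Scheme.Modules.pullback p).mapHomologicalComplex (ComplexShape.up ℤ)).obj (DerSch.unitCx Y) ≅ DerSch.unitCx X :=
  (singleMapHomologicalComplex (Scheme.Modules.pullback p) (ComplexShape.up ℤ) 0).app _ ≪≫
    (single _ (ComplexShape.up ℤ) 0).mapIso (DerPerf.pullUnitIso p)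

lemma flat_unitCx (X : Scheme.{u}) (i : ℤ) : FlatMod.IsFlat ((DerSch.unitCx X).X i) := by
  by_cases hi : i = 0
  · subst hi
    exact DerPerf.isFlat_of_isFinLocFree
      (DQCoh.isFinLocFree_of_iso' (singleObjXSelf (ComplexShape.up ℤ) 0 _).symm (ResDesc.isFinLocFree_structureModule X))
  · exact DerPerf.isFlat_of_isFinLocFree (DQCoh.isFinLocFree_of_isZero (isZero_single_obj_X _ _ _ _ hi))

section Product

variable {S X₁ Y₁ X₂ Y₂ : Scheme.{u}} {f₁ : X₁ ⟶ Y₁} {q₁ : Y₁ ⟶ S} {f₂ : X₂ ⟶ Y₂} {q₂ : Y₂ ⟶ S}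
  {pX₁ : X ⟶ X₁} {pX₂ : X ⟶ X₂} (hX : IsPullback pX₁ pX₂ (f₁ ≫ q₁) (f₂ ≫ q₂))
  {pY₁ : Y ⟶ Y₁} {pY₂ : Y ⟶ Y₂} (hY : IsPullback pY₁ pY₂ q₁ q₂)
  {f : X ⟶ Y} (hf₁ : f ≫ pY₁ = pX₁ ≫ f₁) (hf₂ : f ≫ pY₂ = pX₂ ≫ f₂)

include hX hY hf₁ hf₂ in
/-- a product of morphisms factors through two base changes -/
theorem exists_factor : ∃ (a : X ⟶ pullback (f₁ ≫ q₁) q₂) (b : pullback (f₁ ≫ q₁) q₂ ⟶ Y),
    a ≫ pullback.fst _ _ = pX₁ ∧ a ≫ b = f ∧
    IsPullback pX₂ a f₂ (pullback.snd (f₁ ≫ q₁) q₂) ∧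
    IsPullback (pullback.fst (f₁ ≫ q₁) q₂) b f₁ pY₁ := by
  let a : X ⟶ pullback (f₁ ≫ q₁) q₂ :=
    pullback.lift pX₁ (pX₂ ≫ f₂) (by rw [Category.assoc]; exact hX.w)
  let b : pullback (f₁ ≫ q₁) q₂ ⟶ Y := hY.lift (pullback.fst _ _ ≫ f₁) (pullback.snd _ _)
    (by rw [Category.assoc]; exact pullback.condition)
  have hb₁ : b ≫ pY₁ = pullback.fst (f₁ ≫ q₁) q₂ ≫ f₁ := hY.lift_fst _ _ _
  have hb₂ : b ≫ pY₂ = pullback.snd (f₁ ≫ q₁) q₂ := hY.lift_snd _ _ _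
  have ha₁ : a ≫ pullback.fst _ _ = pX₁ := pullback.lift_fst _ _ _
  have ha₂ : a ≫ pullback.snd _ _ = pX₂ ≫ f₂ := pullback.lift_snd _ _ _
  refine ⟨a, b, ha₁, hY.hom_ext ?_ ?_, IsPullback.of_bot ?_ ha₂.symm (IsPullback.of_hasPullback (f₁ ≫ q₁) q₂).flip,
    IsPullback.of_bot ?_ hb₁.symm hY⟩
  · rw [Category.assoc, hb₁, hf₁, ← Category.assoc, ha₁]
  · rw [Category.assoc, hb₂, hf₂, ha₂]
  · rw [ha₁]; exact hX.flip
  · rw [hb₂]; exact IsPullback.of_hasPullback _ _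

variable [Flat q₂] [Flat (f₂ ≫ q₂)]

include hX hY hf₁ hf₂ in
/-- **tor dimension of a product** -/
theorem torDim_prod {n₁ n₂ : ℕ} (h₁ : DerSch.HasTorDimLE f₁ n₁) (h₂ : DerSch.HasTorDimLE f₂ n₂) :
    DerSch.HasTorDimLE f (n₁ + n₂) := by
  obtain ⟨a, b, -, hab, Ha, Hb⟩ := exists_factor hX hY hf₁ hf₂
  haveI : Flat pY₁ := MorphismProperty.of_isPullback hY.flip ‹_›
  have h2 : DerSch.HasTorAmplitude a (-(n₂ : ℤ)) 0 (DerSch.unitCx X) := fun z =>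
    DRingKP.amp_of_iso (DerivedCategory.Q.mapIso ((DerSch.stalkCxOver a z).mapIso (pullUnitCx pX₂)))
      (torAmpAt_sq_indep Ha (IsPullback.of_hasPullback (f₁ ≫ q₁) q₂).flip (DerSch.unitCx X₂)
        (c := 0) (fun i hi => isZero_single_obj_X _ _ _ _ (by lia)) (flat_unitCx X₂) z (h₂ _))
  have h1 : DerSch.HasTorDimLE b n₁ := fun z =>
    DRingKP.amp_of_iso (DerivedCategory.Q.mapIso ((DerSch.stalkCxOver b z).mapIso (pullUnitCx _)))
      (torAmpAt_sq_flat Hb (DerSch.unitCx X₁) z (h₁ _))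
  have h := torAmp_comp a b h1 h2
  rw [hab] at h
  exact torAmp_widen f (by push_cast; lia) le_rfl h

include hX hY hf₁ hf₂ in
/-- **tor amplitude of an external product** -/
theorem torAmp_external (E₁ : CochainComplex X₁.Modules ℤ) {a₁ b₁ : ℤ} (h₁ : DerSch.HasTorAmplitude f₁ a₁ b₁ E₁)
    (E₂ : CochainComplex X₂.Modules ℤ) {a₂ b₂ : ℤ} (h₂ : DerSch.HasTorAmplitude f₂ a₂ b₂ E₂)
    [DCoh.HasLpull pX₁] [DCoh.HasLpull pX₂] (K₂ : CochainComplex X.Modules ℤ) [DCoh.HasLTensorCx K₂]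
    (e₂ : DCoh.toD X K₂ ≅ (DCoh.Lpull pX₂).obj (DCoh.toD X₂ E₂)) :
    DerSch.HasTorAmplitudeD f (a₁ + a₂) (b₁ + b₂)
      ((DCoh.LTensorCx K₂).obj ((DCoh.Lpull pX₁).obj (DCoh.toD X₁ E₁))) := by
  obtain ⟨a, b, ha, hab, Ha, Hb⟩ := exists_factor hX hY hf₁ hf₂
  haveI : Flat pY₁ := MorphismProperty.of_isPullback hY.flip ‹_›
  haveI : Flat (pullback.fst (f₁ ≫ q₁) q₂) := MorphismProperty.pullback_fst _ _ ‹_›
  obtain ⟨F₂, hF₂, hF₂b, hF₂f, ⟨eF⟩, hF₂a⟩ := exists_flat_model f₂ E₂ h₂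
  let P₂ := ((Scheme.Modules.pullback pX₂).mapHomologicalComplex (ComplexShape.up ℤ)).obj F₂
  let eP : DCoh.toD X P₂ ≅ DCoh.toD X K₂ :=
    (KFlat.evalIso (KFlat.kFlatAcyclic_pullback pX₂) (DCoh.Lpull pX₂)
      ((DCoh.pullKh pX₂).totalLeftDerivedCounit DerivedCategory.Qh
        (HomotopyCategory.quasiIso X₂.Modules (ComplexShape.up ℤ))) hF₂).symm ≪≫
      (DCoh.Lpull pX₂).mapIso eF ≪≫ e₂.symm
  have hK₂ : DerSch.HasTorAmplitude a a₂ b₂ K₂ := torAmp_of_iso a eP fun z =>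
    torAmpAt_sq_indep Ha (IsPullback.of_hasPullback (f₁ ≫ q₁) q₂).flip F₂ hF₂b hF₂f z (hF₂a _)
  let G := ((Scheme.Modules.pullback (pullback.fst (f₁ ≫ q₁) q₂)).mapHomologicalComplex (ComplexShape.up ℤ)).obj E₁
  have hG : DerSch.HasTorAmplitude b a₁ b₁ G := fun z => torAmpAt_sq_flat Hb E₁ z (h₁ _)
  haveI := KFlat.hasLpull a
  haveI := KFlat.hasLpull (pullback.fst (f₁ ≫ q₁) q₂)
  haveI := KFlat.hasLpull (a ≫ pullback.fst (f₁ ≫ q₁) q₂)
  obtain ⟨c⟩ := KFlat.Lpull_comp_sch a (pullback.fst (f₁ ≫ q₁) q₂)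
  let eG : DCoh.toD _ G ≅ (DCoh.Lpull (pullback.fst (f₁ ≫ q₁) q₂)).obj (DCoh.toD X₁ E₁) :=
    ((Scheme.Modules.pullback _).mapDerivedCategoryFactors.app E₁).symm ≪≫
      (RelPCS.nonempty_lpullFlat (pullback.fst (f₁ ≫ q₁) q₂) _).some.symm
  subst ha
  have h := torAmpD_ltensor_Lpull a b K₂ hK₂ G hG
  rw [hab, add_comm a₂, add_comm b₂] at h
  exact fun K ⟨eK⟩ => h K ⟨eK ≪≫
    (DCoh.LTensorCx K₂).mapIso ((c.app (DCoh.toD X₁ E₁)).symm ≪≫ (DCoh.Lpull a).mapIso eG.symm)⟩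

end Product

end Groth.Agent.KSixLib
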