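import Groth.Agent.KSixLib.RelBCIndep
import Groth.Agent.KSixLib.RelTensAll
import Groth.Agent.KSixLib.TorProd
import Groth.Agent.DCohShriek.DualModule
import Groth.Agent.QCGen.Basic

/-!
# Relative pseudo-coherence of external products
-/

set_option backward.isDefEq.respectTransparency false
set_option backward.isDefEq.respectTransparency.types false
set_option linter.style.haveILetI false
set_option autoImplicit false

universe u

open CategoryTheory Limits AlgebraicGeometry HomologicalComplex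

attribute [local instance] HasDerivedCategory.standard

namespace Groth.Agent.KSixLib

/-- derived pullback preserves upper bounds -/
lemma isLE_Lpull {X Y : Scheme.{u}} (f : X ⟶ Y) [DCoh.HasLpull f] (E : DCoh.D Y) {b : ℤ} [E.IsLE b] :
    ((DCoh.Lpull f).obj E).IsLE b := by
  obtain ⟨K, hK, -, ⟨e⟩⟩ := KFlat.exists_isKFlat_rep E
  refine (DerivedCategory.isLE_iff _ b).2 fun i hi => ?_
  exact (DerPerf.isZero_homology_pullback f hK (b + 1) (fun k hk =>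
    (DerivedCategory.isZero_of_isLE E b k (by lia)).of_iso
      ((KFlat.hdIso K k).symm ≪≫ (DerivedCategory.homologyFunctor _ k).mapIso e)) i (by lia)).of_iso
    ((DerivedCategory.homologyFunctor _ i).mapIso ((DCoh.Lpull f).mapIso e.symm ≪≫ ProjForm.lpullIso f hK) ≪≫
      KFlat.hdIso _ i)

/-- the structure sheaf in degree zero is K-flat -/
lemma isKFlat_unitCx' (X : Scheme.{u}) : DCoh.IsKFlat (DerSch.unitCx X) :=
  DerPerf.isKFlat_of_isStrictlyPerfect ⟨⟨0, 0, fun i hi => isZero_single_obj_X _ _ _ _ (by lia)⟩, fun i => by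
    by_cases hi : i = 0
    · subst hi
      exact DQCoh.isFinLocFree_of_iso' (singleObjXSelf (ComplexShape.up ℤ) 0 _).symm
        (ResDesc.isFinLocFree_structureModule X)
    · exact DQCoh.isFinLocFree_of_isZero (isZero_single_obj_X _ _ _ _ hi)⟩

lemma isQCohD_unitCx (X : Scheme.{u}) : DCoh.IsQCohD (DCoh.toD X (DerSch.unitCx X)) := fun i => by
  refine QC.isQCoh_of_iso (KFlat.hdIso (DerSch.unitCx X) i).symm ?_
  by_cases hi : i = 0
  · subst hi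
    exact QC.isQCoh_of_iso (singleObjHomologySelfIso (ComplexShape.up ℤ) 0 _).symm
      (DQCoh.isQCoh_of_isFinLocFree (ResDesc.isFinLocFree_structureModule X))
  · exact QC.isQCoh_of_iso (isZero_single_obj_homology (ComplexShape.up ℤ) 0 _ i hi).isoZero.symm
      (QCGen.prop_zero X (isZero_zero _))

lemma isLE_unitCx (X : Scheme.{u}) : (DCoh.toD X (DerSch.unitCx X)).IsLE 0 :=
  (DerivedCategory.isLE_iff _ 0).2 fun i hi =>
    (isZero_single_obj_homology (ComplexShape.up ℤ) 0 _ i (by lia)).of_iso (KFlat.hdIso _ i)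

variable {S X₁ Y₁ X₂ Y₂ X Y : Scheme.{u}} {f₁ : X₁ ⟶ Y₁} {q₁ : Y₁ ⟶ S} {f₂ : X₂ ⟶ Y₂} {q₂ : Y₂ ⟶ S}
  [Flat q₂] [Flat (f₂ ≫ q₂)]
  {pX₁ : X ⟶ X₁} {pX₂ : X ⟶ X₂} (hX : IsPullback pX₁ pX₂ (f₁ ≫ q₁) (f₂ ≫ q₂))
  {pY₁ : Y ⟶ Y₁} {pY₂ : Y ⟶ Y₂} (hY : IsPullback pY₁ pY₂ q₁ q₂)
  {f : X ⟶ Y} (hf₁ : f ≫ pY₁ = pX₁ ≫ f₁) (hf₂ : f ≫ pY₂ = pX₂ ≫ f₂)
  [LocallyOfFiniteType f₁] [LocallyOfFiniteType f₂]

include hX hY hf₁ hf₂ in
/-- **pseudo-coherence of an external product** -/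
theorem rel_external (E₁ : DCoh.D X₁) {a₁ b₁ : ℤ}
    (hpc₁ : DerSch.IsPseudoCoherentRel f₁ a₁ E₁) [E₁.IsLE b₁] (E₂ : DCoh.D X₂) {a₂ b₂ : ℤ}
    (hq₂ : DCoh.IsQCohD E₂) (hpc₂ : DerSch.IsPseudoCoherentRel f₂ a₂ E₂) [E₂.IsLE b₂]
    [DCoh.HasLpull pX₁] [DCoh.HasLpull pX₂] (K₂ : CochainComplex X.Modules ℤ) [DCoh.HasLTensorCx K₂]
    (e₂ : DCoh.toD X K₂ ≅ (DCoh.Lpull pX₂).obj E₂) :
    DerSch.IsPseudoCoherentRel f (max (a₁ + b₂) (a₂ + b₁)) ((DCoh.LTensorCx K₂).obj ((DCoh.Lpull pX₁).obj E₁)) ∧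
      ((DCoh.LTensorCx K₂).obj ((DCoh.Lpull pX₁).obj E₁)).IsLE (b₁ + b₂) := by
  obtain ⟨a, b, ha, hab, Ha, Hb⟩ := exists_factor hX hY hf₁ hf₂
  haveI : Flat pY₁ := MorphismProperty.of_isPullback hY.flip ‹_›
  haveI : Flat (pullback.fst (f₁ ≫ q₁) q₂) := MorphismProperty.pullback_fst _ _ ‹_›
  haveI : LocallyOfFiniteType a := MorphismProperty.of_isPullback Ha inferInstance
  haveI : LocallyOfFiniteType b := MorphismProperty.of_isPullback Hb inferInstance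
  haveI := KFlat.hasLpull a
  haveI := KFlat.hasLpull (pullback.fst (f₁ ≫ q₁) q₂)
  haveI := KFlat.hasLpull (a ≫ pullback.fst (f₁ ≫ q₁) q₂)
  have hK₂ : DerSch.IsPseudoCoherentRel a a₂ (DCoh.toD X K₂) := rel_of_iso _ e₂.symm
    (rel_bc_indep Ha (IsPullback.of_hasPullback (f₁ ≫ q₁) q₂).flip hq₂ hpc₂)
  haveI : (DCoh.toD X K₂).IsLE b₂ := by
    haveI := isLE_Lpull pX₂ E₂ (b := b₂)
    exact DerivedCategory.TStructure.t.isLE_of_iso e₂.symm b₂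
  have hG : DerSch.IsPseudoCoherentRel b a₁ ((DCoh.Lpull (pullback.fst (f₁ ≫ q₁) q₂)).obj E₁) :=
    rel_of_iso _ (RelPCS.nonempty_lpullFlat _ E₁).some.symm (RelPCS.rel_flat_bc Hb hpc₁)
  haveI := isLE_Lpull (pullback.fst (f₁ ≫ q₁) q₂) E₁ (b := b₁)
  obtain ⟨c⟩ := KFlat.Lpull_comp_sch a (pullback.fst (f₁ ≫ q₁) q₂)
  obtain ⟨h1, h2⟩ := rel_tens_Lpull a b K₂ hK₂ _ hG (b := b₂) (d := b₁)
  subst ha
  let e := (DCoh.LTensorCx K₂).mapIso (c.app E₁)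
  rw [hab] at h1
  refine ⟨rel_of_iso f e ?_, ?_⟩
  · rw [max_comm, add_comm a₁ b₂]
    exact h1
  · haveI := h2
    rw [add_comm b₁ b₂]
    exact @Triangulated.TStructure.isLE_of_iso _ _ _ _ _ _ _ DerivedCategory.TStructure.t _ _ e _ h2

include hX hY hf₁ hf₂ in
/-- **pseudo-coherence of a product of morphisms** -/
theorem nPseudoCoherent_prod {n : ℤ} (h₁ : DerSch.IsNPseudoCoherent f₁ n) (h₂ : DerSch.IsNPseudoCoherent f₂ n) :
    DerSch.IsNPseudoCoherent f n := by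
  haveI := isLE_unitCx X₁
  haveI := isLE_unitCx X₂
  haveI := KFlat.hasLpull pX₁
  haveI := KFlat.hasLpull pX₂
  haveI := KFlat.hasLTensorCx (DerSch.unitCx X)
  let e : ∀ {Z : Scheme.{u}} (p : X ⟶ Z) [DCoh.HasLpull p],
      (DCoh.Lpull p).obj (DCoh.toD Z (DerSch.unitCx Z)) ≅ DCoh.toD X (DerSch.unitCx X) := fun {Z} p _ =>
    ProjForm.lpullIso p (isKFlat_unitCx' Z) ≪≫ DerivedCategory.Q.mapIso (pullUnitCx p)
  obtain ⟨h, -⟩ := rel_external hX hY hf₁ hf₂ _ h₁ _ (isQCohD_unitCx X₂) h₂ (b₁ := 0) (b₂ := 0)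
    (DerSch.unitCx X) (e pX₂).symm
  obtain ⟨eu⟩ := nonempty_ltensor_unit ((DCoh.Lpull pX₁).obj (DCoh.toD X₁ (DerSch.unitCx X₁)))
  have h' := rel_of_iso _ (eu ≪≫ e pX₁) h
  rwa [add_zero, max_self] at h'

end Groth.Agent.KSixLib
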