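import Groth.Agent.KSixLib.ExchPushMain
import Groth.Agent.S0922
import Groth.Agent.S1106
import Groth.Agent.RelPCS.FlatFP
import Groth.Agent.DerPush.Exact
import Groth.Agent.PerfGen.PnPC

/-!
# Pseudo-coherent direct images of relatively pseudo-coherent complexes for projective morphisms
-/

set_option backward.isDefEq.respectTransparency false
set_option backward.isDefEq.respectTransparency.types false
set_option linter.style.haveILetI false
set_option autoImplicit false

universe u

open CategoryTheory Limits AlgebraicGeometry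

attribute [local instance] HasDerivedCategory.standard

namespace Groth.Agent.KSixLib.Exch

/-- `R(i ≫ π)_*` of a complex pseudo-coherent relative to `i ≫ π` -/
theorem pc_push_closed_comp {X P Y : Scheme.{u}} (i : X ⟶ P) [IsClosedImmersion i] (π : P ⟶ Y) [Flat π]
    [IsProper π] [LocallyOfFinitePresentation π] [DCoh.HasRpush (i ≫ π)] (F : CochainComplex X.Modules ℤ)
    (h : DerSch.IsPseudoCoherentRelAll (i ≫ π) (DCoh.toD X F)) (m : ℤ) :
    DCoh.IsQCohD (DCoh.toD X F) ∧
      DCoh.IsPseudoCoherentD m ((DCoh.Rpush (i ≫ π)).obj (DCoh.toD X F)) := by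
  haveI := DerPush.hasRpush_sch i
  haveI := DerPush.hasRpush_sch π
  have hP : ∀ n, DCoh.IsPseudoCoherentD n (DCoh.toD P ((DerSch.pushCx i).obj F)) := fun n =>
    (RelPCS.rel_closedImm_comp_flat_iff i π n F).1 (h n)
  refine ⟨fun j => ?_, ?_⟩
  · have hq := (DQCoh.isQCoh_cohomology_of_pseudoCoherent (j - 1) _ (hP _)).1 j (by lia)
    haveI := GrothSS.isIso_counit_push i
    let e : DCoh.HD (DCoh.toD P ((DerSch.pushCx i).obj F)) j ≅
        (Scheme.Modules.pushforward i).obj (DCoh.HD (DCoh.toD X F) j) :=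
      (DerivedCategory.homologyFunctorFactors P.Modules j).app _ ≪≫
        (F.sc j).mapHomologyIso (Scheme.Modules.pushforward i) ≪≫
        (Scheme.Modules.pushforward i).mapIso ((DerivedCategory.homologyFunctorFactors X.Modules j).app F).symm
    exact QC.isQCoh_of_iso ((asIso (Scheme.Modules.pullbackPushforwardAdjunction i).counit).app _)
      (QC.isQCoh_pullback i (QC.isQCoh_of_iso e hq))
  · obtain ⟨e⟩ := S0922.result i π
    exact DQCoh.pc_of_iso ((DCoh.Rpush π).mapIso (DerPush.rpushIsoOfExact i F).symm ≪≫ e.app _)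
      (S1106.result π _ hP m)

/-- the projection `P^r_Y → Y` -/
theorem toBase_proper_flat_lfp (r : ℕ) (Y : Scheme.{u}) : IsProper (CohB1.ProjSpaceOver.toBase r Y) ∧
    Flat (CohB1.ProjSpaceOver.toBase r Y) ∧ LocallyOfFinitePresentation (CohB1.ProjSpaceOver.toBase r Y) := by
  obtain ⟨_, _, _⟩ := PerfGen.proper_flat_lfp r (ULift.{u} ℤ)
  exact ⟨MorphismProperty.pullback_snd _ _ ‹_›, MorphismProperty.pullback_snd _ _ ‹_›,
    MorphismProperty.pullback_snd _ _ ‹_›⟩

end Groth.Agent.KSixLib.Exch
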