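import Groth.Agent.KSixLib.PerfNhd
import Groth.Agent.KSixLib.RelExternal
import Groth.Agent.DRingKP.Fibre2
import Groth.Agent.LocFree.Props
import Groth.Agent.LocFree.Rank
import Groth.Agent.PerfGen.Open

/-!
# Perfection from pseudo-coherence and the derived fibres at points
-/

set_option backward.isDefEq.respectTransparency false
set_option backward.isDefEq.respectTransparency.types false
set_option linter.style.haveILetI false
set_option autoImplicit false
set_option maxHeartbeats 1000000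

universe u

open CategoryTheory Limits AlgebraicGeometry HomologicalComplex TensorProduct

attribute [local instance] HasDerivedCategory.standard

namespace Groth.Agent.KSixLib

section Ring

variable {A : Type u} [CommRing A] [IsLocalRing A] {C : Type u} [CommRing C]

/-- exactness after `⊗ κ` splits a complex of finite free modules -/
theorem flat_coker_of_exact_field (φ : A →+* C) (hφ : Function.Surjective φ) (hC : IsField C)
    {P : DRing.Cx A} (hP : DRing.TermwiseFiniteFree P) (i : ℤ)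
    (hz : IsZero (((DRingKP.bc φ).obj P).homology i)) :
    Module.Flat A (P.X (i + 1) ⧸ LinearMap.range (P.d i (i + 1)).hom) := by
  letI := φ.toAlgebra
  have hker : RingHom.ker φ = IsLocalRing.maximalIdeal A := by
    refine IsLocalRing.eq_maximalIdeal ?_
    letI := hC.toField
    exact RingHom.ker_isMaximal_of_surjective φ hφ
  obtain ⟨s, t, hst⟩ := DRingKP.exists_homotopy_of_exact hP i fun m hm => by
    obtain rfl := IsLocalRing.eq_maximalIdeal hm
    let eC : (A ⧸ IsLocalRing.maximalIdeal A) ≃ₐ[A] C := (Ideal.quotientEquivAlgOfEq A hker.symm).trans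
      (Ideal.quotientKerAlgEquivOfSurjective (f := Algebra.ofId A C) hφ)
    let T : ModuleCat.{u} A ⥤ ModuleCat.{u} A :=
      ModuleCat.extendScalars.{u, u, u} φ ⋙ ModuleCat.restrictScalars.{u} φ
    let el : ∀ M : ModuleCat.{u} A, ((MonoidalCategory.tensorRight
        (ModuleCat.of A (A ⧸ IsLocalRing.maximalIdeal A))).obj M) ≃ₗ[A] (T.obj M) := fun M =>
      let e : M ⊗[A] (A ⧸ IsLocalRing.maximalIdeal A) ≃ₗ[A] C ⊗[A] M :=
        (TensorProduct.comm A _ _).trans (TensorProduct.congr eC.toLinearEquiv (LinearEquiv.refl A M))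
      { toFun := fun z => e z
        invFun := fun z => e.symm z
        map_add' := fun a b => e.map_add a b
        map_smul' := fun r z => by
          refine (e.map_smul r z).trans ?_
          exact (algebraMap_smul C r (e z : C ⊗[A] M)).symm
        left_inv := fun z => e.symm_apply_apply z
        right_inv := fun z => e.apply_symm_apply z }
    let ν : MonoidalCategory.tensorRight (ModuleCat.of A (A ⧸ IsLocalRing.maximalIdeal A)) ≅ T :=
      NatIso.ofComponents (fun M => (el M).toModuleIso) fun {M N} f => ModuleCat.hom_ext (TensorProduct.ext'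
        fun a b => rfl)
    refine IsZero.of_iso ((ModuleCat.restrictScalars.{u} φ).map_isZero hz)
      ((HomologicalComplex.homologyFunctor _ _ i).mapIso
        ((NatIso.mapHomologicalComplex ν (ComplexShape.up ℤ)).app P) ≪≫
        (((DRingKP.bc φ).obj P).sc i).mapHomologyIso (ModuleCat.restrictScalars.{u} φ))
  have hproj : Module.Projective A (P.X (i + 1) ⧸ LinearMap.range (P.d i (i + 1)).hom) := by
    haveI := (hP (i + 1)).2
    let d := (P.d i (i + 1)).hom
    have hd : ∀ x, d (s.hom (d x)) = d x := fun x => by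
      have h := LinearMap.congr_fun (congrArg ModuleCat.Hom.hom hst) x
      simp only [ModuleCat.hom_add, ModuleCat.hom_comp, ModuleCat.hom_id, LinearMap.add_apply,
        LinearMap.comp_apply, LinearMap.id_apply] at h
      have hdd : d ((P.d (i - 1) i).hom (t.hom x)) = 0 :=
        LinearMap.congr_fun (congrArg ModuleCat.Hom.hom (P.d_comp_d (i - 1) i (i + 1))) (t.hom x)
      have h' := congrArg d h
      rw [map_add, hdd, add_zero] at h'
      exact h'
    let π := (LinearMap.range d).mkQ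
    let σ : (P.X (i + 1) ⧸ LinearMap.range d) →ₗ[A] P.X (i + 1) :=
      (LinearMap.range d).liftQ (LinearMap.id - d.comp s.hom) (by
        rintro _ ⟨x, rfl⟩
        rw [LinearMap.mem_ker, LinearMap.sub_apply, LinearMap.id_apply, LinearMap.comp_apply, hd, sub_self])
    refine Module.Projective.of_split σ π (Submodule.linearMap_qext _ (LinearMap.ext fun y => ?_))
    show π (y - d (s.hom y)) = π y
    rw [map_sub, show π (d (s.hom y)) = 0 from (Submodule.Quotient.mk_eq_zero _).2 ⟨_, rfl⟩, sub_zero]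
  exact Module.Flat.of_projective

end Ring

open Groth.Agent.DQCoh
open Groth.Agent.ProjForm (qC)

variable {X : Scheme.{u}}

/-- stalks of finite locally free modules are finite free -/
lemma finiteFree_stalk {M : X.Modules} (h : FlatMod.IsFinLocFree M) (x : X) :
    Module.Finite (X.presheaf.stalk x) (M.presheaf.stalk x) ∧ Module.Free (X.presheaf.stalk x) (M.presheaf.stalk x) := by
  obtain ⟨U, hU, hx⟩ := QC.exists_affine_mem x
  haveI := LocFree.finitePresentation_sections h hU
  exact ⟨LocFree.finite_stalk hU (DQCoh.isQCoh_of_isFinLocFree h) hx, LocFree.free_stalk_of_isFinLocFree h x⟩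

/-- derived pullback of an approximation -/
lemma isZero_lpull_of_mIso {U X' : Scheme.{u}} (k : X' ⟶ U) [DCoh.HasLpull k] {E : CochainComplex U.Modules ℤ}
    (hE : DCoh.IsKFlat E) {L : DCoh.D U} {n : ℤ} (α : DerivedCategory.Q.obj E ⟶ L) (hα : MIsoD n α) (i : ℤ)
    (hi : n < i) (h : IsZero (DCoh.HD ((DCoh.Lpull k).obj L) i)) : IsZero (((qC k).obj E).homology i) := by
  obtain ⟨G, hG, -, ⟨eG⟩⟩ := KFlat.exists_isKFlat_rep L
  obtain ⟨E', s, hs, g, hg⟩ := DerivedCategory.right_fac (α ≫ eG.inv)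
  haveI := hs
  let t : (KFlat.resF U).obj E' ⟶ E' := (KFlat.resψ U).app E'
  haveI hts : IsIso (DerivedCategory.Q.map (t ≫ s)) := by rw [Functor.map_comp]; infer_instance
  have hg' : DerivedCategory.Q.map (t ≫ g) = DerivedCategory.Q.map (t ≫ s) ≫ α ≫ eG.inv := by
    rw [hg, Functor.map_comp, Functor.map_comp, Category.assoc, IsIso.hom_inv_id_assoc]
  have h₁ : MIsoD n (DerivedCategory.Q.map (t ≫ g)) := by
    rw [hg']
    exact mIsoD_comp (mIsoD_of_isIso _ _) (mIsoD_comp hα (mIsoD_of_isIso _ _))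
  have hc := (DerPerf.mIso_Q_map_iff n (t ≫ g)).1 h₁
  have hC := KFlat.rflat_mappingCone_sch (t ≫ g) (KFlat.isKFlat_resF E') hG
  have h2 := (DerPerf.mIso_Q_map_iff n ((qC k).map (t ≫ g))).2 fun j hj =>
    (DerPerf.isZero_homology_pullback k hC n hc j hj).of_iso
      ((HomologicalComplex.homologyFunctor _ _ j).mapIso
        (CochainComplex.mappingCone.mapHomologicalComplexIso (t ≫ g) (Scheme.Modules.pullback k)).symm)
  haveI := h2.1 i hi
  haveI : QuasiIso (t ≫ s) := (DerivedCategory.isIso_Q_map_iff_quasiIso _ _).1 hts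
  haveI := KFlat.quasiIso_map_of_kFlat (KFlat.kFlatAcyclic_pullback k) (t ≫ s) (KFlat.isKFlat_resF E') hE
  exact ((h.of_iso ((DerivedCategory.homologyFunctor _ i).mapIso
      ((ProjForm.lpullIso k hG).symm ≪≫ (DCoh.Lpull k).mapIso eG))).of_iso
        (asIso ((DerivedCategory.homologyFunctor _ i).map (DerivedCategory.Q.map ((qC k).map (t ≫ g)))))).of_iso
    ((isoOfQuasiIsoAt ((qC k).map (t ≫ s)) i).symm ≪≫ (KFlat.hdIso _ i).symm)

/-- derived pullback after restriction -/
lemma nonempty_lpull_rd (O : X.Opens) {X' : Scheme.{u}} (k : X' ⟶ (O : Scheme.{u})) (h : X' ⟶ X) (w : k ≫ O.ι = h)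
    [DCoh.HasLpull k] [DCoh.HasLpull h] (K : DCoh.D X) :
    Nonempty ((DCoh.Lpull k).obj ((RD O.ι).obj K) ≅ (DCoh.Lpull h).obj K) := by
  subst w
  obtain ⟨G, hG, -, ⟨eG⟩⟩ := KFlat.exists_isKFlat_rep K
  exact ⟨(DCoh.Lpull k).mapIso ((RD O.ι).mapIso eG.symm ≪≫ rdIso O.ι G ≪≫
      DerivedCategory.Q.mapIso (rCIsoQC O.ι G)) ≪≫
    ProjForm.lpullIso k (KFlat.isKFlat_pullback O.ι hG) ≪≫
    DerivedCategory.Q.mapIso (((Functor.mapHomologicalComplexCompIso (Scheme.Modules.pullbackComp k O.ι)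
      (ComplexShape.up ℤ))).app G) ≪≫
    (ProjForm.lpullIso (k ≫ O.ι) hG).symm ≪≫ (DCoh.Lpull _).mapIso eG⟩

/-- **perfection near a point from the derived fibre at that point** -/
theorem perfect_near_of_fibre {K : DCoh.D X} {a b : ℤ} (hab : a ≤ b) (hGE : K.IsGE a) (hK : IsAboveD (b + 1) K)
    (hp : DCoh.IsPseudoCoherentD (a - 2) K) (x : X) [DCoh.HasLpull (X.fromSpecResidueField x)]
    (hx : IsZero (DCoh.HD ((DCoh.Lpull (X.fromSpecResidueField x)).obj K) (a - 1))) :
    Near (fun j => PerfOn j K) x := by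
  haveI := hGE
  obtain ⟨F₀, hF₀, ⟨eF₀⟩⟩ := DerivedCategory.exists_iso_Q_obj_of_isGE K a
  obtain ⟨O, E, α, hxO, hE, hEb, hα⟩ := RelPCS.exists_approx_le (n := a - 2) (b := b) (by lia) hK hp x
  obtain ⟨-, hl⟩ := id hE
  let F := (rC O.ι).obj F₀
  haveI : F.IsStrictlyGE a := (CochainComplex.isStrictlyGE_iff F a).2 fun i hi =>
    (Scheme.Modules.restrictFunctor O.ι).map_isZero (F₀.isZero_of_isStrictlyGE a i hi)
  let eF : DerivedCategory.Q.obj F ≅ (RD O.ι).obj K := (rdIso O.ι F₀).symm ≪≫ (RD O.ι).mapIso eF₀.symm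
  obtain ⟨E', s, hs, g, hg⟩ := DerivedCategory.right_fac (α ≫ eF.inv)
  have hqs : QuasiIso s := (DerivedCategory.isIso_Q_map_iff_quasiIso _ s).1 hs
  have hqg : ∀ i, a ≤ i → QuasiIsoAt g i := fun i hi => by
    rw [quasiIsoAt_iff_isIso_homologyMap]
    refine (NatIso.isIso_map_iff (DerivedCategory.homologyFunctorFactors (O : Scheme.{u}).Modules i) g).1 ?_
    have h1 : DerivedCategory.Q.map g = DerivedCategory.Q.map s ≫ α ≫ eF.inv := by
      rw [hg, IsIso.hom_inv_id_assoc]
    haveI := hα.1 i (by lia)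
    change IsIso ((DerivedCategory.homologyFunctor (O : Scheme.{u}).Modules i).map (DerivedCategory.Q.map g))
    rw [h1, Functor.map_comp, Functor.map_comp]
    infer_instance
  have q1 : QuasiIso (CochainComplex.truncGEMap s a) :=
    (CochainComplex.quasiIso_truncGEMap_iff s a).2 fun i _ => inferInstance
  have q2 : QuasiIso (CochainComplex.truncGEMap g a) := (CochainComplex.quasiIso_truncGEMap_iff g a).2 hqg
  have q3 : QuasiIso (F.πTruncGE a) := (CochainComplex.quasiIso_πTruncGE_iff F a).2 inferInstance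
  let τ := E.truncGE a
  let eτ : DCoh.toD (O : Scheme.{u}) τ ≅ (RD O.ι).obj K :=
    (@asIso _ _ _ _ _ ((DerivedCategory.isIso_Q_map_iff_quasiIso _ _).2 q1)).symm ≪≫
      (@asIso _ _ _ _ _ ((DerivedCategory.isIso_Q_map_iff_quasiIso _ _).2 q2)) ≪≫
      (@asIso _ _ _ _ _ ((DerivedCategory.isIso_Q_map_iff_quasiIso _ _).2 q3)).symm ≪≫ eF
  have hXgt : ∀ i, a < i → Nonempty (τ.X i ≅ E.X i) := fun i hi => by
    obtain ⟨k, rfl⟩ := Int.le.dest hi.le
    exact ⟨HomologicalComplex.truncGEXIso E (ComplexShape.embeddingUpIntGE a) (i := k) (by simp)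
      (fun h' => by have := (ComplexShape.boundaryGE_embeddingUpIntGE_iff a k).1 h'; lia)⟩
  have hv : DCoh.VanishesOutside τ a b := fun i hi => by
    rcases hi with hi | hi
    · exact τ.isZero_of_isStrictlyGE a i hi
    · obtain ⟨e⟩ := hXgt i (by lia)
      exact (hEb i hi).of_iso e
  let C := E.opcycles a
  let eC : τ.X a ≅ C := HomologicalComplex.truncGEXIsoOpcycles E (ComplexShape.embeddingUpIntGE a)
    (i := 0) (i' := a) (by simp) ((ComplexShape.boundaryGE_embeddingUpIntGE_iff a 0).2 rfl)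
  let eC' : cokernel (E.d (a - 1) a) ≅ C := (cokernelIsCokernel (E.d (a - 1) a)).coconePointUniqueUpToIso
    (E.opcyclesIsCokernel (a - 1) a (by simp))
  let k := IsOpenImmersion.lift O.ι (X.fromSpecResidueField x) (by
    rintro _ ⟨p, rfl⟩
    rw [Scheme.fromSpecResidueField_apply, Scheme.Opens.range_ι]
    exact hxO)
  have hk : k ≫ O.ι = X.fromSpecResidueField x := IsOpenImmersion.lift_fac _ _ _
  let p₀ : (Spec (X.residueField x) : Scheme.{u}) := IsLocalRing.closedPoint (X.residueField x)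
  let x₀ : (O : Scheme.{u}) := k.base p₀
  have hx₀ : O.ι.base x₀ = x := by
    show O.ι.base (k.base p₀) = x
    rw [← Scheme.Hom.comp_apply, hk]
    exact Scheme.fromSpecResidueField_apply x p₀
  haveI := KFlat.hasLpull k
  haveI := KFlat.hasLpull O.ι
  haveI := KFlat.hasLpull (k ≫ O.ι)
  have hEK := DerPerf.isKFlat_of_isStrictlyPerfect hE
  obtain ⟨eK⟩ := nonempty_lpull_rd O k _ hk K
  have hz : IsZero (((qC k).obj E).homology (a - 1)) :=
    isZero_lpull_of_mIso k hEK α hα (a - 1) (by lia)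
      (hx.of_iso ((DerivedCategory.homologyFunctor _ (a - 1)).mapIso eK))
  have hflat : Module.Flat ((O : Scheme.{u}).presheaf.stalk x₀) ((cokernel (E.d (a - 1) a)).presheaf.stalk x₀) := by
    let P := (KFlat.stCx x₀).obj E
    have hP : DRing.TermwiseFiniteFree P := fun i => finiteFree_stalk (hl i) x₀
    haveI : IsPreimmersion (k ≫ O.ι) := by rw [hk]; infer_instance
    haveI : IsPreimmersion k := IsPreimmersion.of_comp k O.ι
    have hF : IsField ((Spec (X.residueField x)).presheaf.stalk p₀) :=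
      (stalkClosedPointIso (X.residueField x)).commRingCatIsoToRingEquiv.toMulEquiv.isField
        (Field.toIsField (X.residueField x))
    let e₁ : ((DerSch.stalkFunctor _ p₀).mapHomologicalComplex (ComplexShape.up ℤ)).obj ((qC k).obj E) ≅
        (DRingKP.bc (k.stalkMap p₀).hom).obj P :=
      HomologicalComplex.Hom.isoOfComponents (fun n => ((KFlat.pullStalkIso k p₀).app (E.X n)))
        (fun p q _ => ((KFlat.pullStalkIso k p₀).hom.naturality (E.d p q)).symm)
    have h := flat_coker_of_exact_field (k.stalkMap p₀).hom (k.stalkMap_surjective p₀) hF hP (a - 1)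
      (IsZero.of_iso ((DerSch.stalkFunctor _ p₀).map_isZero hz)
        ((HomologicalComplex.homologyFunctor _ _ (a - 1)).mapIso e₁.symm ≪≫
          (((qC k).obj E).sc (a - 1)).mapHomologyIso (DerSch.stalkFunctor _ p₀)))
    rw [show a - 1 + 1 = a by lia] at h
    exact @Module.Flat.of_linearEquiv _ _ _ _ _ _ _ _ h
      (PreservesCokernel.iso (DerSch.stalkFunctor _ x₀) (E.d (a - 1) a) ≪≫
        ModuleCat.cokernelIsoRangeQuotient _).toLinearEquiv
  obtain ⟨V, hxV, hV⟩ := exists_flat_nhd_cokernel (E.d (a - 1) a) (hl _) (hl _) x₀ hflat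
  have hfree : ∀ i, FlatMod.IsFinLocFree ((Scheme.Modules.restrictFunctor V.ι).obj (τ.X i)) := fun i => by
    rcases lt_trichotomy i a with hi | rfl | hi
    · exact isFinLocFree_of_isZero ((Scheme.Modules.restrictFunctor V.ι).map_isZero (hv i (Or.inl hi)))
    · refine isFinLocFree_of_iso' ((Scheme.Modules.restrictFunctor V.ι).mapIso (eC' ≪≫ eC.symm)) ?_
      refine isFinLocFree_of_iso' (PreservesCokernel.iso (Scheme.Modules.restrictFunctor V.ι) _).symm ?_
      exact isFinLocFree_cokernel _ (isFinLocFree_restrict _ (hl _)) (isFinLocFree_restrict _ (hl _))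
        (KFlat.isFlat_of_iso (PreservesCokernel.iso (Scheme.Modules.restrictFunctor V.ι) _) hV)
    · obtain ⟨e⟩ := hXgt i hi
      exact isFinLocFree_of_iso' ((Scheme.Modules.restrictFunctor V.ι).mapIso e).symm
        (isFinLocFree_restrict _ (hl i))
  refine ⟨_, V.ι ≫ O.ι, inferInstance, ⟨x₀, hxV⟩, hx₀, (rC V.ι).obj τ,
    ⟨⟨a, b, fun i hi => (Scheme.Modules.restrictFunctor V.ι).map_isZero (hv i hi)⟩, hfree⟩,
    ⟨(rdComp V.ι O.ι).app K ≪≫ (RD V.ι).mapIso eτ.symm ≪≫ rdIso V.ι τ⟩⟩

/-- perfect objects on a one point scheme have bounded below cohomology -/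
lemma exists_isZero_of_perfect_point [Subsingleton X] (p : X) {L : DCoh.D X} (hL : DCoh.IsPerfect L) :
    ∃ a : ℤ, ∀ i < a, IsZero (DCoh.HD L i) := by
  obtain ⟨U, j, hj, u, -, E, ⟨⟨a, b, hab⟩, -⟩, ⟨e⟩⟩ := (perfect_iff_near L).1 hL p
  haveI := hj
  refine ⟨a, fun i hi => KFlat.isZero_of_stalks _ fun y => ?_⟩
  obtain rfl : j.base u = y := Subsingleton.elim _ _
  have h0 : IsZero (DCoh.HD (DerivedCategory.Q.obj E) i) :=
    (ShortComplex.isZero_homology_of_isZero_X₂ _ (hab i (Or.inl hi))).of_iso (KFlat.hdIso E i)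
  have h1 : IsZero ((Scheme.Modules.restrictFunctor j).obj (DCoh.HD L i)) :=
    (h0.of_iso ((DerivedCategory.homologyFunctor _ i).mapIso e)).of_iso (PerfGen.hdRD j L i).symm
  by_contra hy
  have hy' : u ∈ CohB1.support ((Scheme.Modules.restrictFunctor j).obj (DCoh.HD L i)) := by
    rw [PerfGen.support_restrict]; exact (PerfGen.mem_support_iff _ _).2 hy
  exact (PerfGen.mem_support_iff _ _).1 hy' ((DerSch.stalkFunctor U u).map_isZero h1)

/-- **perfection and the derived fibres of a flat morphism** -/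
theorem isPerfect_iff_fibres {S : Scheme.{u}} (f : X ⟶ S) [Flat f] [∀ s : S, DCoh.HasLpull (f.fiberι s)]
    (K : DCoh.D X) :
    DCoh.IsPerfect K ↔ ((∀ m : ℤ, DCoh.IsPseudoCoherentD m K) ∧ DCoh.LocHasFiniteRelTorDim f K ∧
      ∀ s : S, DCoh.IsPerfect ((DCoh.Lpull (f.fiberι s)).obj K)) := by
  constructor
  · intro h
    refine ⟨pc_of_perfect h, fun x => ?_, fun s => DerPerf.isPerfect_Lpull _ K h⟩
    obtain ⟨V, a, b, hxV, hV⟩ := ((isPerfect_iff_pc_locTor K).1 h).2 x
    refine ⟨V, a, b, hxV, fun F hF => ?_⟩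
    obtain ⟨E', h1, h2, h3⟩ := hV F hF
    exact ⟨E', h1, fun i => flatOver_of_flat (V.ι ≫ f) (h2 i), h3⟩
  · rintro ⟨hp, hlt, hfib⟩
    rw [perfect_iff_near]
    intro x
    obtain ⟨V, a₀, b₀, hxV, hV⟩ := hlt x
    let F := (DerivedCategory.Q : _ ⥤ DCoh.D X).objPreimage K
    let eF : DCoh.toD X F ≅ K := DerivedCategory.Q.objObjPreimageIso K
    obtain ⟨E', hvan, -, ⟨e⟩⟩ := hV F ⟨eF⟩
    let eV : DerivedCategory.Q.obj E' ≅ (RD V.ι).obj K := e ≪≫ (rdIso V.ι F).symm ≪≫ (RD V.ι).mapIso eF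
    let x' : (V : Scheme.{u}) := ⟨x, hxV⟩
    let k := (V : Scheme.{u}).fromSpecResidueField x'
    have w : (k ≫ V.ι) ≫ f = Spec.map ((V.ι ≫ f).residueFieldMap x') ≫ S.fromSpecResidueField ((V.ι ≫ f).base x') := by
      rw [Scheme.Hom.SpecMap_residueFieldMap_fromSpecResidueField, Category.assoc]
    let g : Spec ((V : Scheme.{u}).residueField x') ⟶ f.fiber ((V.ι ≫ f).base x') := pullback.lift (k ≫ V.ι) _ w
    have hg : g ≫ f.fiberι _ = k ≫ V.ι := pullback.lift_fst _ _ _
    haveI := KFlat.hasLpull k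
    haveI := KFlat.hasLpull g
    haveI := KFlat.hasLpull (k ≫ V.ι)
    haveI := KFlat.hasLpull (g ≫ f.fiberι ((V.ι ≫ f).base x'))
    obtain ⟨e1⟩ := nonempty_lpull_rd V k (g ≫ f.fiberι _) hg.symm K
    obtain ⟨e2⟩ := KFlat.Lpull_comp_sch g (f.fiberι ((V.ι ≫ f).base x'))
    haveI : Subsingleton (Spec ((V : Scheme.{u}).residueField x') : Scheme.{u}) :=
      inferInstanceAs (Subsingleton (PrimeSpectrum ((V : Scheme.{u}).residueField x')))
    obtain ⟨a', ha'⟩ := exists_isZero_of_perfect_point (IsLocalRing.closedPoint _)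
      (DerPerf.isPerfect_Lpull g _ (hfib ((V.ι ≫ f).base x')))
    let a := min a₀ a'
    have hz : ∀ i, (i < a ∨ max b₀ a < i) → IsZero (DCoh.HD ((RD V.ι).obj K) i) := fun i hi =>
      ((ShortComplex.isZero_homology_of_isZero_X₂ _ (hvan i (by lia))).of_iso (KFlat.hdIso E' i)).of_iso
        ((DerivedCategory.homologyFunctor _ i).mapIso eV.symm)
    obtain ⟨U, j, hj, u, hu, hP⟩ := perfect_near_of_fibre (K := (RD V.ι).obj K) (a := a) (b := max b₀ a)
      (le_max_right _ _) ((DerivedCategory.isGE_iff _ _).2 fun i hi => hz i (Or.inl hi))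
      (fun i hi => hz i (Or.inr (by lia))) (pc_restrict V.ι (hp (a - 2))) x'
      ((ha' (a - 1) (by lia)).of_iso ((DerivedCategory.homologyFunctor _ (a - 1)).mapIso
        (e1 ≪≫ (e2.app K).symm)))
    haveI := hj
    exact ⟨U, j ≫ V.ι, inferInstance, u, congrArg (fun t => V.ι.base t) hu, perfOn_push j V.ι hP⟩

end Groth.Agent.KSixLib
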