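import Groth.Agent.DQCoh.PerfCrit
import Groth.Agent.RelPCS.Partial
import Groth.Agent.KSixLib.Bridge
import Groth.Prelude.Def_KSix

/-!
# Perfect amplitude on a scheme
-/

set_option backward.isDefEq.respectTransparency false
set_option backward.isDefEq.respectTransparency.types false
set_option linter.style.haveILetI false
set_option autoImplicit false

universe u

open CategoryTheory Limits AlgebraicGeometry HomologicalComplex Pretriangulated ZeroObject

attribute [local instance] HasDerivedCategory.standard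

open Groth.Agent.QC

namespace Groth.Agent.KSixLib

open Groth.Agent.DQCoh

variable {X U : Scheme.{u}}

/-- the standard truncation argument -/
lemma exists_perfect_of_pc_amp_le {K : DCoh.D X} {a b : ℤ} (hab : a ≤ b)
    {E : CochainComplex X.Modules ℤ} (hE : DCoh.IsStrictlyPerfect E) (α : DerivedCategory.Q.obj E ⟶ K)
    (hα : MIsoD (a - 1) α) (hEb : ∀ i, b < i → IsZero (E.X i)) (h : DCoh.HasFlatAmplitudeIn a b K) :
    ∃ τ : CochainComplex X.Modules ℤ, DCoh.VanishesOutside τ a b ∧ DCoh.IsStrictlyPerfect τ ∧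
      Nonempty (DCoh.toD X τ ≅ K) := by
  obtain ⟨F, hF, hFf, ⟨eF⟩⟩ := id h
  haveI : F.IsStrictlyGE a := (CochainComplex.isStrictlyGE_iff F a).2 fun i hi => hF i (Or.inl hi)
  obtain ⟨E', s, hs, g, hg⟩ := DerivedCategory.right_fac (α ≫ eF.inv)
  have hqs : QuasiIso s := (DerivedCategory.isIso_Q_map_iff_quasiIso _ s).1 hs
  have hqg : ∀ i, a ≤ i → QuasiIsoAt g i := fun i hi => by
    rw [quasiIsoAt_iff_isIso_homologyMap]
    refine (NatIso.isIso_map_iff (DerivedCategory.homologyFunctorFactors X.Modules i) g).1 ?_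
    have h1 : DerivedCategory.Q.map g = DerivedCategory.Q.map s ≫ α ≫ eF.inv := by
      rw [hg, IsIso.hom_inv_id_assoc]
    haveI := hα.1 i (by lia)
    change IsIso ((DerivedCategory.homologyFunctor X.Modules i).map (DerivedCategory.Q.map g))
    rw [h1, Functor.map_comp, Functor.map_comp]
    infer_instance
  have q1 : QuasiIso (CochainComplex.truncGEMap s a) :=
    (CochainComplex.quasiIso_truncGEMap_iff s a).2 fun i _ => inferInstance
  have q2 : QuasiIso (CochainComplex.truncGEMap g a) := (CochainComplex.quasiIso_truncGEMap_iff g a).2 hqg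
  have q3 : QuasiIso (F.πTruncGE a) := (CochainComplex.quasiIso_πTruncGE_iff F a).2 inferInstance
  let τ := E.truncGE a
  let eτ : DCoh.toD X τ ≅ K :=
    (@asIso _ _ _ _ _ ((DerivedCategory.isIso_Q_map_iff_quasiIso _ _).2 q1)).symm ≪≫
      (@asIso _ _ _ _ _ ((DerivedCategory.isIso_Q_map_iff_quasiIso _ _).2 q2)) ≪≫
      (@asIso _ _ _ _ _ ((DerivedCategory.isIso_Q_map_iff_quasiIso _ _).2 q3)).symm ≪≫ eF
  obtain ⟨⟨a', b', hab'⟩, hl⟩ := hE
  let B := max (max b b') (a + 1)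
  have hXgt : ∀ i, a < i → Nonempty (τ.X i ≅ E.X i) := fun i hi => by
    obtain ⟨k, rfl⟩ := Int.le.dest hi.le
    exact ⟨HomologicalComplex.truncGEXIso E (ComplexShape.embeddingUpIntGE a) (i := k) (by simp)
      (fun h' => by have := (ComplexShape.boundaryGE_embeddingUpIntGE_iff a k).1 h'; lia)⟩
  have hv : DCoh.VanishesOutside τ a B := fun i hi => by
    rcases hi with hi | hi
    · exact τ.isZero_of_isStrictlyGE a i hi
    · obtain ⟨e⟩ := hXgt i (by lia)
      exact (hab' i (Or.inr (by lia))).of_iso e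
  let C := E.opcycles a
  let eC : τ.X a ≅ C := HomologicalComplex.truncGEXIsoOpcycles E (ComplexShape.embeddingUpIntGE a)
    (i := 0) (i' := a) (by simp) ((ComplexShape.boundaryGE_embeddingUpIntGE_iff a 0).2 rfl)
  let eC' : cokernel (E.d (a - 1) a) ≅ C := (cokernelIsCokernel (E.d (a - 1) a)).coconePointUniqueUpToIso
    (E.opcyclesIsCokernel (a - 1) a (by simp))
  let σ := σGE τ (a + 1)
  have hσf : ∀ i, FlatMod.IsFlat (σ.X i) := fun i => by
    by_cases hi : a + 1 ≤ i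
    · haveI := isIso_σι_f τ (a + 1) i hi
      obtain ⟨e⟩ := hXgt i (by lia)
      exact KFlat.isFlat_of_iso (asIso ((σι τ (a + 1)).f i) ≪≫ e).symm (DerPerf.isFlat_of_isFinLocFree (hl i))
    · exact KFlat.isFlat_of_isZero (isZero_σGE_X τ (a + 1) i (not_le.1 hi))
  have hT := DerivedCategory.triangleOfSES_distinguished (σSeq_shortExact τ (a + 1))
  let T := DerivedCategory.triangleOfSES (σSeq_shortExact τ (a + 1))
  have h1 : DCoh.HasFlatAmplitudeIn (a + 1) (B + 1) T.obj₁ := ⟨σ, fun i hi => by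
      rcases hi with hi | hi
      · exact isZero_σGE_X τ (a + 1) i hi
      · exact IsZero.of_mono ((σι τ (a + 1)).f i) (hv i (Or.inr (by lia))), hσf, ⟨Iso.refl _⟩⟩
  have h2 : DCoh.HasFlatAmplitudeIn a B T.obj₂ :=
    ⟨F, fun i hi => hF i (hi.imp id fun hi => by lia), hFf, ⟨eF ≪≫ eτ.symm⟩⟩
  have h3 := (KFlat.torAmplitude_triangle_sch T hT a B).1 h1 h2
  let Qc := (σSeq τ (a + 1)).X₃
  haveI : IsIso ((σSeq τ (a + 1)).g.f a) :=
    ((σSeq_shortExact τ (a + 1)).map_of_exact (HomologicalComplex.eval _ _ a)).isIso_g_iff.2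
      (isZero_σGE_X τ (a + 1) a (by lia))
  have hQz : ∀ i, i ≠ a → IsZero (Qc.X i) := fun i hi => by
    rcases lt_or_gt_of_ne hi with hi | hi
    · haveI : IsIso ((σSeq τ (a + 1)).g.f i) :=
        ((σSeq_shortExact τ (a + 1)).map_of_exact (HomologicalComplex.eval _ _ i)).isIso_g_iff.2
          (isZero_σGE_X τ (a + 1) i (by lia))
      exact (hv i (Or.inl hi)).of_iso (@asIso _ _ _ _ ((σSeq τ (a + 1)).g.f i) this).symm
    · exact isZero_σQuot τ (a + 1) i (by lia)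
  haveI : Qc.IsStrictlyGE a := (CochainComplex.isStrictlyGE_iff _ a).2 fun i hi => hQz i (by lia)
  haveI : Qc.IsStrictlyLE a := (CochainComplex.isStrictlyLE_iff _ a).2 fun i hi => hQz i (by lia)
  obtain ⟨M, ⟨eM⟩⟩ := CochainComplex.exists_iso_single Qc a
  let eMC : M ≅ C := (singleObjXSelf (ComplexShape.up ℤ) a M).symm ≪≫
    ((HomologicalComplex.eval _ _ a).mapIso eM).symm ≪≫ (asIso ((σSeq τ (a + 1)).g.f a)).symm ≪≫ eC
  have hM : DCoh.HasTorAmplitudeIn 0 (B - a) (DCoh.inD X M) := by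
    refine KFlat.hasTorAmplitudeIn_of_torRep (KFlat.torRep_of_iso ?_
      (KFlat.torRep_shift (KFlat.torRep_iff.2 h3) a 0 (B - a) (by lia) (by lia)))
    exact (shiftFunctor (DCoh.D X) a).mapIso (DerivedCategory.Q.mapIso eM ≪≫
        ((DerivedCategory.singleFunctorIsoCompQ X.Modules a).app M).symm) ≪≫
      ((DerivedCategory.singleFunctors X.Modules).shiftIso a 0 a (by lia)).app M
  have hCflat : FlatMod.IsFlat C := KFlat.isFlat_of_iso eMC (isFlat_of_torAmp hM)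
  have hCfree : FlatMod.IsFinLocFree C := isFinLocFree_of_iso' eC'
    (isFinLocFree_cokernel _ (hl _) (hl _) (KFlat.isFlat_of_iso eC'.symm hCflat))
  refine ⟨τ, fun i hi => ?_, ⟨⟨a, B, hv⟩, fun i => ?_⟩, ⟨eτ⟩⟩
  · rcases hi with hi | hi
    · exact hv i (Or.inl hi)
    · obtain ⟨e⟩ := hXgt i (by lia)
      exact (hEb i hi).of_iso e
  rcases lt_trichotomy i a with hi | rfl | hi
  · exact isFinLocFree_of_isZero (hv i (Or.inl hi))
  · exact isFinLocFree_of_iso' eC.symm hCfree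
  · obtain ⟨e⟩ := hXgt i hi
    exact isFinLocFree_of_iso' e.symm (hl i)


lemma flatOver_id_iff (M : X.Modules) : FlatMod.IsFlatOver (𝟙 X) M ↔ FlatMod.IsFlat M := by
  refine ⟨fun h x => ?_, fun h => flatOver_of_flat (𝟙 X) h⟩
  have h1 := h x
  rw [isFlatOverAt_iff] at h1
  let φ := ((𝟙 X : X ⟶ X).stalkMap x).hom
  have hφ : ∀ r : X.presheaf.stalk x, φ r = r := fun r => by simp [φ]
  let e : (stA (𝟙 X) x).obj M ≃ₗ[X.presheaf.stalk x] M.presheaf.stalk x :=
    { toFun := fun m => m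
      invFun := fun m => m
      map_add' := fun _ _ => rfl
      map_smul' := fun r m => congrArg (fun c => c • (show M.presheaf.stalk x from m)) (hφ r)
      left_inv := fun _ => rfl
      right_inv := fun _ => rfl }
  exact @Module.Flat.of_linearEquiv _ _ _ _ _ _ _ _ h1 e.symm

theorem flatAmp_iff {a b : ℤ} {K : DCoh.D X} :
    DCoh.HasFlatAmplitudeIn a b K ↔ ∀ x, RelAmpAt (𝟙 X) a b K x := by
  rw [← hasRel_iff]
  exact exists_congr fun E => and_congr_right fun _ =>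
    and_congr_left fun _ => forall_congr' fun i => (flatOver_id_iff (E.X i)).symm

/-- flat amplitude is local -/
theorem flatAmp_of_locally {a b : ℤ} {K : DCoh.D X}
    (h : ∀ x : X, ∃ V : X.Opens, x ∈ V ∧ DCoh.HasFlatAmplitudeIn a b ((RD V.ι).obj K)) :
    DCoh.HasFlatAmplitudeIn a b K := by
  refine flatAmp_iff.2 fun x => ?_
  obtain ⟨V, hx, E, hE, hEf, ⟨e⟩⟩ := h x
  obtain ⟨F, -, -, ⟨eF⟩⟩ := KFlat.exists_isKFlat_rep K
  have hrel : DCoh.HasRelFlatAmplitudeIn (V.ι ≫ 𝟙 X) a b (DerivedCategory.Q.obj ((DCoh.restrictCx V).obj F)) :=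
    ⟨E, hE, fun i => flatOver_of_flat _ (hEf i), ⟨e ≪≫ (RD V.ι).mapIso eF.symm ≪≫ rdIso V.ι F⟩⟩
  exact relAmpAt_of_iso eF ((relAmpAt_restrict_iff V F a b ⟨x, hx⟩).1 (relAmpAt_of_rel hrel _))

lemma amp_of_perfAmp {a b : ℤ} {K : DCoh.D X} (h : KSix.HasPerfectAmplitudeIn a b K) :
    DCoh.HasFlatAmplitudeIn a b K :=
  flatAmp_of_locally fun x => by
    obtain ⟨V, hx, hV⟩ := h x
    obtain ⟨F, -, -, ⟨eF⟩⟩ := KFlat.exists_isKFlat_rep K
    obtain ⟨E, hE, hl, ⟨e⟩⟩ := hV F ⟨eF⟩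
    exact ⟨V, hx, E, hE, fun i => DerPerf.isFlat_of_isFinLocFree (hl i),
      ⟨e.symm ≪≫ (rdIso V.ι F).symm ≪≫ (RD V.ι).mapIso eF⟩⟩

lemma perfect_of_perfAmp {a b : ℤ} {K : DCoh.D X} (h : KSix.HasPerfectAmplitudeIn a b K) :
    DCoh.IsPerfect K := by
  rw [perfect_iff_near]
  intro x
  obtain ⟨V, hx, hV⟩ := h x
  obtain ⟨F, -, -, ⟨eF⟩⟩ := KFlat.exists_isKFlat_rep K
  obtain ⟨E, hE, hl, ⟨e⟩⟩ := hV F ⟨eF⟩
  exact ⟨_, V.ι, inferInstance, ⟨x, hx⟩, rfl, E, ⟨⟨a, b, hE⟩, hl⟩,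
    ⟨(RD V.ι).mapIso eF.symm ≪≫ rdIso V.ι F ≪≫ e⟩⟩

/-- **perfect amplitude** -/
theorem perfAmp_iff {a b : ℤ} (hab : a ≤ b) (K : DCoh.D X) :
    KSix.HasPerfectAmplitudeIn a b K ↔
      DCoh.IsPseudoCoherentD (a - 1) K ∧ DCoh.HasFlatAmplitudeIn a b K := by
  refine ⟨fun h => ⟨pc_of_perfect (perfect_of_perfAmp h) _, amp_of_perfAmp h⟩, fun ⟨h1, h2⟩ x => ?_⟩
  have hK : IsAboveD (b + 1) K := by
    obtain ⟨E, hE, -, ⟨e⟩⟩ := h2
    intro i hi
    exact ((ShortComplex.isZero_homology_of_isZero_X₂ _ (hE i (Or.inr (by lia)))).of_iso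
      ((DerivedCategory.homologyFunctorFactors X.Modules i).app E)).of_iso
        ((DerivedCategory.homologyFunctor X.Modules i).mapIso e.symm)
  obtain ⟨O, E, α, hx, hE, hEb, hα⟩ := RelPCS.exists_approx_le (n := a - 1) (b := b) (by lia) hK h1 x
  obtain ⟨τ, hτ, ⟨-, hl⟩, ⟨e⟩⟩ :=
    exists_perfect_of_pc_amp_le hab hE α hα hEb (hasFlatAmplitudeIn_restrict O.ι h2)
  exact ⟨O, hx, fun F ⟨eF⟩ => ⟨τ, hτ, hl, ⟨(rdIso O.ι F).symm ≪≫ (RD O.ι).mapIso eF ≪≫ e.symm⟩⟩⟩

end Groth.Agent.KSixLib
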