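import Groth.Agent.KSixLib.Ascend
import Groth.Agent.RelPCS.Chart
import Groth.Agent.S7066

/-!
# Tor dimension of the closed immersion of a chart
-/

set_option backward.isDefEq.respectTransparency false
set_option backward.isDefEq.respectTransparency.types false
set_option linter.style.haveILetI false
set_option autoImplicit false
set_option maxHeartbeats 1000000

universe u

open CategoryTheory Limits AlgebraicGeometry HomologicalComplex TensorProduct

attribute [local instance] HasDerivedCategory.standard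

namespace Groth.Agent.KSixLib

open Groth.Agent.DQCoh
open Groth.Agent.RelPCS

variable {X Y : Scheme.{u}}

/-- tor dimension at a point as amplitude of the local ring -/
lemma torDimAt_iff (f : X ⟶ Y) (d : ℕ) (x : X) :
    DerSch.HasTorAmplitudeAt f (-(d : ℤ)) 0 (DerSch.unitCx X) x ↔
      letI := (f.stalkMap x).hom.toAlgebra
      DRing.HasTorAmplitudeIn (Y.presheaf.stalk (f.base x)) (-(d : ℤ)) 0
        (Dual.inD (Y.presheaf.stalk (f.base x)) (X.presheaf.stalk x)) := by
  letI := (f.stalkMap x).hom.toAlgebra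
  let eB : (stA f x).obj (Coh.structureModule X) ≅
      ModuleCat.of (Y.presheaf.stalk (f.base x)) (X.presheaf.stalk x) :=
    (ModuleCat.restrictScalars.{u} _).mapIso (stOneIso x).symm ≪≫
      LinearEquiv.toModuleIso
        ({ toFun := fun t => t
           invFun := fun t => t
           map_add' := fun _ _ => rfl
           map_smul' := fun _ _ => rfl
           left_inv := fun _ => rfl
           right_inv := fun _ => rfl } :
          (ModuleCat.restrictScalars.{u} (f.stalkMap x).hom).obj
            (ModuleCat.of (X.presheaf.stalk x) (X.presheaf.stalk x)) ≃ₗ[Y.presheaf.stalk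
              (f.base x)] (X.presheaf.stalk x))
  let e := DerivedCategory.Q.mapIso
        ((HomologicalComplex.singleMapHomologicalComplex (stA f x) (ComplexShape.up ℤ) 0).app _ ≪≫
          (HomologicalComplex.single _ (ComplexShape.up ℤ) 0).mapIso eB) ≪≫
      ((DerivedCategory.singleFunctorIsoCompQ _ 0).app _).symm
  exact ⟨fun h => DRingKP.amp_of_iso e h, fun h => DRingKP.amp_of_iso e.symm h⟩

/-- from amplitude over a localization of `R` to amplitude over a localization of `R[x]` -/
theorem amp_localized_mvPolynomial {R A Q M : Type u} [CommRing R] [CommRing A] [CommRing Q] [CommRing M]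
    [Algebra R A] [Module.Flat R A] {n d : ℕ} [Algebra (MvPolynomial (Fin n) R) Q]
    (T : Submonoid (MvPolynomial (Fin n) R)) [IsLocalization T Q] [Algebra A M] [Algebra Q M]
    (hc : ∀ r : R, algebraMap A M (algebraMap R A r) =
      algebraMap Q M (algebraMap (MvPolynomial (Fin n) R) Q (MvPolynomial.C r)))
    (h : DRing.HasTorAmplitudeIn A (-(d : ℤ)) 0 (Dual.inD A M)) :
    DRing.HasTorAmplitudeIn Q (-((d + n : ℕ) : ℤ)) 0 (Dual.inD Q M) := by
  let P := MvPolynomial (Fin n) R
  letI : Algebra P M := ((algebraMap Q M).comp (algebraMap P Q)).toAlgebra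
  haveI : IsScalarTower P Q M := IsScalarTower.of_algebraMap_eq fun _ => rfl
  letI : Algebra R M := ((algebraMap P M).comp MvPolynomial.C).toAlgebra
  haveI : IsScalarTower R P M := IsScalarTower.of_algebraMap_eq fun _ => rfl
  haveI : IsScalarTower R A M := IsScalarTower.of_algebraMap_eq fun r => (hc r).symm
  have hA : DRing.HasTorAmplitudeIn R (-((0 : ℕ) : ℤ)) 0 (Dual.inD R A) := by
    simpa using (DRingKP.amp_zero_iff_flat (A := R) A).2 inferInstance
  let res := ModuleCat.restrictScalars.{u} (algebraMap R A)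
  let eM : res.obj (ModuleCat.of A M) ≅ ModuleCat.of R M :=
    ({ toFun := fun x => x
       map_add' := fun _ _ => rfl
       map_smul' := fun c x => algebraMap_smul (M := M) A c x
       invFun := fun x => x
       left_inv := fun _ => rfl
       right_inv := fun _ => rfl } : res.obj (ModuleCat.of A M) ≃ₗ[R] M).toModuleIso
  have hR : DRing.HasTorAmplitudeIn R (-(d : ℤ)) 0 (Dual.inD R M) := by
    have h0 := DRingKP.amp_res 0 hA _ _ _ h
    simp only [Nat.cast_zero, sub_zero] at h0
    exact DRingKP.amp_of_iso ((res.mapDerivedCategorySingleFunctor 0).app _ ≪≫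
      (DerivedCategory.singleFunctor (ModuleCat.{u} R) 0).mapIso eM) h0
  have hP : DRing.HasTorAmplitudeIn P (-((d + n : ℕ) : ℤ)) 0 (Dual.inD P M) := S7066.amp_mvPolynomial n d M hR
  haveI : Module.Flat P Q := IsLocalization.flat Q T
  let e : Q ⊗[P] M ≃ₗ[Q] M := (IsLocalization.moduleLid T Q M)
  exact DRingKP.amp_of_iso ((DerivedCategory.singleFunctor (ModuleCat.{u} Q) 0).mapIso e.toModuleIso)
    (S7066.amp_baseChange _ _ M hP)

/-- the tor dimension of a chart at a point -/
theorem torDimAt_chart {Z : Scheme.{u}} {V : Y.Opens} (hV : IsAffineOpen V) {n : ℕ}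
    (g : Z ⟶ Spec (CommRingCat.of (MvPolynomial (Fin n) Γ(Y, V)))) {d : ℕ} (z : Z)
    (h : DerSch.HasTorAmplitudeAt
      (g ≫ sp (MvPolynomial.C : Γ(Y, V) →+* MvPolynomial (Fin n) Γ(Y, V)) ≫ hV.fromSpec) (-(d : ℤ)) 0
      (DerSch.unitCx Z) z) :
    DerSch.HasTorAmplitudeAt g (-((d + n : ℕ) : ℤ)) 0 (DerSch.unitCx Z) z := by
  let R := Γ(Y, V)
  let P := MvPolynomial (Fin n) R
  let γ : Γ(Y, V) ⟶ CommRingCat.of P := CommRingCat.ofHom MvPolynomial.C
  let k := Spec.map γ ≫ hV.fromSpec
  let w := g.base z
  have hv : k.base w ∈ V := hV.range_fromSpec.le ⟨(Spec.map γ).base w, rfl⟩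
  have key : Y.presheaf.germ V (k.base w) hv ≫ k.stalkMap w =
      γ ≫ StructureSheaf.toStalk P w := by
    refine Spec.map_injective ((cancel_mono hV.fromSpec).1 ?_)
    rw [Spec.map_comp, Spec.map_comp, Category.assoc, Category.assoc]
    change Spec.map (k.stalkMap w) ≫ hV.fromSpecStalk hv = _
    rw [hV.fromSpecStalk_eq_fromSpecStalk, Scheme.SpecMap_stalkMap_fromSpecStalk, Spec.fromSpecStalk_eq]
    rfl
  rw [torDimAt_iff] at h ⊢
  letI : Algebra R (Y.presheaf.stalk (k.base w)) := (Y.presheaf.germ V (k.base w) hv).hom.toAlgebra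
  haveI : IsLocalization.AtPrime (Y.presheaf.stalk (k.base w)) (hV.primeIdealOf ⟨_, hv⟩).asIdeal :=
    hV.isLocalization_stalk ⟨_, hv⟩
  haveI : Module.Flat R (Y.presheaf.stalk (k.base w)) :=
    IsLocalization.flat (Y.presheaf.stalk (k.base w)) (hV.primeIdealOf ⟨_, hv⟩).asIdeal.primeCompl
  letI := (g.stalkMap z).hom.toAlgebra
  letI : Algebra P ((Spec (CommRingCat.of P)).presheaf.stalk w) := (StructureSheaf.toStalk P w).hom.toAlgebra
  haveI : IsLocalization.AtPrime ((Spec (CommRingCat.of P)).presheaf.stalk w) w.asIdeal :=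
    StructureSheaf.IsLocalization.to_stalk P w
  letI : Algebra (Y.presheaf.stalk (k.base w)) (Z.presheaf.stalk z) := ((g ≫ k).stalkMap z).hom.toAlgebra
  refine amp_localized_mvPolynomial (R := R) (A := Y.presheaf.stalk (k.base w)) w.asIdeal.primeCompl (fun r => ?_) h
  change ((g ≫ k).stalkMap z).hom _ = _
  rw [Scheme.Hom.stalkMap_comp]
  exact congrArg (g.stalkMap z).hom (congr(($key).hom r))

end Groth.Agent.KSixLib
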