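import Groth.Agent.RelPCS.Partial
import Groth.Agent.RelPCS.Comp

/-!
# Composites of partly pseudo-coherent morphisms
-/

set_option backward.isDefEq.respectTransparency false
set_option backward.isDefEq.respectTransparency.types false
set_option linter.style.haveILetI false
set_option autoImplicit false

universe u

open CategoryTheory Limits AlgebraicGeometry Pretriangulated Opposite TopologicalSpace

attribute [local instance] HasDerivedCategory.standard

namespace Groth.Agent.KSixLib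

open Groth.Agent.DQCoh Groth.Agent.RelPC Groth.Agent.RelPCS

variable {X Y Z : Scheme.{u}}

/-- direct image of an `m`-pseudo-coherent object along a partly pseudo-coherent closed immersion -/
theorem pc_push_n {i : X ⟶ Y} [IsClosedImmersion i] {n m b : ℤ} (hi : HypOn i n) (hm : n ≤ m - b)
    {K : DCoh.D X} (hb : IsAboveD (b + 1) K) (hK : DCoh.IsPseudoCoherentD m K) :
    DCoh.IsPseudoCoherentD m ((PD i).obj K) := by
  by_cases hmb : b < m
  · exact pc_of_isAbove (isAboveD_map _ (isAboveD_mono (by lia) hb))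
  refine pc_push_of_locally i fun x => ?_
  obtain ⟨O, E, α, hx, hE, hEb, hα⟩ := exists_approx_le (n := m) (b := b) (by lia) hb hK x
  obtain ⟨V, hV⟩ := exists_preimage_eq i O
  subst hV
  refine ⟨V, hx, ?_⟩
  obtain ⟨Cn, v, w, hT⟩ := Pretriangulated.distinguished_cocone_triangle α
  have hC : IsAboveD m Cn := (mIsoD_iff m _ hT).1 hα
  exact pc_obj₂ _ ((PD (i ∣_ V)).map_distinguished _ hT) m
    (pc_push_perfect_n (hi.restr V) hm hE hEb) (pc_of_isAbove (isAboveD_map _ hC))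

theorem nPseudoCoherent_comp (f : X ⟶ Y) (g : Y ⟶ Z) [LocallyOfFiniteType f] [LocallyOfFiniteType g] {r s : ℤ}
    (hf : DerSch.IsNPseudoCoherent f r) (hg : DerSch.IsNPseudoCoherent g s) :
    DerSch.IsNPseudoCoherent (f ≫ g) (max r s) := by
  refine ⟨inferInstance, Set.univ, ?_, fun W _ => ⟨{U | ∃ V : Y.affineOpens,
      (U : X.Opens) ≤ f ⁻¹ᵁ (V : Y.Opens) ∧ (V : Y.Opens) ≤ g ⁻¹ᵁ (W : Z.Opens)}, ?_, ?_⟩⟩
  · simpa using iSup_affineOpens_eq_top Z
  · refine le_antisymm (iSup₂_le fun U ⟨V, hUV, hVW⟩ => hUV.trans (f.preimage_mono hVW)) fun x hx => ?_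
    obtain ⟨U, V, hxU, hUV, hVW⟩ := exists_pair_le f (O := g ⁻¹ᵁ (W : Z.Opens)) hx
    exact Opens.mem_iSup.2 ⟨U, Opens.mem_iSup.2 ⟨⟨V, hUV, hVW⟩, hxU⟩⟩
  · rintro U ⟨V, hUV, hVW⟩ hle
    obtain ⟨k, φ, hφ⟩ := exists_chart U.2 V.2 hUV
    obtain ⟨n, ψ, hψ⟩ := exists_chart V.2 W.2 hVW
    obtain ⟨θ, e, hθ, rfl⟩ := exists_chart_comp hUV hVW hφ hψ
    refine ⟨_, _, hθ, (chartPC_iff U.2 _ _ hθ.1).2 ?_⟩
    have hs := MvPolynomial.map_surjective (σ := Fin k) ψ hψ.1
    refine (qpc_comp_iff (ψ := e.toRingHom) e.surjective (pcHom_of_ringEquiv e) (hφ.1.comp hs)).2 ?_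
    haveI := closedImm_sp hs
    haveI := closedImm_sp hφ.1
    haveI := closedImm_sp (φ := φ.comp (MvPolynomial.map ψ)) (hφ.1.comp hs)
    have hu : IsAboveD (0 + 1) (DCoh.toD X (DerSch.unitCx X)) := fun i hi =>
      (HomologicalComplex.isZero_single_obj_homology _ 0 _ i (by lia)).of_iso
        ((DerivedCategory.homologyFunctorFactors X.Modules i).app _)
    exact ⟨hφ.1.comp hs, pc_of_iso
      ((pdCongr (sp_comp _ φ)).app _ ≪≫ (pdComp (sp φ) (sp (MvPolynomial.map ψ))).app _).symm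
      (pc_push_n (hypOn_sp hs (pc_map_vars (pc_unit_ring V.2 (qpc_of_rel hg V.2 W.2 hVW hψ)) (Fin k)))
        (by lia) (isAboveD_map _ (isAboveD_map _ hu))
        (pc_mono (le_max_left r s) (qpc_of_rel hf U.2 V.2 hUV hφ).2))⟩

end Groth.Agent.KSixLib
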