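import Groth.Agent.RelPCS.Descend
import Groth.Agent.KSixLib.Rel

/-!
# Descent of relative pseudo-coherence along quasi-compact faithfully flat base change
-/

set_option backward.isDefEq.respectTransparency false
set_option backward.isDefEq.respectTransparency.types false
set_option linter.style.haveILetI false
set_option autoImplicit false

universe u

open CategoryTheory Limits AlgebraicGeometry Opposite TopologicalSpace Pretriangulated
open scoped TensorProduct

attribute [local instance] HasDerivedCategory.standard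

namespace Groth.Agent.KSixLib

open Groth.Agent.RelPCS Groth.Agent.DQCoh

variable {X S : Scheme.{u}} {f : X ⟶ S}

/-- finitely many affine opens covering an affine open of the base -/
lemma exists_qc_pieces {S' : Scheme.{u}} (h : S' ⟶ S) [Surjective h] [QuasiCompact h]
    {V : S.Opens} (hV : IsAffineOpen V) :
    ∃ (κ : Type u) (_ : Finite κ) (W : κ → S'.affineOpens),
      (∀ k, (W k : S'.Opens) ≤ h ⁻¹ᵁ V) ∧ ∀ s ∈ V, ∃ k, ∃ t ∈ (W k : S'.Opens), h.base t = s := by
  classical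
  have hc : IsCompact ((h ⁻¹ᵁ V : S'.Opens) : Set S') :=
    QuasiCompact.isCompact_preimage (f := h) _ V.isOpen hV.isCompact
  have key : ∀ t : ↥(h ⁻¹ᵁ V), ∃ W : S'.affineOpens, (t : S') ∈ (W : S'.Opens) ∧ (W : S'.Opens) ≤ h ⁻¹ᵁ V := by
    intro t
    obtain ⟨_, ⟨W, hW, rfl⟩, ht, hWV⟩ :=
      S'.isBasis_affineOpens.exists_subset_of_mem_open t.2 (h ⁻¹ᵁ V).isOpen
    exact ⟨⟨W, hW⟩, ht, hWV⟩
  choose W hmem hWV using key
  obtain ⟨T, hT⟩ := hc.elim_finite_subcover (fun t => ((W t : S'.Opens) : Set S'))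
    (fun t => (W t : S'.Opens).isOpen) (fun t ht => Set.mem_iUnion.2 ⟨⟨t, ht⟩, hmem ⟨t, ht⟩⟩)
  refine ⟨T, inferInstance, fun k => W k.1, fun k => hWV k.1, fun s hs => ?_⟩
  obtain ⟨t, rfl⟩ := h.surjective s
  obtain ⟨k, hk, htk⟩ := Set.mem_iUnion₂.1 (hT hs)
  exact ⟨⟨k, hk⟩, t, htk, rfl⟩

/-- descent along a quasi-compact faithfully flat base change -/
theorem rel_of_qc_cover [LocallyOfFiniteType f] {S' : Scheme.{u}} (h : S' ⟶ S)
    [Flat h] [Surjective h] [QuasiCompact h] {m : ℤ} {E : DCoh.D X} (hE : DCoh.IsQCohD E)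
    (hi : DerSch.IsPseudoCoherentRel (pullback.snd f h) m ((PB (pullback.fst f h)).obj E)) :
    DerSch.IsPseudoCoherentRel f m E := by
  refine rel_of_qpc fun U hU V hV hUV n φ hφ => ?_
  obtain ⟨κ, _, W, hWV, hWcov⟩ := exists_qc_pieces h hV
  haveI := closedImm_sp hφ.1
  refine ⟨hφ.1, ?_⟩
  let B : κ → Type u := fun k => Γ(S', (W k : (S').Opens))
  let r : ∀ k, Γ(S, V) →+* B k := fun k => (h.appLE V (W k : (S').Opens) (hWV k)).hom
  letI : ∀ k, Algebra Γ(S, V) (B k) := fun k => (r k).toAlgebra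
  haveI : ∀ k, Module.Flat Γ(S, V) (B k) := fun k => h.flat_appLE hV (W k).2 (hWV k)
  have hD : DRingKP.Detects (A := Γ(S, V)) B := detects_of_flat_surj B fun p => by
    obtain ⟨k, t, ht, hts⟩ := hWcov (hV.fromSpec.base p) (hV.range_fromSpec.le ⟨p, rfl⟩)
    obtain ⟨q, hq⟩ : t ∈ Set.range (W k).2.fromSpec.base := (W k).2.range_fromSpec.ge ht
    refine ⟨k, q, hV.fromSpec.isOpenEmbedding.injective ?_⟩
    have w := IsAffineOpen.SpecMap_appLE_fromSpec h hV (W k).2 (hWV k)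
    exact ((congrArg (fun g => g.base q) w).trans ((congrArg h.base hq).trans hts))
  letI := fun k => (MvPolynomial.algebraMvPolynomial : Algebra (MvPolynomial (Fin n) Γ(S, V)) (MvPolynomial (Fin n) (B k)))
  haveI : ∀ k, Flat (sp (algebraMap (MvPolynomial (Fin n) Γ(S, V)) (MvPolynomial (Fin n) (B k)))) := fun k =>
    Flat.SpecMap_iff.2 (flat_map_mvPolynomial (h.flat_appLE hV (W k).2 (hWV k)) n)
  haveI : ∀ k, Module.Flat (MvPolynomial (Fin n) Γ(S, V)) (MvPolynomial (Fin n) (B k)) := fun k =>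
    flat_map_mvPolynomial (h.flat_appLE hV (W k).2 (hWV k)) n
  refine pc_of_pb_family (fun k => MvPolynomial (Fin n) (B k)) (detects_mvPolynomial B hD n) _ (isQCohD_chart hE) fun k => ?_
  let p := pullback.fst f h
  let q := pullback.snd f h
  let H := IsPullback.of_hasPullback f h
  let U' := p ⁻¹ᵁ U ⊓ q ⁻¹ᵁ (W k : (S').Opens)
  haveI : IsAffine _ := hU
  haveI : IsAffine _ := hV
  haveI : IsAffine _ := (W k).2
  have hU' : IsAffineOpen U' :=
    .of_isIso (Scheme.Hom.isPullback_resLE H (hWV k) hUV (rfl : U' = p ⁻¹ᵁ U ⊓ q ⁻¹ᵁ (W k : (S').Opens))).isoPullback.hom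
  have sq : IsPushout (f.appLE V U hUV) (h.appLE V (W k : (S').Opens) (hWV k))
      (p.appLE U U' inf_le_left) (q.appLE (W k : (S').Opens) U' inf_le_right) := by
    have := isIso_pushoutSection_of_isAffineOpen H (hWV k) hUV (rfl : U' = _) hV (W k).2 hU
    exact (isIso_pushoutSection_iff H (hWV k) hUV (rfl : U' = _)).1 this
  obtain ⟨φ', hφ', hC', hsq, hker⟩ := exists_pushout_chart sq φ hφ.1 hφ.2
  haveI := closedImm_sp hφ'
  let δ := (p.appLE U U' inf_le_left).hom
  haveI : Flat (sp δ) := Flat.SpecMap_iff.2 (p.flat_appLE hU hU' inf_le_left)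
  have w : hU'.fromSpec ≫ p = sp δ ≫ hU.fromSpec := (IsAffineOpen.SpecMap_appLE_fromSpec p hU hU' inf_le_left).symm
  haveI := (hi).1
  have h1 := qpc_of_rel (hi) hU' (W k).2 inf_le_right (φ := φ') ⟨hφ', hC'⟩
  haveI : Flat (sp (MvPolynomial.map (σ := Fin n) (h.appLE V (W k : (S').Opens) (hWV k)).hom)) :=
    Flat.SpecMap_iff.2 (flat_map_mvPolynomial (h.flat_appLE hV (W k).2 (hWV k)) n)
  exact pc_of_iso ((pdBaseIso hφ.1 hφ' hker hsq).app _ ≪≫
    (PD (sp φ')).mapIso ((pbRdIso hU.fromSpec hU'.fromSpec (sp δ) w).app E).symm).symm h1.2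


end Groth.Agent.KSixLib
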