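import Groth.Agent.KSixLib.ExchComp
import Groth.Agent.KFlat.LTensorCx
import Groth.Agent.KFlat.TorFlat
import Groth.Agent.TorBC.Core

/-!
# The exchange property for derived tensor products on a scheme
-/

set_option backward.isDefEq.respectTransparency false
set_option backward.isDefEq.respectTransparency.types false
set_option linter.style.haveILetI false
set_option autoImplicit false

universe u

open CategoryTheory Limits AlgebraicGeometry HomologicalComplex MonoidalCategory

attribute [local instance] HasDerivedCategory.standard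

namespace Groth.Agent.KSixLib.Exch

open Groth.Agent.KFlat (schB resF resψ stCx)
open Groth.Agent.TorBC (TN sg)

variable {X : Scheme.{u}} (K : CochainComplex X.Modules ℤ)

/-- `M ↦ K ⊗ M` -/
noncomputable def tenS : X.Modules ⥤ CochainComplex X.Modules ℤ where
  obj M := (TN M).obj K
  map {M N} f :=
    { f := fun n => ((schB X).obj (K.X n)).map f
      comm' := fun i j _ => ((schB X).map (K.d i j)).naturality f }
  map_id M := by ext n : 1; exact ((schB X).obj (K.X n)).map_id M
  map_comp f g := by ext n : 1; exact ((schB X).obj (K.X n)).map_comp f g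

instance : (tenS K).Additive where
  map_add {M N f g} := by ext n : 1; exact ((schB X).obj (K.X n)).map_add

/-- `M ↦ Hᵍ(K ⊗ M)` -/
noncomputable def tenHS (q : ℤ) : X.Modules ⥤ X.Modules :=
  tenS K ⋙ HomologicalComplex.homologyFunctor _ _ q

instance (q : ℤ) : (tenHS K q).Additive := by unfold tenHS; infer_instance

/-- stalks of `K ⊗ M` -/
noncomputable def tenSStalk (x : X) :
    tenS K ⋙ stCx x ≅ DerSch.stalkFunctor X x ⋙ tenCx ((stCx x).obj K) :=
  NatIso.ofComponents
    (fun M => (HomologicalComplex.Hom.isoOfComponents (fun n => KFlat.stTensorIso (K.X n) M x)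
      fun i j _ => (KFlat.stTensorIso_natural_left (K.d i j) M x).symm).symm)
    fun {M N} f => by
      ext n : 1
      have h := KFlat.stTensorIso_natural (𝟙 (K.X n)) f x
      simp only [CategoryTheory.Functor.map_id, id_tensorHom, NatTrans.id_app, Category.id_comp] at h
      change (DerSch.stalkFunctor X x).map (((schB X).obj (K.X n)).map f) ≫ (KFlat.stTensorIso (K.X n) N x).inv =
        (KFlat.stTensorIso (K.X n) M x).inv ≫ (_ ◁ _)
      rw [Iso.eq_inv_comp, ← Category.assoc, Iso.comp_inv_eq]
      exact h.symm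

/-- stalks of `Hᵍ(K ⊗ M)` -/
noncomputable def tenHSStalk (x : X) (q : ℤ) :
    tenHS K q ⋙ DerSch.stalkFunctor X x ≅ DerSch.stalkFunctor X x ⋙ tenH ((stCx x).obj K) q :=
  (NatIso.ofComponents (fun M => ((((tenS K).obj M)).sc q).mapHomologyIso (DerSch.stalkFunctor X x))
    (fun {M N} f => ShortComplex.mapHomologyIso_hom_naturality
      ((shortComplexFunctor X.Modules (ComplexShape.up ℤ) q).map ((tenS K).map f)) (DerSch.stalkFunctor X x))).symm ≪≫
    Functor.isoWhiskerRight (tenSStalk K x) (HomologicalComplex.homologyFunctor _ _ q)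

/-- stalks detect monomorphisms -/
lemma mono_of_stalks {M N : X.Modules} (f : M ⟶ N)
    (h : ∀ x, Mono ((DerSch.stalkFunctor X x).map f)) : Mono f := by
  refine Preadditive.mono_of_isZero_kernel f (KFlat.isZero_of_stalks _ fun x => ?_)
  haveI := h x
  exact (isZero_kernel_of_mono ((DerSch.stalkFunctor X x).map f)).of_iso (PreservesKernel.iso _ f)

/-- stalks detect epimorphisms -/
lemma epi_of_stalks {M N : X.Modules} (f : M ⟶ N)
    (h : ∀ x, Epi ((DerSch.stalkFunctor X x).map f)) : Epi f := by
  refine Preadditive.epi_of_isZero_cokernel f (KFlat.isZero_of_stalks _ fun x => ?_)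
  haveI := h x
  exact (isZero_cokernel_of_epi ((DerSch.stalkFunctor X x).map f)).of_iso (PreservesCokernel.iso _ f)

variable {K}

lemma stalk_termwiseFlat (hK : ∀ n, FlatMod.IsFlat (K.X n)) (x : X) : DRing.TermwiseFlat ((stCx x).obj K) :=
  fun n => hK n x

lemma exact_tenHS (hK : ∀ n, FlatMod.IsFlat (K.X n)) (q : ℤ) (S : ShortComplex X.Modules) (hS : S.ShortExact) :
    (S.map (tenHS K q)).Exact := by
  rw [ShortComplex.exact_iff_isZero_homology]
  refine KFlat.isZero_of_stalks _ fun x => ?_
  let st := DerSch.stalkFunctor X x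
  let T := tenH ((stCx x).obj K) q
  let α := tenHSStalk K x q
  have h1 : ((S.map st).map T).Exact := exact_tenH (stalk_termwiseFlat hK x) q _ (hS.map_of_exact st)
  let e : ((S.map (tenHS K q)).map st) ≅ (S.map st).map T :=
    ShortComplex.isoMk (α.app S.X₁) (α.app S.X₂) (α.app S.X₃) (α.hom.naturality S.f).symm
      (α.hom.naturality S.g).symm
  exact (((ShortComplex.exact_iff_isZero_homology _).1 h1).of_iso (ShortComplex.homologyMapIso e)).of_iso
    ((S.map (tenHS K q)).mapHomologyIso st).symm

theorem mono_tenHS_iff (hK : ∀ n, FlatMod.IsFlat (K.X n)) (q : ℤ) :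
    (∀ {M N : X.Modules} (f : M ⟶ N), Mono f → Mono ((tenHS K q).map f)) ↔
      ∀ x : X, Module.Flat (X.presheaf.stalk x) (cok ((stCx x).obj K) q) := by
  constructor
  · intro h x
    refine (mono_tenH_iff (stalk_termwiseFlat hK x) q).1 fun {M N} f hf => ?_
    have h1 : Mono ((tenHS K q).map ((KFlat.sky x).map f)) := h _ inferInstance
    refine ((MorphismProperty.monomorphisms _).arrow_mk_iso_iff
      (Arrow.isoMk ((tenHSStalk K x q).app ((KFlat.sky x).obj M) ≪≫ (tenH _ q).mapIso (KFlat.skyStalkIso x M))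
        ((tenHSStalk K x q).app ((KFlat.sky x).obj N) ≪≫ (tenH _ q).mapIso (KFlat.skyStalkIso x N)) ?_)).1
      ((DerSch.stalkFunctor X x).map_mono ((tenHS K q).map ((KFlat.sky x).map f)))
    have hn := (tenHSStalk K x q).hom.naturality ((KFlat.sky x).map f)
    simp only [Functor.comp_map] at hn
    exact (Category.assoc _ _ _).trans ((congrArg (_ ≫ ·) (((Functor.map_comp _ _ _).symm.trans
      (congrArg (tenH ((stCx x).obj K) q).map (KFlat.skyStalkIso_natural x f).symm)).trans
        (Functor.map_comp _ _ _))).trans ((Category.assoc _ _ _).symm.trans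
          ((congrArg (· ≫ _) hn.symm).trans (Category.assoc _ _ _))))
  · intro h M N f hf
    refine mono_of_stalks _ fun x => ?_
    exact ((MorphismProperty.monomorphisms _).arrow_mk_iso_iff
      (Arrow.isoMk ((tenHSStalk K x q).app M) ((tenHSStalk K x q).app N)
        ((tenHSStalk K x q).hom.naturality f).symm)).2
      ((mono_tenH_iff (stalk_termwiseFlat hK x) q).2 (h x) _ ((DerSch.stalkFunctor X x).map_mono f))

theorem epi_tenHS_iff (hK : ∀ n, FlatMod.IsFlat (K.X n)) (q : ℤ) :
    (∀ {M N : X.Modules} (f : M ⟶ N), Epi f → Epi ((tenHS K q).map f)) ↔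
      ∀ x : X, Module.Flat (X.presheaf.stalk x) (cok ((stCx x).obj K) (q + 1)) := by
  constructor
  · intro h x
    refine (epi_tenH_iff (stalk_termwiseFlat hK x) q).1 fun {M N} f hf => ?_
    have h1 : Epi ((tenHS K q).map ((KFlat.sky x).map f)) := h _ (KFlat.sky_map_epi x f)
    refine ((MorphismProperty.epimorphisms _).arrow_mk_iso_iff
      (Arrow.isoMk ((tenHSStalk K x q).app ((KFlat.sky x).obj M) ≪≫ (tenH _ q).mapIso (KFlat.skyStalkIso x M))
        ((tenHSStalk K x q).app ((KFlat.sky x).obj N) ≪≫ (tenH _ q).mapIso (KFlat.skyStalkIso x N)) ?_)).1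
      ((DerSch.stalkFunctor X x).map_epi ((tenHS K q).map ((KFlat.sky x).map f)))
    have hn := (tenHSStalk K x q).hom.naturality ((KFlat.sky x).map f)
    simp only [Functor.comp_map] at hn
    exact (Category.assoc _ _ _).trans ((congrArg (_ ≫ ·) (((Functor.map_comp _ _ _).symm.trans
      (congrArg (tenH ((stCx x).obj K) q).map (KFlat.skyStalkIso_natural x f).symm)).trans
        (Functor.map_comp _ _ _))).trans ((Category.assoc _ _ _).symm.trans
          ((congrArg (· ≫ _) hn.symm).trans (Category.assoc _ _ _))))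
  · intro h M N f hf
    refine epi_of_stalks _ fun x => ?_
    exact ((MorphismProperty.epimorphisms _).arrow_mk_iso_iff
      (Arrow.isoMk ((tenHSStalk K x q).app M) ((tenHSStalk K x q).app N)
        ((tenHSStalk K x q).hom.naturality f).symm)).2
      ((epi_tenH_iff (stalk_termwiseFlat hK x) q).2 (h x) _ ((DerSch.stalkFunctor X x).map_epi f))

theorem preservesFiniteLimits_tenHS_iff (hK : ∀ n, FlatMod.IsFlat (K.X n)) (q : ℤ) :
    PreservesFiniteLimits (tenHS K q) ↔ ∀ x : X, Module.Flat (X.presheaf.stalk x) (cok ((stCx x).obj K) q) := by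
  rw [← mono_tenHS_iff hK q]
  constructor
  · intro _ M N f hf
    exact (tenHS K q).map_mono f
  · intro h
    exact ((tenHS K q).preservesFiniteLimits_tfae.out 0 3 rfl rfl).1 fun S hS =>
      ⟨exact_tenHS hK q S hS, h S.f hS.mono_f⟩

theorem preservesFiniteColimits_tenHS_iff (hK : ∀ n, FlatMod.IsFlat (K.X n)) (q : ℤ) :
    PreservesFiniteColimits (tenHS K q) ↔
      ∀ x : X, Module.Flat (X.presheaf.stalk x) (cok ((stCx x).obj K) (q + 1)) := by
  rw [← epi_tenHS_iff hK q]
  constructor
  · intro _ M N f hf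
    exact (tenHS K q).map_epi f
  · intro h
    exact ((tenHS K q).preservesFiniteColimits_tfae.out 0 3 rfl rfl).1 fun S hS =>
      ⟨exact_tenHS hK q S hS, h S.g hS.epi_g⟩

variable (K) in
/-- `K ⊗ M` as a tensor product with `M[0]` -/
noncomputable def tenSIso :
    tenS K ≅ HomologicalComplex.single X.Modules (ComplexShape.up ℤ) 0 ⋙ DCoh.tensorCx.flip.obj K :=
  NatIso.ofComponents (fun M => TorBC.sL K M) fun {M N} f => by
    ext n : 1
    rw [HomologicalComplex.comp_f, HomologicalComplex.comp_f, TorBC.sL_f, TorBC.sL_f]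
    change ((schB X).obj (K.X n)).map f ≫ _ =
      (_ ≫ _ ≫ ιMapBifunctor (sg M) K (schB X) (ComplexShape.up ℤ) 0 n n (zero_add n)) ≫
        (HomologicalComplex.mapBifunctorMap ((HomologicalComplex.single X.Modules (ComplexShape.up ℤ) 0).map f)
          (𝟙 K) (schB X) (ComplexShape.up ℤ)).f n
    have hb : ((schB X).obj (K.X n)).map f ≫ TorBC.brM (K.X n) N =
        TorBC.brM (K.X n) M ≫ ((schB X).map f).app (K.X n) :=
      ((KFlat.braid X.sheaf).hom.app (K.X n)).naturality f
    simp only [Category.assoc, ι_mapBifunctorMap]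
    rw [reassoc_of% hb]
    refine congrArg (_ ≫ ·) ?_
    simp only [HomologicalComplex.id_f, CategoryTheory.Functor.map_id, Category.id_comp]
    rw [← NatTrans.comp_app_assoc, ← NatTrans.comp_app_assoc, ← Functor.map_comp, ← Functor.map_comp,
      single_map_f_self]
    simp [singleObjXSelf]

section LT

variable (F : CochainComplex X.Modules ℤ) [DCoh.HasLTensorCx F]

variable (X) in
/-- modules in degree zero, resolved -/
noncomputable abbrev res0 : X.Modules ⥤ CochainComplex X.Modules ℤ :=
  HomologicalComplex.single X.Modules (ComplexShape.up ℤ) 0 ⋙ resF X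

/-- the four comparisons between `M[0] ⊗^L F` and `M[0] ⊗ resF F` -/
noncomputable def cmp₁ : res0 X ⋙ DerivedCategory.Q ⋙ DCoh.LTensorCx F ≅
    HomologicalComplex.single X.Modules (ComplexShape.up ℤ) 0 ⋙ DerivedCategory.Q ⋙ DCoh.LTensorCx F :=
  NatIso.ofComponents (fun M => (DCoh.LTensorCx F).mapIso (@asIso _ _ _ _
      (DerivedCategory.Q.map ((resψ X).app ((HomologicalComplex.single X.Modules (ComplexShape.up ℤ) 0).obj M)))
      inferInstance))
    fun {M N} f => (((DCoh.LTensorCx F).map_comp _ _).symm.trans ((congrArg (DCoh.LTensorCx F).map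
      (((DerivedCategory.Q.map_comp _ _).symm.trans (congrArg DerivedCategory.Q.map
        ((resψ X).naturality ((HomologicalComplex.single X.Modules (ComplexShape.up ℤ) 0).map f)))).trans
          (DerivedCategory.Q.map_comp _ _))).trans ((DCoh.LTensorCx F).map_comp _ _)))

@[inherit_doc cmp₁]
noncomputable def cmp₂ : res0 X ⋙ DerivedCategory.Q ⋙ DCoh.LTensorCx F ≅ res0 X ⋙ DCoh.tensorCxQ F :=
  NatIso.ofComponents (fun M => @asIso _ _ _ _ ((KFlat.ltCounit F).app ((res0 X).obj M))
      (KFlat.isIso_ltCounit_app F (KFlat.isKFlat_resF _)))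
    fun {M N} f => (KFlat.ltCounit F).naturality ((res0 X).map f)

omit [DCoh.HasLTensorCx F] in
@[inherit_doc cmp₁]
noncomputable def cmp₃ : res0 X ⋙ DCoh.tensorCx.flip.obj ((resF X).obj F) ⋙ DerivedCategory.Q ≅
    res0 X ⋙ DCoh.tensorCxQ F :=
  NatIso.ofComponents (fun M => @asIso _ _ _ _
      (DerivedCategory.Q.map ((DCoh.tensorCx.obj ((res0 X).obj M)).map ((resψ X).app F)))
      ((DerivedCategory.isIso_Q_map_iff_quasiIso _ _).2
        (TorBC.quasiIso_tens_of_kFlat (KFlat.isKFlat_resF _) ((resψ X).app F))))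
    fun {M N} f => ((DerivedCategory.Q.map_comp _ _).symm.trans (congrArg DerivedCategory.Q.map
      ((DCoh.tensorCx.flip.map ((resψ X).app F)).naturality ((res0 X).map f)))).trans
        (DerivedCategory.Q.map_comp _ _)

omit [DCoh.HasLTensorCx F] in
@[inherit_doc cmp₁]
noncomputable def cmp₄ : res0 X ⋙ DCoh.tensorCx.flip.obj ((resF X).obj F) ⋙ DerivedCategory.Q ≅
    HomologicalComplex.single X.Modules (ComplexShape.up ℤ) 0 ⋙ DCoh.tensorCx.flip.obj ((resF X).obj F) ⋙
      DerivedCategory.Q :=
  NatIso.ofComponents (fun M => @asIso _ _ _ _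
      (DerivedCategory.Q.map ((DCoh.tensorCx.flip.obj ((resF X).obj F)).map
        ((resψ X).app ((HomologicalComplex.single X.Modules (ComplexShape.up ℤ) 0).obj M))))
      ((DerivedCategory.isIso_Q_map_iff_quasiIso _ _).2
        (KFlat.quasiIso_map_app_sch _ (KFlat.isKFlat_resF F) ((resψ X).app _))))
    fun {M N} f => (((DerivedCategory.Q.map_comp _ _).symm.trans (congrArg DerivedCategory.Q.map
      (((DCoh.tensorCx.flip.obj ((resF X).obj F)).map_comp _ _).symm.trans ((congrArg
        (DCoh.tensorCx.flip.obj ((resF X).obj F)).map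
          ((resψ X).naturality ((HomologicalComplex.single X.Modules (ComplexShape.up ℤ) 0).map f))).trans
            ((DCoh.tensorCx.flip.obj ((resF X).obj F)).map_comp _ _))))).trans (DerivedCategory.Q.map_comp _ _))

/-- **`Hᵍ(M ⊗^L F)` computed by a K-flat resolution of `F`** -/
noncomputable def ltTenHSIso (q : ℤ) :
    DerivedCategory.singleFunctor X.Modules 0 ⋙ DCoh.LTensorCx F ⋙ DerivedCategory.homologyFunctor X.Modules q ≅
      tenHS ((resF X).obj F) q :=
  Functor.isoWhiskerRight (DerivedCategory.singleFunctorIsoCompQ X.Modules 0)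
      (DCoh.LTensorCx F ⋙ DerivedCategory.homologyFunctor X.Modules q) ≪≫
    Functor.isoWhiskerRight ((cmp₁ F).symm ≪≫ cmp₂ F ≪≫ (cmp₃ F).symm ≪≫ cmp₄ F ≪≫
      Functor.isoWhiskerRight (tenSIso ((resF X).obj F)).symm DerivedCategory.Q)
      (DerivedCategory.homologyFunctor X.Modules q) ≪≫
    Functor.isoWhiskerLeft (tenS ((resF X).obj F)) (DerivedCategory.homologyFunctorFactors X.Modules q)

end LT

end Groth.Agent.KSixLib.Exch
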