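import Groth.Agent.KSixLib.ExchRing
import Groth.Agent.DRingKP.Nilp
import Groth.Agent.DerPerf.PseudoCoh

/-!
# The exchange property only depends on the complex above a given degree
-/

set_option backward.isDefEq.respectTransparency false
set_option backward.isDefEq.respectTransparency.types false
set_option linter.style.haveILetI false
set_option autoImplicit false

universe u

open CategoryTheory Limits HomologicalComplex MonoidalCategory

attribute [local instance] HasDerivedCategory.standard

namespace Groth.Agent.KSixLib.Exch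

open Groth.Agent.DRingKP (tR)

variable {A : Type u} [CommRing A]

/-- tensoring a K-flat complex without cohomology in degrees `≥ m` creates none -/
lemma isZero_tR_of_kFlat {C : DRing.Cx A} (hC : DRingKP.IsKFlat C) (m : ℤ)
    (h : ∀ i, m ≤ i → IsZero (C.homology i)) (M : ModuleCat.{u} A) (i : ℤ) (hi : m ≤ i) :
    IsZero (((tR M).obj C).homology i) := by
  have hK : DRingKP.IsAbove ((m - 1) + 1) (DRing.toD C) := fun j hj =>
    (h j (by lia)).of_iso ((DerivedCategory.homologyFunctorFactors (ModuleCat.{u} A) j).app C)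
  obtain ⟨P, hPb, hP, ⟨e⟩⟩ := DRingKP.exists_proj_rep_top _ (m - 1) hK
  haveI := DRingKP.isKProjective_of_vanishesAbove hPb hP
  obtain ⟨f, hf⟩ := PerfLocal.exists_lift e.hom
  haveI : IsIso (DerivedCategory.Q.map f) := by rw [hf]; infer_instance
  haveI : QuasiIso f := (DerivedCategory.isIso_Q_map_iff_quasiIso _ f).1 inferInstance
  let M0 := (HomologicalComplex.single (ModuleCat.{u} A) (ComplexShape.up ℤ) 0).obj M
  have hq := DRingKP.quasiIso_whiskerLeft f
    (DRingKP.isKFlat_of_bounded hPb (DRingKP.flat_of_projective hP)) hC M0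
  let H := HomologicalComplex.homologyFunctor (ModuleCat.{u} A) (ComplexShape.up ℤ) i
  have hz : IsZero (((tR M).obj P).homology i) :=
    ShortComplex.isZero_homology_of_isZero_X₂ _ ((tensorRight M).map_isZero (hPb i (by lia)))
  have s : ∀ D : DRing.Cx A, (M0 ⊗ D).homology i ≅ ((tR M).obj D).homology i := fun D =>
    H.mapIso (KFlat.swapIso (DRingKP.tBraid A) M0 D ≪≫ DRingKP.tensSingleIso D M)
  exact hz.of_iso ((s C).symm ≪≫
    (@isoOfQuasiIsoAt _ _ _ _ _ _ _ (M0 ◁ f) i _ _ ((quasiIso_iff _).1 hq i)).symm ≪≫ s P)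

variable {K K' : DRing.Cx A} (φ : K ⟶ K')

lemma isIso_homologyMap_tR (hK : DRingKP.IsKFlat K) (hK' : DRingKP.IsKFlat K') (m : ℤ)
    (h : ∀ i, m ≤ i → IsZero ((CochainComplex.mappingCone φ).homology i)) (M : ModuleCat.{u} A) (q : ℤ)
    (hq : m < q) : IsIso (homologyMap ((tR M).map φ) q) :=
  ((DerPerf.cone_isZero_iff ((tR M).map φ) m).1 (fun i hi =>
    (isZero_tR_of_kFlat ((DRingKP.rflat_iff _).1 (KFlat.rflat_mappingCone φ ((DRingKP.rflat_iff _).2 hK)
        ((DRingKP.rflat_iff _).2 hK'))) m h M i hi).of_iso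
      ((HomologicalComplex.homologyFunctor _ _ i).mapIso
        (CochainComplex.mappingCone.mapHomologicalComplexIso φ (tensorRight M))).symm)).1 q hq

/-- complexes agreeing in degrees `> m` have the same flat cokernels there -/
theorem flat_cok_iff (hK : DRingKP.IsKFlat K) (hKf : DRing.TermwiseFlat K) (hK' : DRingKP.IsKFlat K')
    (hK'f : DRing.TermwiseFlat K') (m : ℤ)
    (h : ∀ i, m ≤ i → IsZero ((CochainComplex.mappingCone φ).homology i)) (q : ℤ) (hq : m < q) :
    Module.Flat A (cok K q) ↔ Module.Flat A (cok K' q) := by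
  rw [← mono_tenH_iff hKf q, ← mono_tenH_iff hK'f q]
  refine forall₄_congr fun M N f _ => ?_
  haveI := isIso_homologyMap_tR φ hK hK' m h M q hq
  haveI := isIso_homologyMap_tR φ hK hK' m h N q hq
  have hsq : (tR M).map φ ≫ (tenCx K').map f = (tenCx K).map f ≫ (tR N).map φ := by
    ext n : 1
    exact (whisker_exchange (φ.f n) f).symm
  exact (MorphismProperty.monomorphisms _).arrow_mk_iso_iff
    (Arrow.isoMk (asIso (homologyMap ((tR M).map φ) q)) (asIso (homologyMap ((tR N).map φ) q)) (by
      change homologyMap _ q ≫ homologyMap _ q = homologyMap _ q ≫ homologyMap _ q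
      rw [← homologyMap_comp, ← homologyMap_comp, hsq]))

end Groth.Agent.KSixLib.Exch
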