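import Groth.Agent.KSixLib.ExchRing
import Groth.Agent.DRingKP.LTensorCx
import Groth.Agent.RHomCx.AssocNat

/-!
# `Hᵍ(M ⊗^L E)` over a ring
-/

set_option backward.isDefEq.respectTransparency false
set_option backward.isDefEq.respectTransparency.types false
set_option linter.style.haveILetI false
set_option autoImplicit false

universe u

open CategoryTheory Limits HomologicalComplex MonoidalCategory

attribute [local instance] HasDerivedCategory.standard

namespace Groth.Agent.KSixLib.Exch

open Groth.Agent.DRingKP (tB tBraid)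

variable {A : Type u} [CommRing A]

/-- `K ⊗ M` as a tensor product with `M[0]` on the left -/
noncomputable def tenCxIso (K : DRing.Cx A) :
    tenCx K ≅ HomologicalComplex.single (ModuleCat.{u} A) (ComplexShape.up ℤ) 0 ⋙ (KFlat.tens (tB A)).flip.obj K :=
  NatIso.ofComponents
    (fun M => (DRingKP.tensSingleIso K M).symm ≪≫ KFlat.swapIso (tBraid A) K _) fun {M N} f => by
    have h : (tenCx K).map f ≫ (DRingKP.tensSingleIso K N).inv = (DRingKP.tensSingleIso K M).inv ≫
        mapBifunctorMap (𝟙 K) ((HomologicalComplex.single (ModuleCat.{u} A) (ComplexShape.up ℤ) 0).map f) (tB A)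
          (ComplexShape.up ℤ) := by
      ext n : 1
      change K.X n ◁ f ≫ (K.X n ◁ (singleObjXSelf (ComplexShape.up ℤ) 0 N).inv ≫
          ιMapBifunctor K _ (tB A) (ComplexShape.up ℤ) n 0 n (add_zero n)) =
        (K.X n ◁ (singleObjXSelf (ComplexShape.up ℤ) 0 M).inv ≫
          ιMapBifunctor K _ (tB A) (ComplexShape.up ℤ) n 0 n (add_zero n)) ≫
        (mapBifunctorMap (𝟙 K) ((HomologicalComplex.single (ModuleCat.{u} A) (ComplexShape.up ℤ) 0).map f) (tB A)
          (ComplexShape.up ℤ)).f n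
      simp only [Category.assoc, ι_mapBifunctorMap, HomologicalComplex.id_f, CategoryTheory.Functor.map_id,
        NatTrans.id_app, Category.id_comp]
      change _ = _ ≫ (K.X n ◁ _) ≫ _
      rw [← MonoidalCategory.whiskerLeft_comp_assoc, ← MonoidalCategory.whiskerLeft_comp_assoc, single_map_f_self]
      simp
    simp only [Iso.trans_hom, Iso.symm_hom, Category.assoc]
    rw [reassoc_of% h]
    exact congrArg (_ ≫ ·) (RHomCx.swapIso_natural (tBraid A) (𝟙 K) _)

variable (E : DRing.Cx A) {K : DRing.Cx A} (g : K ⟶ E)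

lemma quasiIso_left {P : DRing.Cx A} (hP : DRingKP.IsKFlat P) {F G : DRing.Cx A} (a : F ⟶ G) [QuasiIso a] :
    QuasiIso (((KFlat.tens (tB A)).obj P).map a) := by
  haveI h : QuasiIso (((KFlat.tens (tB A)).map a).app P) := DRingKP.quasiIso_whiskerRight hP a
  have e : ((KFlat.tens (tB A)).obj P).map a = (KFlat.swapIso (tBraid A) P F).hom ≫
      ((KFlat.tens (tB A)).map a).app P ≫ (KFlat.swapIso (tBraid A) P G).inv := by
    rw [← Category.assoc, Iso.eq_comp_inv]
    exact RHomCx.swapIso_natural (tBraid A) (𝟙 P) a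
  rw [e]
  infer_instance

/-- resolved modules in degree zero -/
noncomputable abbrev res0R : ModuleCat.{u} A ⥤ DRing.Cx A :=
  HomologicalComplex.single (ModuleCat.{u} A) (ComplexShape.up ℤ) 0 ⋙ (DRingKP.leftResTensorCx E).ρ

variable [DRing.HasLTensorCx A E]

/-- **`Hᵍ(M ⊗^L E)` computed by a K-flat representative of `E`** -/
noncomputable def ltTenHIso (hK : DRingKP.IsKFlat K) [QuasiIso g] (q : ℤ) :
    DerivedCategory.singleFunctor (ModuleCat.{u} A) 0 ⋙ DRing.LTensorCx A E ⋙
      DerivedCategory.homologyFunctor (ModuleCat.{u} A) q ≅ tenH K q :=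
  let s := HomologicalComplex.single (ModuleCat.{u} A) (ComplexShape.up ℤ) 0
  let r := DRingKP.leftResTensorCx E
  let T := (KFlat.tens (tB A)).flip.obj K
  have hq : ∀ G, QuasiIso (r.ψ.app G) := fun G => r.weq G
  have h₁ : ∀ M, IsIso (DerivedCategory.Q.map (r.ψ.app (s.obj M))) := fun M =>
    (DerivedCategory.isIso_Q_map_iff_quasiIso _ _).2 (hq _)
  have h₃ : ∀ M, IsIso (DerivedCategory.Q.map (((KFlat.tens (tB A)).obj ((res0R E).obj M)).map g)) := fun M =>
    (DerivedCategory.isIso_Q_map_iff_quasiIso _ _).2 (quasiIso_left (r.mem _) g)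
  have h₄ : ∀ M, IsIso (DerivedCategory.Q.map (T.map (r.ψ.app (s.obj M)))) := fun M =>
    (DerivedCategory.isIso_Q_map_iff_quasiIso _ _).2
      (haveI := hq (s.obj M); DRingKP.quasiIso_whiskerRight hK (r.ψ.app (s.obj M)))
  let c₁ : res0R E ⋙ DerivedCategory.Q ⋙ DRing.LTensorCx A E ≅ s ⋙ DerivedCategory.Q ⋙ DRing.LTensorCx A E :=
    NatIso.ofComponents (fun M => (DRing.LTensorCx A E).mapIso (@asIso _ _ _ _ _ (h₁ M)))
      fun {M N} f => ((DRing.LTensorCx A E).map_comp _ _).symm.trans ((congrArg (DRing.LTensorCx A E).map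
        (((DerivedCategory.Q.map_comp _ _).symm.trans (congrArg DerivedCategory.Q.map
          (r.ψ.naturality (s.map f)))).trans (DerivedCategory.Q.map_comp _ _))).trans
            ((DRing.LTensorCx A E).map_comp _ _))
  let ε := (DRing.tensorCxQ A E).totalLeftDerivedCounit DerivedCategory.Q
    (HomologicalComplex.quasiIso (ModuleCat.{u} A) (ComplexShape.up ℤ))
  let c₂ : res0R E ⋙ DerivedCategory.Q ⋙ DRing.LTensorCx A E ≅ res0R E ⋙ DRing.tensorCxQ A E :=
    NatIso.ofComponents (fun M => @asIso _ _ _ _ (ε.app ((res0R E).obj M))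
        (r.isIso_app (DRing.LTensorCx A E) ε (r.mem _)))
      fun {M N} f => ε.naturality ((res0R E).map f)
  let c₃ : res0R E ⋙ T ⋙ DerivedCategory.Q ≅ res0R E ⋙ DRing.tensorCxQ A E :=
    NatIso.ofComponents (fun M => @asIso _ _ _ _ _ (h₃ M))
      fun {M N} f => ((DerivedCategory.Q.map_comp _ _).symm.trans (congrArg DerivedCategory.Q.map
        (((KFlat.tens (tB A)).flip.map g).naturality ((res0R E).map f)))).trans (DerivedCategory.Q.map_comp _ _)
  let c₄ : res0R E ⋙ T ⋙ DerivedCategory.Q ≅ s ⋙ T ⋙ DerivedCategory.Q :=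
    NatIso.ofComponents (fun M => @asIso _ _ _ _ _ (h₄ M))
      fun {M N} f => ((DerivedCategory.Q.map_comp _ _).symm.trans (congrArg DerivedCategory.Q.map
        ((T.map_comp _ _).symm.trans ((congrArg T.map (r.ψ.naturality (s.map f))).trans (T.map_comp _ _))))).trans
          (DerivedCategory.Q.map_comp _ _)
  Functor.isoWhiskerRight (DerivedCategory.singleFunctorIsoCompQ (ModuleCat.{u} A) 0)
      (DRing.LTensorCx A E ⋙ DerivedCategory.homologyFunctor (ModuleCat.{u} A) q) ≪≫
    Functor.isoWhiskerRight (c₁.symm ≪≫ c₂ ≪≫ c₃.symm ≪≫ c₄ ≪≫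
      Functor.isoWhiskerRight (tenCxIso K).symm DerivedCategory.Q)
      (DerivedCategory.homologyFunctor (ModuleCat.{u} A) q) ≪≫
    Functor.isoWhiskerLeft (tenCx K) (DerivedCategory.homologyFunctorFactors (ModuleCat.{u} A) q)

end Groth.Agent.KSixLib.Exch
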