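import Groth.Agent.KSixLib.ExchStalk
import Groth.Agent.Betti.Main
import Groth.Agent.LocFree.Rank
import Groth.Agent.DCohLocus.FreeLocus

/-!
# Exchange property, local models and Betti numbers
-/

set_option backward.isDefEq.respectTransparency false
set_option backward.isDefEq.respectTransparency.types false
set_option linter.style.haveILetI false
set_option autoImplicit false

universe u

open CategoryTheory Limits AlgebraicGeometry Opposite TopologicalSpace HomologicalComplex

attribute [local instance] HasDerivedCategory.standard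

namespace Groth.Agent.KSixLib.Exch

open Groth.Agent.Betti
open Groth.Agent.KFlat (resF resψ stCx)

variable {X : Scheme.{u}}

/-- a local model of `F` in degrees `≥ p` -/
structure Model [∀ x : X, DCoh.HasLpull (X.fromSpecResidueField x)] (F : CochainComplex X.Modules ℤ) (p : ℤ)
    (W : X.Opens) (P : CochainComplex (W : Scheme.{u}).Modules ℤ) : Prop where
  model : IsModel (DCoh.toD X F) {p} W P
  free : ∀ i, p - 1 ≤ i → i ≤ p + 1 → ∃ n, Nonempty (Split (P.X i) n)
  locFree : ∀ i, FlatMod.IsFinLocFree (P.X i)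
  flatC : ∀ (q : ℤ), p ≤ q → ∀ w : (W : Scheme.{u}), FlatC ((resF X).obj F) q w.1 ↔ FlatC P q w
  homology : Nonempty ((Scheme.Modules.restrictFunctor W.ι).obj (DCoh.HD (DCoh.toD X F) p) ≅ P.homology p)

theorem exists_exch_model [∀ x : X, DCoh.HasLpull (X.fromSpecResidueField x)] (F : CochainComplex X.Modules ℤ)
    (p : ℤ) (hE : DCoh.IsPseudoCoherentD (p - 1) (DCoh.toD X F)) (x₀ : X) :
    ∃ (W : X.Opens) (P : CochainComplex (W : Scheme.{u}).Modules ℤ), x₀ ∈ W ∧ Model F p W P := by
  let K := (resF X).obj F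
  have hK : DCoh.IsKFlat K := KFlat.isKFlat_resF F
  let e : DCoh.toD X K ≅ DCoh.toD X F := @asIso _ _ _ _ (DerivedCategory.Q.map ((resψ X).app F)) inferInstance
  obtain ⟨U, hU, P, α, hP, hα⟩ := (DerPerf.isPseudoCoherent_iff_rep e).1 hE x₀
  let s : Finset ℤ := {p - 1, p, p + 1}
  obtain ⟨W₀, hW₀, hfree⟩ := DerPerf.exists_common_free s (fun i => P.X i) (fun i _ => hP.2 i) ⟨x₀, hU⟩
  let W : X.Opens := U.ι ''ᵁ W₀
  have hWU : W ≤ U := U.ι_image_le W₀
  let j : (W : Scheme.{u}) ⟶ U := X.homOfLE hWU
  have hjι : ∀ w : (W : Scheme.{u}), U.ι.base (j.base w) = w.1 := fun w => by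
    rw [← Scheme.Hom.comp_apply, X.homOfLE_ι hWU]
    rfl
  let A := fun {V₁ V₂ : Scheme.{u}} (f : V₁ ⟶ V₂) =>
    (Scheme.Modules.pullback f).mapHomologicalComplex (ComplexShape.up ℤ)
  refine ⟨W, (A j).obj P, ⟨⟨x₀, hU⟩, hW₀, rfl⟩, ⟨fun x hx => ?_, fun i h₁ h₂ => ?_,
    fun i => DerPerf.isFinLocFree_pullback j (hP.2 i), fun q hq w => ?_, ?_⟩⟩
  · let R := X.residueField x
    have := subsingleton_SpecField x
    let pt : Spec R := default
    let g' : Spec R ⟶ (W : Scheme.{u}) := IsOpenImmersion.lift W.ι (X.fromSpecResidueField x) (by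
      rw [Scheme.range_fromSpecResidueField, Scheme.Opens.range_ι]
      exact Set.singleton_subset_iff.2 hx)
    have hg' : g' ≫ W.ι = X.fromSpecResidueField x := IsOpenImmersion.lift_fac _ _ _
    have hgx : g'.base pt = ⟨x, hx⟩ := Subtype.ext (by
      change W.ι.base (g'.base pt) = x
      rw [← Scheme.Hom.comp_apply, hg']
      exact X.fromSpecResidueField_apply x pt)
    have : IsPreimmersion g' := by
      have : IsPreimmersion (g' ≫ W.ι) := by rw [hg']; infer_instance
      exact IsPreimmersion.of_comp g' W.ι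
    refine ⟨Spec R, g', pt, isField_stalk_SpecField R (Field.toIsField _) pt,
      g'.stalkMap_surjective pt, hgx, fun i hi => ?_⟩
    rw [Set.mem_singleton_iff] at hi
    subst hi
    let g : Spec R ⟶ (U : Scheme.{u}) := g' ≫ j
    have hg : g ≫ U.ι = X.fromSpecResidueField x := by
      rw [Category.assoc, X.homOfLE_ι hWU, hg']
    obtain ⟨e₂⟩ := nonempty_homology_iso g (i - 1) (DerPerf.isKFlat_of_isStrictlyPerfect hP)
      (DerPerf.isKFlat_restrictCx U hK) α hα i (by lia)
    let N₁ : Scheme.Modules.pullback (X.fromSpecResidueField x) ≅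
        Scheme.Modules.restrictFunctor U.ι ⋙ Scheme.Modules.pullback g :=
      (Scheme.Modules.pullbackCongr hg).symm ≪≫ (Scheme.Modules.pullbackComp g U.ι).symm ≪≫
        Functor.isoWhiskerRight (Scheme.Modules.restrictFunctorIsoPullback U.ι).symm _
    let e₁ : (A (X.fromSpecResidueField x)).obj K ≅ (A g).obj ((DCoh.restrictCx U).obj K) :=
      HomologicalComplex.Hom.isoOfComponents (fun k => N₁.app (K.X k))
        fun a b _ => (N₁.hom.naturality (K.d a b)).symm
    let N₃ : Scheme.Modules.pullback j ⋙ Scheme.Modules.pullback g' ≅ Scheme.Modules.pullback g :=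
      Scheme.Modules.pullbackComp g' j
    let e₃ : (A g').obj ((A j).obj P) ≅ (A g).obj P :=
      HomologicalComplex.Hom.isoOfComponents (fun k => N₃.app (P.X k))
        fun a b _ => (N₃.hom.naturality (P.d a b)).symm
    let e₀ : DCoh.HD ((DCoh.Lpull (X.fromSpecResidueField x)).obj (DCoh.toD X F)) i ≅
        ((A g').obj ((A j).obj P)).homology i :=
      (DerivedCategory.homologyFunctor _ i).mapIso
          ((DCoh.Lpull (X.fromSpecResidueField x)).mapIso e.symm ≪≫
            KFlat.lpullIso (X.fromSpecResidueField x) hK) ≪≫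
        (DerivedCategory.homologyFunctorFactors _ i).app _ ≪≫
        (HomologicalComplex.homologyFunctor _ _ i).mapIso e₁ ≪≫ e₂.symm ≪≫
        (HomologicalComplex.homologyFunctor _ _ i).mapIso e₃.symm
    rw [← finrank_homology_pullback g' pt]
    exact (((SheafOfModules.forget (Spec R).ringCatSheaf ⋙
      PresheafOfModules.evaluation _ (op ⊤)).mapIso e₀).toLinearEquiv).finrank_eq
  · obtain ⟨n, ⟨e'⟩⟩ := hfree i (by simp [s]; lia)
    let k : (W : Scheme.{u}) ⟶ (W₀ : Scheme.{u}) := IsOpenImmersion.lift W₀.ι j (by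
      rintro _ ⟨w, rfl⟩
      rw [Scheme.Opens.range_ι]
      obtain ⟨z, hz, hz'⟩ := w.2
      have : z = j.base w := U.ι.isOpenEmbedding.injective (hz'.trans (hjι w).symm)
      exact this ▸ hz)
    exact ⟨n, ⟨Split.ofIso ((Scheme.Modules.pullbackCongr (IsOpenImmersion.lift_fac W₀.ι j _)).symm.app _ ≪≫
      (Scheme.Modules.pullbackComp k W₀.ι).symm.app _ ≪≫ (Scheme.Modules.pullback k).mapIso e' ≪≫
      DerPerf.pullFreeIso k n)⟩⟩
  · rw [flatC_pullback j P q w, flatC_iff_of_mIso (DerPerf.isKFlat_of_isStrictlyPerfect hP)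
      (fun n => DerPerf.isFlat_of_isFinLocFree (hP.2 n)) (DerPerf.isKFlat_restrictCx U hK)
      (fun n => DQCoh.isFlat_restrict U.ι (flat_resF F n)) (p - 1) α hα q (by lia) (j.base w)]
    rw [← hjι w]
    exact (flatC_restrict U.ι K q (j.base w)).symm
  · haveI hi := hα.1 p (by lia)
    let R := Scheme.Modules.restrictFunctor j
    let Rc := R.mapHomologicalComplex (ComplexShape.up ℤ)
    let N : Scheme.Modules.restrictFunctor W.ι ≅
        Scheme.Modules.restrictFunctor U.ι ⋙ R :=
      (Scheme.Modules.restrictFunctorCongr (X.homOfLE_ι hWU)).symm ≪≫ Scheme.Modules.restrictFunctorComp j U.ι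
    exact ⟨N.app _ ≪≫ R.mapIso ((Scheme.Modules.restrictFunctor U.ι).mapIso
        ((DerivedCategory.homologyFunctor X.Modules p).mapIso e.symm ≪≫ KFlat.hdIso K p) ≪≫
        ((K.sc p).mapHomologyIso (Scheme.Modules.restrictFunctor U.ι)).symm ≪≫
        ((DerivedCategory.homologyFunctorFactors _ p).app ((DCoh.restrictCx U).obj K)).symm ≪≫
        (asIso ((DerivedCategory.homologyFunctor _ p).map α)).symm ≪≫
        (DerivedCategory.homologyFunctorFactors _ p).app P) ≪≫
      ((P.sc p).mapHomologyIso R).symm ≪≫ (HomologicalComplex.homologyFunctor _ _ p).mapIso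
        ((NatIso.mapHomologicalComplex (Scheme.Modules.restrictFunctorIsoPullback j) (ComplexShape.up ℤ)).app P)⟩

variable {Y Z : Scheme.{u}} (g : Z ⟶ Y) (p : Z)

/-- fibre dimensions do not depend on the field point -/
lemma finrank_fib (hp : IsField (Z.presheaf.stalk p)) (M : Y.Modules) :
    Module.finrank (Z.presheaf.stalk p) ((fib g p).obj M) = LocFree.rk M (g.base p) := by
  let φ := (g.stalkMap p).hom
  haveI : IsLocalHom φ := inferInstance
  letI : Field (Z.presheaf.stalk p) := hp.toField
  let A := Y.presheaf.stalk (g.base p)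
  let L := Z.presheaf.stalk p
  have hker : ∀ a ∈ IsLocalRing.maximalIdeal A, φ a = 0 := fun a ha => by
    by_contra h
    exact (IsLocalRing.mem_maximalIdeal a).1 ha (isUnit_of_map_unit φ a (isUnit_iff_ne_zero.2 h))
  letI : Algebra A L := φ.toAlgebra
  letI : Algebra (IsLocalRing.ResidueField A) L := (Ideal.Quotient.lift _ φ hker).toAlgebra
  haveI : IsScalarTower A (IsLocalRing.ResidueField A) L := IsScalarTower.of_algebraMap_eq fun _ => rfl
  change Module.finrank L (TensorProduct A L (M.presheaf.stalk (g.base p))) = _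
  rw [← (TensorProduct.AlgebraTensorModule.cancelBaseChange A (IsLocalRing.ResidueField A) L L
    (M.presheaf.stalk (g.base p))).finrank_eq, Module.finrank_baseChange]

lemma preservesFiniteColimits_fib : PreservesFiniteColimits (fib g p) := by
  haveI := (ModuleCat.extendRestrictScalarsAdj.{u} (g.stalkMap p).hom).leftAdjoint_preservesColimits
  haveI : PreservesColimitsOfSize.{0, 0} (ModuleCat.extendScalars.{u, u, u} (g.stalkMap p).hom) :=
    preservesSmallestColimits_of_preservesColimits _
  infer_instance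

/-- rank of a map and fibre dimension of its cokernel -/
lemma rk_add_rk_cokernel (hp : IsField (Z.presheaf.stalk p)) {M N : Y.Modules} {n : ℕ} (S : Split N n)
    (f : M ⟶ N) : rk g p f + LocFree.rk (cokernel f) (g.base p) = n := by
  letI : Field (Z.presheaf.stalk p) := hp.toField
  haveI := preservesFiniteColimits_fib g p
  haveI := S.finite g p
  have e := PreservesCokernel.iso (fib g p) f ≪≫
    (cokernelIsCokernel _).coconePointUniqueUpToIso (ModuleCat.cokernelIsColimit ((fib g p).map f))
  rw [← finrank_fib g p hp, e.toLinearEquiv.finrank_eq, add_comm]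
  exact (Submodule.finrank_quotient_add_finrank (LinearMap.range ((fib g p).map f).hom)).trans (S.finrank_eq g p)

lemma isFT_cokernel {M N : Y.Modules} (f : M ⟶ N) (hN : FlatMod.IsFinLocFree N) : CohB1.IsFT (cokernel f) :=
  QC.isFT_of_epi (cokernel.π f) (LocFree.isFT_of_isFinLocFree hN)

/-- cokernel with locally constant fibre dimension, on a reduced scheme -/
lemma isFinLocFree_cokernel_of_rk [IsReduced Y] {M N : Y.Modules} (f : M ⟶ N) (hM : FlatMod.IsFinLocFree M)
    (hN : FlatMod.IsFinLocFree N) (h : IsLocallyConstant (fun y => LocFree.rk (cokernel f) y)) :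
    FlatMod.IsFinLocFree (cokernel f) :=
  LocFree.isFinLocFree_of_rank (QC.isQCoh_cokernel (LocFree.isQCoh_of_isFinLocFree hM)
      (LocFree.isQCoh_of_isFinLocFree hN) f) (isFT_cokernel f hN) h
    fun _ hD _ s hs hn => LocFree.indep_of_reduced s hD (QC.isQCoh_cokernel (LocFree.isQCoh_of_isFinLocFree hM)
      (LocFree.isQCoh_of_isFinLocFree hN) f) hs hn

end Groth.Agent.KSixLib.Exch
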