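import Groth.Agent.KSixLib.ExchLocal

/-!
# The exchange property: Betti numbers, local freeness
-/

set_option backward.isDefEq.respectTransparency false
set_option backward.isDefEq.respectTransparency.types false
set_option linter.style.haveILetI false
set_option autoImplicit false

universe u

open CategoryTheory Limits AlgebraicGeometry Opposite TopologicalSpace HomologicalComplex

attribute [local instance] HasDerivedCategory.standard

namespace Groth.Agent.KSixLib.Exch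

open Groth.Agent.Betti
open Groth.Agent.KFlat (resF resψ stCx)

variable {X : Scheme.{u}} [∀ x : X, DCoh.HasLpull (X.fromSpecResidueField x)]
  {F : CochainComplex X.Modules ℤ} {p : ℤ} {W : X.Opens} {P : CochainComplex (W : Scheme.{u}).Modules ℤ}

/-- fibre dimension of the cokernel into degree `q` -/
noncomputable abbrev crk (P : CochainComplex (W : Scheme.{u}).Modules ℤ) (q : ℤ) (w : (W : Scheme.{u})) : ℕ :=
  LocFree.rk (cokernel (P.d (q - 1) q)) w

omit [∀ x : X, DCoh.HasLpull (X.fromSpecResidueField x)] in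
lemma cok_succ {Y : Scheme.{u}} (P : CochainComplex Y.Modules ℤ) (p : ℤ) :
    cokernel (P.d (p + 1 - 1) (p + 1)) = cokernel (P.d p (p + 1)) := by
  obtain ⟨i, hi⟩ : ∃ i, i = p + 1 - 1 := ⟨_, rfl⟩
  rw [← hi]
  obtain rfl : i = p := by lia
  rfl

/-- Betti numbers in terms of fibre dimensions of cokernels -/
lemma betti_add (h : Model F p W P) :
    ∃ n : ℕ, ∀ w : (W : Scheme.{u}),
      PerfD.betti (DCoh.toD X F) w.1 p + n = crk P p w + crk P (p + 1) w := by
  obtain ⟨n₁, ⟨S₁⟩⟩ := h.free p (by lia) (by lia)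
  obtain ⟨n₂, ⟨S₂⟩⟩ := h.free (p + 1) (by lia) (by lia)
  refine ⟨n₂, fun w => ?_⟩
  obtain ⟨Z, g, z, hz, -, hgz, hb⟩ := h.model w.1 w.2
  have hgw : g.base z = w := hgz
  have f₀ := finrank_homology_fibCx g z hz P p S₁
  have c₁ := rk_add_rk_cokernel g z hz S₁ (P.d (p - 1) p)
  have c₂ := rk_add_rk_cokernel g z hz S₂ (P.d p (p + 1))
  rw [hgw] at c₁ c₂
  have hd : crk P (p + 1) w = LocFree.rk (cokernel (P.d p (p + 1))) w := by
    unfold crk
    rw [cok_succ]
  rw [hd, hb p rfl]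
  unfold crk
  omega

/-- upper semicontinuity of fibre dimensions of cokernels -/
lemma exists_nhd_crk_le (h : Model F p W P) (q : ℤ) (h₁ : p ≤ q) (h₂ : q ≤ p + 1) (w₀ : (W : Scheme.{u})) :
    ∃ O : (W : Scheme.{u}).Opens, w₀ ∈ O ∧ ∀ w ∈ O, crk P q w ≤ crk P q w₀ := by
  obtain ⟨n, ⟨S⟩⟩ := h.free q (by lia) h₂
  obtain ⟨Z, g, z, hz, hs, hgz, -⟩ := h.model w₀.1 w₀.2
  have hgw : g.base z = w₀ := hgz
  obtain ⟨O, hO, hle⟩ := exists_nhd_le_rk g z hz hs S (P.d (q - 1) q)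
  rw [hgw] at hO
  refine ⟨O, hO, fun w hw => ?_⟩
  obtain ⟨Z', g', z', hz', -, hgz', -⟩ := h.model w.1 w.2
  have hgw' : g'.base z' = w := hgz'
  have l := hle g' z' hz' (by rw [hgw']; exact hw)
  have c := rk_add_rk_cokernel g z hz S (P.d (q - 1) q)
  have c' := rk_add_rk_cokernel g' z' hz' S (P.d (q - 1) q)
  rw [hgw] at c
  rw [hgw'] at c'
  unfold crk
  omega

lemma isLocallyConstant_crk (h : Model F p W P)
    (hc : IsLocallyConstant (fun x : X => PerfD.betti (DCoh.toD X F) x p)) :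
    IsLocallyConstant (crk P p) ∧ IsLocallyConstant (crk P (p + 1)) := by
  obtain ⟨n, hn⟩ := betti_add h
  have key : ∀ w₀ : (W : Scheme.{u}), ∃ O : Set (W : Scheme.{u}), IsOpen O ∧ w₀ ∈ O ∧
      ∀ w ∈ O, crk P p w = crk P p w₀ ∧ crk P (p + 1) w = crk P (p + 1) w₀ := by
    intro w₀
    obtain ⟨O₁, hO₁, l₁⟩ := exists_nhd_crk_le h p le_rfl (by lia) w₀
    obtain ⟨O₂, hO₂, l₂⟩ := exists_nhd_crk_le h (p + 1) (by lia) le_rfl w₀
    have hc' := hc.comp_continuous W.ι.base.hom.continuous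
    obtain ⟨V, hV, hV₀, hVe⟩ := (IsLocallyConstant.iff_exists_open _).1 hc' w₀
    refine ⟨(O₁ : Set _) ∩ O₂ ∩ V, (O₁.2.inter O₂.2).inter hV, ⟨⟨hO₁, hO₂⟩, hV₀⟩, fun w hw => ?_⟩
    have := l₁ w hw.1.1
    have := l₂ w hw.1.2
    have := hn w
    have := hn w₀
    have e : PerfD.betti (DCoh.toD X F) w.1 p = PerfD.betti (DCoh.toD X F) w₀.1 p := hVe w hw.2
    omega
  exact ⟨(IsLocallyConstant.iff_exists_open _).2 fun w => (key w).imp fun O hO =>
      ⟨hO.1, hO.2.1, fun w' hw' => (hO.2.2 w' hw').1⟩,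
    (IsLocallyConstant.iff_exists_open _).2 fun w => (key w).imp fun O hO =>
      ⟨hO.1, hO.2.1, fun w' hw' => (hO.2.2 w' hw').2⟩⟩

/-- **constant Betti numbers on a reduced scheme give flat cokernels** -/
theorem flatC_of_betti [IsReduced X] (F : CochainComplex X.Modules ℤ) (p : ℤ)
    (hE : DCoh.IsPseudoCoherentD (p - 1) (DCoh.toD X F))
    (hc : IsLocallyConstant (fun x : X => PerfD.betti (DCoh.toD X F) x p)) (x : X) :
    FlatC ((resF X).obj F) p x ∧ FlatC ((resF X).obj F) (p + 1) x := by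
  obtain ⟨W, P, hx, h⟩ := exists_exch_model F p hE x
  obtain ⟨h₁, h₂⟩ := isLocallyConstant_crk h hc
  exact ⟨(h.flatC p le_rfl ⟨x, hx⟩).2
      (DerPerf.isFlat_of_isFinLocFree (isFinLocFree_cokernel_of_rk _ (h.locFree _) (h.locFree _) h₁) ⟨x, hx⟩),
    (h.flatC (p + 1) (by lia) ⟨x, hx⟩).2
      (DerPerf.isFlat_of_isFinLocFree (isFinLocFree_cokernel_of_rk _ (h.locFree _) (h.locFree _) h₂) ⟨x, hx⟩)⟩

omit [∀ x : X, DCoh.HasLpull (X.fromSpecResidueField x)] in
lemma isFinLocFree_homology {Y : Scheme.{u}} (P : CochainComplex Y.Modules ℤ) (p : ℤ)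
    (hP : FlatMod.IsFinLocFree (P.X (p + 1))) (h₁ : FlatMod.IsFinLocFree (cokernel (P.d (p - 1) p)))
    (h₂ : FlatMod.IsFinLocFree (cokernel (P.d p (p + 1)))) : FlatMod.IsFinLocFree (P.homology p) := by
  let f := P.fromOpcycles p (p + 1)
  have hopc : FlatMod.IsFinLocFree (P.opcycles p) := DQCoh.isFinLocFree_of_iso'
    ((cokernelIsCokernel (P.d (p - 1) p)).coconePointUniqueUpToIso (P.opcyclesIsCokernel (p - 1) p (by simp))) h₁
  have hcok : FlatMod.IsFinLocFree (cokernel f) := by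
    refine DQCoh.isFinLocFree_of_iso' ?_ h₂
    exact (cokernelIsoOfEq (P.p_fromOpcycles p (p + 1)).symm) ≪≫ cokernelEpiComp (P.pOpcycles p) f
  have hI : FlatMod.IsFinLocFree (Abelian.image f) := DCohLocus.isFinLocFree_kernel (cokernel.π f) hP hcok
  refine DQCoh.isFinLocFree_of_iso' ?_ (DCohLocus.isFinLocFree_kernel (Abelian.factorThruImage f) hopc hI)
  exact (kernelCompMono (Abelian.factorThruImage f) (Abelian.image.ι f)).symm ≪≫
    kernelIsoOfEq (Abelian.image.fac f) ≪≫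
    (kernelIsKernel f).conePointUniqueUpToIso (P.homologyIsKernel p (p + 1) (by simp))

/-- **exactness gives local freeness and constant Betti numbers** -/
theorem locFree_of_flatC (F : CochainComplex X.Modules ℤ) (p : ℤ)
    (hE : DCoh.IsPseudoCoherentD (p - 1) (DCoh.toD X F))
    (hf : ∀ x, FlatC ((resF X).obj F) p x ∧ FlatC ((resF X).obj F) (p + 1) x) :
    FlatMod.IsFinLocFree (DCoh.HD (DCoh.toD X F) p) ∧
      IsLocallyConstant (fun x : X => PerfD.betti (DCoh.toD X F) x p) := by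
  have key : ∀ x : X, ∃ (W : X.Opens) (P : CochainComplex (W : Scheme.{u}).Modules ℤ), x ∈ W ∧ Model F p W P ∧
      FlatMod.IsFinLocFree (cokernel (P.d (p - 1) p)) ∧
      FlatMod.IsFinLocFree (cokernel (P.d (p + 1 - 1) (p + 1))) := fun x => by
    obtain ⟨W, P, hx, h⟩ := exists_exch_model F p hE x
    exact ⟨W, P, hx, h,
      DQCoh.isFinLocFree_cokernel _ (h.locFree _) (h.locFree _) (fun w => (h.flatC p le_rfl w).1 (hf w.1).1),
      DQCoh.isFinLocFree_cokernel _ (h.locFree _) (h.locFree _)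
        (fun w => (h.flatC (p + 1) (by lia) w).1 (hf w.1).2)⟩
  refine ⟨DQCoh.isFinLocFree_of_local fun x => ?_, (IsLocallyConstant.iff_exists_open _).2 fun x => ?_⟩
  · obtain ⟨W, P, hx, h, h₁, h₂⟩ := key x
    rw [cok_succ] at h₂
    obtain ⟨e⟩ := h.homology
    exact ⟨W, W.ι, inferInstance, ⟨x, hx⟩, rfl,
      DQCoh.isFinLocFree_of_iso' e.symm (isFinLocFree_homology P p (h.locFree _) h₁ h₂)⟩
  · obtain ⟨W, P, hx, h, h₁, h₂⟩ := key x
    obtain ⟨n, hn⟩ := betti_add h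
    obtain ⟨O₁, o₁, m₁, e₁⟩ := (IsLocallyConstant.iff_exists_open _).1 (LocFree.isLocallyConstant_rk h₁) ⟨x, hx⟩
    obtain ⟨O₂, o₂, m₂, e₂⟩ := (IsLocallyConstant.iff_exists_open _).1 (LocFree.isLocallyConstant_rk h₂) ⟨x, hx⟩
    refine ⟨W.ι.base '' (O₁ ∩ O₂), W.ι.isOpenEmbedding.isOpenMap _ (o₁.inter o₂), ⟨⟨x, hx⟩, ⟨m₁, m₂⟩, rfl⟩, ?_⟩
    rintro _ ⟨w, ⟨hw₁, hw₂⟩, rfl⟩
    have := hn w
    have := hn ⟨x, hx⟩
    have := e₁ w hw₁
    have := e₂ w hw₂
    change PerfD.betti (DCoh.toD X F) w.1 p = PerfD.betti (DCoh.toD X F) x p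
    simp only [crk] at *
    omega

end Groth.Agent.KSixLib.Exch
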