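import Groth.Agent.KSixLib.ExchStalk
import Groth.Agent.KSixLib.ExchLT
import Groth.Agent.DerPerf.PseudoCoh

/-!
# Flatness of cokernels near a point
-/

set_option backward.isDefEq.respectTransparency false
set_option backward.isDefEq.respectTransparency.types false
set_option linter.style.haveILetI false
set_option autoImplicit false

universe u

open CategoryTheory Limits AlgebraicGeometry HomologicalComplex MonoidalCategory

attribute [local instance] HasDerivedCategory.standard

namespace Groth.Agent.KSixLib.Exch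

open Groth.Agent.KFlat (resF resψ stCx)

variable {X : Scheme.{u}}

lemma flatC_resF_restrict (U : X.Opens) (F : CochainComplex X.Modules ℤ) (q : ℤ) (v : (U : Scheme.{u})) :
    FlatC ((resF (U : Scheme.{u})).obj ((DCoh.restrictCx U).obj F)) q v ↔ FlatC ((resF X).obj F) q v.1 := by
  refine Iff.trans ?_ (flatC_restrict U.ι ((resF X).obj F) q v)
  let e : DCoh.toD X ((resF X).obj F) ≅ DCoh.toD X F :=
    @asIso _ _ _ _ (DerivedCategory.Q.map ((resψ X).app F)) inferInstance
  let α := DerivedCategory.Q.map ((resψ (U : Scheme.{u})).app ((DCoh.restrictCx U).obj F)) ≫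
    (DerPerf.restrictCxIso U e).inv
  exact flatC_iff_of_mIso (KFlat.isKFlat_resF _) (flat_resF _)
    (DerPerf.isKFlat_restrictCx U (KFlat.isKFlat_resF F)) (fun n => DQCoh.isFlat_restrict U.ι (flat_resF F n))
    (q - 1) α ⟨fun i _ => inferInstance, inferInstance⟩ q (by lia) v

/-- flatness of cokernels in high degrees of a pseudo-coherent complex is open -/
theorem exists_nhd_flatC (F : CochainComplex X.Modules ℤ) (m q : ℤ) (hq : m < q)
    (hE : DCoh.IsPseudoCoherentD m (DCoh.toD X F)) (x : X) (h : FlatC ((resF X).obj F) q x) :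
    ∃ U : X.Opens, x ∈ U ∧ ∀ v : (U : Scheme.{u}),
      FlatC ((resF (U : Scheme.{u})).obj ((DCoh.restrictCx U).obj F)) q v := by
  let K := (resF X).obj F
  let e : DCoh.toD X K ≅ DCoh.toD X F := @asIso _ _ _ _ (DerivedCategory.Q.map ((resψ X).app F)) inferInstance
  obtain ⟨U, hU, P, α, hP, hα⟩ := (DerPerf.isPseudoCoherent_iff_rep e).1 hE x
  have key : ∀ v : (U : Scheme.{u}), FlatC P q v ↔ FlatC K q v.1 := fun v =>
    (flatC_iff_of_mIso (DerPerf.isKFlat_of_isStrictlyPerfect hP)
      (fun n => DerPerf.isFlat_of_isFinLocFree (hP.2 n)) (DerPerf.isKFlat_restrictCx U (KFlat.isKFlat_resF F))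
      (fun n => DQCoh.isFlat_restrict U.ι (flat_resF F n)) m α hα q hq v).trans (flatC_restrict U.ι K q v)
  obtain ⟨V, hV, hflat⟩ := exists_flat_nhd_cokernel (P.d (q - 1) q) (hP.2 _) (hP.2 _) ⟨x, hU⟩
    ((key ⟨x, hU⟩).2 h)
  refine ⟨U.ι ''ᵁ V, ⟨⟨x, hU⟩, hV, rfl⟩, fun v => (flatC_resF_restrict _ F q v).2 ?_⟩
  obtain ⟨w, hw, hwv⟩ := v.2
  rw [← hwv]
  exact (key w).1 ((flatAt_restrict_iff V.ι _ (⟨w, hw⟩ : (V : Scheme.{u}))).1 (hflat ⟨w, hw⟩))

/-- stalk form -/
theorem flatC_of_stalk_rightExact (F : CochainComplex X.Modules ℤ) (q : ℤ) (x : X)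
    [DRing.HasLTensorCx (X.presheaf.stalk x) ((stCx x).obj F)]
    [PreservesFiniteColimits (DerivedCategory.singleFunctor (ModuleCat.{u} (X.presheaf.stalk x)) 0 ⋙
      DRing.LTensorCx (X.presheaf.stalk x) ((stCx x).obj F) ⋙
        DerivedCategory.homologyFunctor (ModuleCat.{u} (X.presheaf.stalk x)) q)] :
    FlatC ((resF X).obj F) (q + 1) x := by
  haveI : QuasiIso ((stCx x).map ((resψ X).app F)) :=
    HomologicalComplex.quasiIso_map_of_preservesHomology _ (DerSch.stalkFunctor X x)
  rw [flatC_iff_cok, ← preservesFiniteColimits_tenH_iff (stalk_termwiseFlat (flat_resF F) x) q]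
  exact preservesFiniteColimits_of_natIso (ltTenHIso ((stCx x).obj F) ((stCx x).map ((resψ X).app F))
    ((KFlat.isKFlat_iff_stalks _).1 (KFlat.isKFlat_resF F) x) q)

/-- stalk form -/
theorem flatC_of_stalk_leftExact (F : CochainComplex X.Modules ℤ) (q : ℤ) (x : X)
    [DRing.HasLTensorCx (X.presheaf.stalk x) ((stCx x).obj F)]
    [PreservesFiniteLimits (DerivedCategory.singleFunctor (ModuleCat.{u} (X.presheaf.stalk x)) 0 ⋙
      DRing.LTensorCx (X.presheaf.stalk x) ((stCx x).obj F) ⋙
        DerivedCategory.homologyFunctor (ModuleCat.{u} (X.presheaf.stalk x)) q)] :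
    FlatC ((resF X).obj F) q x := by
  haveI : QuasiIso ((stCx x).map ((resψ X).app F)) :=
    HomologicalComplex.quasiIso_map_of_preservesHomology _ (DerSch.stalkFunctor X x)
  rw [flatC_iff_cok, ← preservesFiniteLimits_tenH_iff (stalk_termwiseFlat (flat_resF F) x) q]
  exact preservesFiniteLimits_of_natIso (ltTenHIso ((stCx x).obj F) ((stCx x).map ((resψ X).app F))
    ((KFlat.isKFlat_iff_stalks _).1 (KFlat.isKFlat_resF F) x) q)

end Groth.Agent.KSixLib.Exch
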