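import Groth.Agent.KSixLib.ExchQCoh
import Groth.Agent.FMTool.Proj2
import Groth.Agent.CohProperPush.Basic
import Groth.Agent.RelPCS.Calc
import Groth.Agent.DQCoh.PCTensor

/-!
# The exchange property for higher direct images
-/

set_option backward.isDefEq.respectTransparency false
set_option backward.isDefEq.respectTransparency.types false
set_option linter.style.haveILetI false
set_option autoImplicit false

universe u

open CategoryTheory Limits AlgebraicGeometry HomologicalComplex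

attribute [local instance] HasDerivedCategory.standard

namespace Groth.Agent.KSixLib.Exch

variable {X Y : Scheme.{u}} (f : X ⟶ Y)

/-- relatively pseudo-coherent objects over a locally noetherian base have coherent cohomology -/
theorem isCohD_of_relAll [IsLocallyNoetherian Y] [LocallyOfFiniteType f] {E : DCoh.D X}
    (h : DerSch.IsPseudoCoherentRelAll f E) : DCoh.IsCohD E := fun i => by
  have key : ∀ x : X, ∃ (A : Type u) (_ : CommRing A) (j : Spec (CommRingCat.of A) ⟶ X) (_ : IsOpenImmersion j),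
      x ∈ Set.range j.base ∧ Coh.IsCoh ((Scheme.Modules.restrictFunctor j).obj (DCoh.HD E i)) := fun x => by
    obtain ⟨V, hV, hfx⟩ := QC.exists_affine_mem (f.base x)
    obtain ⟨U, hU, hx, hle⟩ := exists_isAffineOpen_mem_and_subset (X := X) (x := x) (U := f ⁻¹ᵁ V) hfx
    obtain ⟨n, φ, hφ⟩ := RelPCS.exists_chart hU hV hle
    refine ⟨Γ(X, U), inferInstance, hU.fromSpec, inferInstance, hU.range_fromSpec.symm ▸ hx, ?_⟩
    haveI := RelPCS.closedImm_sp hφ.1
    haveI : IsNoetherianRing Γ(Y, V) := IsLocallyNoetherian.component_noetherian ⟨V, hV⟩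
    haveI : IsLocallyNoetherian (Spec (CommRingCat.of (MvPolynomial (Fin n) Γ(Y, V)))) := inferInstance
    have hc : DCoh.IsCohD ((RelPCS.QF hU.fromSpec φ).obj E) := DQCoh.isCohD_of_pc _ fun m => by
      obtain ⟨_, hm⟩ := RelPCS.qpc_of_rel (h m) hU hV hle hφ
      exact hm
    haveI := GrothSS.isIso_counit_push (RelPCS.sp φ)
    exact K0Coh.isCoh_of_iso ((asIso (Scheme.Modules.pullbackPushforwardAdjunction (RelPCS.sp φ)).counit).app _)
      (QC.isCoh_pullback (RelPCS.sp φ) (K0Coh.isCoh_of_iso (RelPCS.qfHD hU.fromSpec φ E i) (hc i)))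
  choose A iA j hj hxj hc using key
  refine ⟨QC.isQCoh_of_local fun x => ⟨_, j x, hj x, hxj x, (hc x).1⟩,
    QC.isFT_of_local fun x => ⟨_, j x, hj x, hxj x, (hc x).2⟩⟩

/-- a complex representing an object of the derived category -/
lemma exists_rep (G : DCoh.D Y) : ∃ N : CochainComplex Y.Modules ℤ, Nonempty (DCoh.toD Y N ≅ G) := by
  obtain ⟨N, -, -, e⟩ := KFlat.exists_isKFlat_rep G
  exact ⟨N, e⟩

lemma isQCohD_single {M : Y.Modules} (hM : Coh.IsQCoh M) :
    DCoh.IsQCohD ((DerivedCategory.singleFunctor Y.Modules 0).obj M) := fun i => by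
  refine QC.isQCoh_of_iso (((DerivedCategory.homologyFunctorFactors Y.Modules i).app _).symm ≪≫
    (DerivedCategory.homologyFunctor Y.Modules i).mapIso
      ((DerivedCategory.singleFunctorIsoCompQ Y.Modules 0).app M).symm) ?_
  by_cases hi : i = 0
  · subst hi
    exact QC.isQCoh_of_iso (singleObjHomologySelfIso (ComplexShape.up ℤ) 0 M).symm hM
  · exact QC.isQCoh_of_iso
      (HomologicalComplex.isZero_single_obj_homology (ComplexShape.up ℤ) 0 M i hi).isoZero.symm
      (QCGen.prop_zero Y (isZero_zero _))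

/-- **`M ↦ Rᵖf_*(Lf^*M ⊗^L F)` is `M ↦ Hᵖ(M ⊗^L Rf_*F)` on quasi-coherent modules** -/
theorem nonempty_pushFunctor [QuasiCompact f] [QuasiSeparated f] [DCoh.HasRpush f] [DCoh.HasLpull f]
    (F : CochainComplex X.Modules ℤ) (hq : DCoh.IsQCohD (DCoh.toD X F)) [DCoh.HasLTensorCx F]
    (N : CochainComplex Y.Modules ℤ) (e : DCoh.toD Y N ≅ (DCoh.Rpush f).obj (DCoh.toD X F))
    [DCoh.HasLTensorCx N] (p : ℤ) :
    Nonempty ((QCohCat.isQCoh Y).ι ⋙ DerivedCategory.singleFunctor Y.Modules 0 ⋙ DCoh.Lpull f ⋙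
        DCoh.LTensorCx F ⋙ DCoh.Rpush f ⋙ DerivedCategory.homologyFunctor Y.Modules p ≅
      (QCohCat.isQCoh Y).ι ⋙ DerivedCategory.singleFunctor Y.Modules 0 ⋙ DCoh.LTensorCx N ⋙
        DerivedCategory.homologyFunctor Y.Modules p) := by
  obtain ⟨a⟩ := FMTool.nonempty_projNat₂ f F hq N e
  let Φ : QCohCat.QCoh Y ⥤ (DCoh.IsQCohD (X := Y)).FullSubcategory :=
    ObjectProperty.lift _ ((QCohCat.isQCoh Y).ι ⋙ DerivedCategory.singleFunctor Y.Modules 0)
      fun M => isQCohD_single M.property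
  exact ⟨(Functor.isoWhiskerRight (Functor.isoWhiskerLeft Φ a) (DerivedCategory.homologyFunctor Y.Modules p)).symm⟩

/-- exactness of `M ↦ Rᵖf_*(Lf^*M ⊗^L F)` in terms of flat cokernels -/
theorem push_exact_iff [QuasiSeparatedSpace Y] [QuasiCompact f] [QuasiSeparated f] [DCoh.HasRpush f] [DCoh.HasLpull f]
    (F : CochainComplex X.Modules ℤ) (hq : DCoh.IsQCohD (DCoh.toD X F)) [DCoh.HasLTensorCx F]
    (N : CochainComplex Y.Modules ℤ) (e : DCoh.toD Y N ≅ (DCoh.Rpush f).obj (DCoh.toD X F)) (p : ℤ) :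
    (PreservesFiniteLimits ((QCohCat.isQCoh Y).ι ⋙ DerivedCategory.singleFunctor Y.Modules 0 ⋙ DCoh.Lpull f ⋙
        DCoh.LTensorCx F ⋙ DCoh.Rpush f ⋙ DerivedCategory.homologyFunctor Y.Modules p) ↔
      ∀ y, FlatC ((KFlat.resF Y).obj N) p y) ∧
    (PreservesFiniteColimits ((QCohCat.isQCoh Y).ι ⋙ DerivedCategory.singleFunctor Y.Modules 0 ⋙ DCoh.Lpull f ⋙
        DCoh.LTensorCx F ⋙ DCoh.Rpush f ⋙ DerivedCategory.homologyFunctor Y.Modules p) ↔
      ∀ y, FlatC ((KFlat.resF Y).obj N) (p + 1) y) := by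
  haveI := KFlat.hasLTensorCx N
  obtain ⟨a⟩ := nonempty_pushFunctor f F hq N e p
  refine ⟨⟨fun _ y => ?_, fun h => ?_⟩, ⟨fun _ y => ?_, fun h => ?_⟩⟩
  · haveI := preservesFiniteLimits_of_natIso a
    exact flatC_of_qcoh_leftExact p y
  · haveI := (leftExact_iff N p).2 h
    haveI : PreservesFiniteLimits ((QCohCat.isQCoh Y).ι ⋙ DerivedCategory.singleFunctor Y.Modules 0 ⋙
        DCoh.LTensorCx N ⋙ DerivedCategory.homologyFunctor Y.Modules p) := comp_preservesFiniteLimits _ _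
    exact preservesFiniteLimits_of_natIso a.symm
  · haveI := preservesFiniteColimits_of_natIso a
    exact flatC_of_qcoh_rightExact p y
  · haveI := (rightExact_iff N p).2 h
    haveI : PreservesFiniteColimits ((QCohCat.isQCoh Y).ι ⋙ DerivedCategory.singleFunctor Y.Modules 0 ⋙
        DCoh.LTensorCx N ⋙ DerivedCategory.homologyFunctor Y.Modules p) := comp_preservesFiniteColimits _ _
    exact preservesFiniteColimits_of_natIso a.symm

/-- `Rf_*F` is pseudo-coherent over a noetherian base -/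
theorem pc_push [IsNoetherian Y] [IsProper f] [DCoh.HasRpush f] (F : CochainComplex X.Modules ℤ) (a b : ℤ)
    [(DCoh.toD X F).IsGE a] [(DCoh.toD X F).IsLE b] (h : DerSch.IsPerfectRel f F) (m : ℤ) :
    DCoh.IsQCohD (DCoh.toD X F) ∧ DCoh.IsPseudoCoherentD m ((DCoh.Rpush f).obj (DCoh.toD X F)) := by
  haveI : IsLocallyNoetherian X := LocallyOfFiniteType.isLocallyNoetherian f
  have hc := isCohD_of_relAll f h.1
  have hs : ∀ i : ℤ, ClSub.IsProperOver f (CohB1.support (DCoh.HD (DCoh.toD X F) i)) := fun i =>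
    haveI : IsProper (𝟙 X ≫ f) := by rw [Category.id_comp]; infer_instance
    ClSubLib.isProperOver_of_subset f (𝟙 X) _ (QC.isClosed_support (hc i).2) fun x _ => ⟨x, rfl⟩
  refine ⟨fun i => (hc i).1, ?_⟩
  obtain ⟨c, hcb⟩ := CohProperPush.exists_isLE f (b + 1 - a).toNat (DCoh.toD X F) a ‹_›
    (DerivedCategory.TStructure.t.isLE_of_le (DCoh.toD X F) b _ (by lia)) (fun i => ⟨hc i, hs i⟩)
  haveI := hcb
  exact (DQCoh.pc_iff_isCoh _ (DQPush.isQCohD_rpush _ fun i => (hc i).1) m).2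
    ⟨fun i _ => CohProperPush.main f (DCoh.toD X F) a hc hs i, c, hcb⟩

end Groth.Agent.KSixLib.Exch
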