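import Groth.Agent.KSixLib.ExchPush

/-!
# Exactness of higher direct images and Betti numbers
-/

set_option backward.isDefEq.respectTransparency false
set_option backward.isDefEq.respectTransparency.types false
set_option linter.style.haveILetI false
set_option autoImplicit false

universe u

open CategoryTheory Limits AlgebraicGeometry HomologicalComplex Opposite

attribute [local instance] HasDerivedCategory.standard

namespace Groth.Agent.KSixLib.Exch

variable {X Y : Scheme.{u}}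

lemma betti_congr [∀ y : Y, DCoh.HasLpull (Y.fromSpecResidueField y)] {E E' : DCoh.D Y} (e : E ≅ E') (p : ℤ) :
    (fun y : Y => PerfD.betti E y p) = fun y : Y => PerfD.betti E' y p := funext fun y =>
  (((SheafOfModules.forget (Spec (Y.residueField y)).ringCatSheaf ⋙ PresheafOfModules.evaluation _ (op ⊤)).mapIso
    ((DerivedCategory.homologyFunctor _ p).mapIso
      ((DCoh.Lpull (Y.fromSpecResidueField y)).mapIso e))).toLinearEquiv).finrank_eq

variable [QuasiSeparatedSpace Y] (f : X ⟶ Y) [QuasiCompact f] [QuasiSeparated f] [DCoh.HasRpush f] [DCoh.HasLpull f]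
  (F : CochainComplex X.Modules ℤ) [DCoh.HasLTensorCx F] [∀ y : Y, DCoh.HasLpull (Y.fromSpecResidueField y)]

/-- exactness gives local freeness and constant Betti numbers -/
theorem push_locFree (hq : DCoh.IsQCohD (DCoh.toD X F)) (p : ℤ)
    (hpc : DCoh.IsPseudoCoherentD (p - 1) ((DCoh.Rpush f).obj (DCoh.toD X F)))
    [PreservesFiniteLimits ((QCohCat.isQCoh Y).ι ⋙ DerivedCategory.singleFunctor Y.Modules 0 ⋙ DCoh.Lpull f ⋙
        DCoh.LTensorCx F ⋙ DCoh.Rpush f ⋙ DerivedCategory.homologyFunctor Y.Modules p)]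
    [PreservesFiniteColimits ((QCohCat.isQCoh Y).ι ⋙ DerivedCategory.singleFunctor Y.Modules 0 ⋙ DCoh.Lpull f ⋙
        DCoh.LTensorCx F ⋙ DCoh.Rpush f ⋙ DerivedCategory.homologyFunctor Y.Modules p)] :
    FlatMod.IsFinLocFree (DCoh.HD ((DCoh.Rpush f).obj (DCoh.toD X F)) p) ∧
      IsLocallyConstant (fun y : Y => PerfD.betti ((DCoh.Rpush f).obj (DCoh.toD X F)) y p) := by
  obtain ⟨N, ⟨e⟩⟩ := exists_rep ((DCoh.Rpush f).obj (DCoh.toD X F))
  obtain ⟨hl, hr⟩ := push_exact_iff f F hq N e p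
  obtain ⟨h₁, h₂⟩ := locFree_of_flatC N p (DQCoh.pc_of_iso e.symm hpc)
    fun y => ⟨hl.1 inferInstance y, hr.1 inferInstance y⟩
  exact ⟨DQCoh.isFinLocFree_of_iso' ((DerivedCategory.homologyFunctor _ p).mapIso e) h₁, betti_congr e p ▸ h₂⟩

/-- constant Betti numbers give exactness -/
theorem push_exact [IsReduced Y] (hq : DCoh.IsQCohD (DCoh.toD X F)) (p : ℤ)
    (hpc : DCoh.IsPseudoCoherentD (p - 1) ((DCoh.Rpush f).obj (DCoh.toD X F)))
    (hc : IsLocallyConstant (fun y : Y => PerfD.betti ((DCoh.Rpush f).obj (DCoh.toD X F)) y p)) :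
    PreservesFiniteLimits ((QCohCat.isQCoh Y).ι ⋙ DerivedCategory.singleFunctor Y.Modules 0 ⋙ DCoh.Lpull f ⋙
        DCoh.LTensorCx F ⋙ DCoh.Rpush f ⋙ DerivedCategory.homologyFunctor Y.Modules p) ∧
      PreservesFiniteColimits ((QCohCat.isQCoh Y).ι ⋙ DerivedCategory.singleFunctor Y.Modules 0 ⋙ DCoh.Lpull f ⋙
        DCoh.LTensorCx F ⋙ DCoh.Rpush f ⋙ DerivedCategory.homologyFunctor Y.Modules p) := by
  obtain ⟨N, ⟨e⟩⟩ := exists_rep ((DCoh.Rpush f).obj (DCoh.toD X F))
  obtain ⟨hl, hr⟩ := push_exact_iff f F hq N e p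
  have h := flatC_of_betti N p (DQCoh.pc_of_iso e.symm hpc) (betti_congr e p ▸ hc)
  exact ⟨hl.2 fun y => (h y).1, hr.2 fun y => (h y).2⟩

omit [∀ y : Y, DCoh.HasLpull (Y.fromSpecResidueField y)] in
/-- right exactness in degree `p` is left exactness in degree `p + 1` -/
theorem push_rightExact_iff (hq : DCoh.IsQCohD (DCoh.toD X F)) (p : ℤ) :
    PreservesFiniteColimits ((QCohCat.isQCoh Y).ι ⋙ DerivedCategory.singleFunctor Y.Modules 0 ⋙ DCoh.Lpull f ⋙
        DCoh.LTensorCx F ⋙ DCoh.Rpush f ⋙ DerivedCategory.homologyFunctor Y.Modules p) ↔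
      PreservesFiniteLimits ((QCohCat.isQCoh Y).ι ⋙ DerivedCategory.singleFunctor Y.Modules 0 ⋙ DCoh.Lpull f ⋙
        DCoh.LTensorCx F ⋙ DCoh.Rpush f ⋙ DerivedCategory.homologyFunctor Y.Modules (p + 1)) := by
  obtain ⟨N, ⟨e⟩⟩ := exists_rep ((DCoh.Rpush f).obj (DCoh.toD X F))
  exact (push_exact_iff f F hq N e p).2.trans (push_exact_iff f F hq N e (p + 1)).1.symm

end Groth.Agent.KSixLib.Exch
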