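import Groth.Agent.QC.Extend
import Groth.Agent.KFlat.SchemeStalk
import Groth.Agent.QC.Basic

/-!
# Quasi-coherent ideals with prescribed stalk at a point
-/

set_option backward.isDefEq.respectTransparency false
set_option backward.isDefEq.respectTransparency.types false
set_option linter.style.haveILetI false
set_option autoImplicit false

universe u

open CategoryTheory CategoryTheory.Limits AlgebraicGeometry TopologicalSpace Opposite
open Groth.Agent.QC

namespace Groth.Agent.KSixLib

variable {X : Scheme.{u}} [QuasiSeparatedSpace X] {F : X.Modules} {V : X.Opens}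

/-- sections locally generated by `T` over an affine `V` form a quasi-coherent submodule -/
theorem isQCoh_genSub [hF : F.IsQuasicoherent] (hV : IsAffineOpen V) (T : Set Γ(F, V)) :
    Coh.IsQCoh (genSub T).toModules := by
  refine isQCoh_of_isLoc fun x => ?_
  obtain ⟨D, hD, hx, -⟩ := exists_isAffineOpen_mem_and_subset (X := X) (x := x) (U := ⊤) trivial
  refine ⟨D, hD, hx, fun f t => ?_, fun f s hs => ?_⟩
  · let S := genSub T
    have hc : IsCompact ((D ⊓ V : X.Opens) : Set X) :=
      QuasiSeparatedSpace.inter_isCompact _ _ D.2 hD.isCompact V.2 hV.isCompact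
    obtain ⟨n, s, hs⟩ := (isLoc_of_isQCoh hD (M := F)).exists_extend f (S.ι.app _ t)
    have hpt : ∀ y : (D ⊓ V : X.Opens), ∃ (E : X.Opens) (_ : IsAffineOpen E) (hED : E ≤ D ⊓ V), y.1 ∈ E ∧
        ∃ K : ℕ, res F (hED.trans inf_le_left) (f ^ K • s) ∈ S.obj E := by
      intro y
      obtain ⟨E, hE, hyE, hED⟩ := exists_isAffineOpen_mem_and_subset (X := X) (x := y.1) (U := D ⊓ V) y.2
      let hEV : E ≤ V := (show E ≤ D ⊓ V from hED).trans inf_le_right
      let hED' : E ≤ D := (show E ≤ D ⊓ V from hED).trans inf_le_left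
      let g := resO X hED' f
      have ht : S.ι.app _ t ∈ S.obj (X.basicOpen f) := (S.range_ι_app _ _).1 ⟨t, rfl⟩
      have hgE : X.basicOpen g ≤ X.basicOpen f := basicOpen_resO_le hED' f
      have hy : res F (X.basicOpen_le g) (res F hED' s) ∈ S.obj (X.basicOpen g) := by
        rw [res_res, ← res_res F hgE (X.basicOpen_le f), hs, res_smul]
        exact Submodule.smul_mem _ _ (S.res_mem _ ht)
      rw [mem_genSub_iff (hE.basicOpen g) ((X.basicOpen_le g).trans hEV), ← image_res_res (X.basicOpen_le g) hEV] at hy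
      obtain ⟨a, p, hp, hpe⟩ := exists_pow_smul_mem_span hE g hy
      obtain ⟨b, hb⟩ := (isLoc_of_isQCoh hE (M := F)).exists_pow_smul_eq_zero g
        (g ^ a • res F hED' s - p) (by rw [map_sub, res_smul, map_pow, hpe, sub_self])
      rw [smul_sub, sub_eq_zero, smul_smul, ← pow_add] at hb
      refine ⟨E, hE, hED, hyE, b + a, (mem_genSub_iff hE hEV T _).2 ?_⟩
      rw [res_smul, map_pow]
      change g ^ (b + a) • res F hED' s ∈ _
      rw [hb]
      exact Submodule.smul_mem _ _ hp
    choose E hE hED hyE K hK using hpt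
    obtain ⟨c, hc'⟩ := hc.elim_finite_subcover (fun y => (E y : Set X)) (fun y => (E y).2)
      fun y hy => Set.mem_iUnion.2 ⟨⟨y, hy⟩, hyE ⟨y, hy⟩⟩
    refine ⟨c.sup K + n, ⟨f ^ c.sup K • s, fun y hy hyV => ?_⟩, S.ι_app_injective _ ?_⟩
    · obtain ⟨k, hkc, hyk⟩ := Set.mem_iUnion₂.1 (hc' ⟨hy, hyV⟩)
      obtain ⟨d, hd⟩ := Nat.exists_eq_add_of_le (Finset.le_sup (f := K) hkc)
      have hmem : res F ((hED k).trans inf_le_left) (f ^ c.sup K • s) ∈ S.obj (E k) := by
        rw [hd, add_comm, pow_add, mul_smul, res_smul]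
        exact Submodule.smul_mem _ _ (hK k)
      obtain ⟨W, hW, hW', hyW, hspan⟩ := hmem y hyk hyV
      exact ⟨W, hW.trans ((hED k).trans inf_le_left), hW', hyW, by rwa [res_res] at hspan⟩
    · refine (app_res S.ι _ _).symm.trans ?_
      change res F (X.basicOpen_le f) (f ^ c.sup K • s) = _
      rw [res_smul, hs, map_pow, smul_smul, Scheme.Modules.Hom.app_smul, pow_add]
  · obtain ⟨n, hn⟩ := (isLoc_of_isQCoh hD (M := F)).exists_pow_smul_eq_zero f ((genSub T).ι.app D s)
      (by rw [app_res, hs, map_zero])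
    exact ⟨n, (genSub T).ι_app_injective _ (by rw [Scheme.Modules.Hom.app_smul, hn, map_zero])⟩

/-- **every finitely generated ideal of a local ring is the stalk of a quasi-coherent ideal** -/
theorem exists_qcoh_ideal_stalk (x : X) {I : Ideal (X.presheaf.stalk x)} (hI : I.FG) :
    ∃ (M : X.Modules) (f : M ⟶ Coh.structureModule X) (ψ : (DerSch.stalkFunctor X x).obj (Coh.structureModule X) ≃ₗ[X.presheaf.stalk x] X.presheaf.stalk x),
      Mono f ∧ Coh.IsQCoh M ∧
      Submodule.map ψ.toLinearMap (LinearMap.range ((DerSch.stalkFunctor X x).map f).hom) = I := by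
  obtain ⟨n, s, rfl⟩ := Submodule.fg_iff_exists_fin_generating_family.1 hI
  obtain ⟨U, hU, a, ha⟩ := KFlat.exists_stalk_generators x s
  obtain ⟨V, hV, hxV, hVU⟩ := exists_isAffineOpen_mem_and_subset (X := X) (x := x) (U := U) hU
  let b : Fin n → Γ(Coh.structureModule X, V) := fun i => X.presheaf.map (homOfLE hVU).op (a i)
  let S := genSub (Set.range b)
  haveI : (Coh.structureModule X).IsQuasicoherent := isQCoh_unit X
  let e := LinearEquiv.ofBijective (KFlat.oneMap x) (KFlat.oneMap_bijective x)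
  refine ⟨S.toModules, S.ι, e.symm, inferInstance, isQCoh_genSub hV _, ?_⟩
  let ψ := e.symm.toLinearMap ∘ₗ KFlat.pstMap (DCoh.toP.map S.ι) x
  change Submodule.map e.symm.toLinearMap (LinearMap.range (KFlat.pstMap (DCoh.toP.map S.ι) x)) = _
  rw [← LinearMap.range_comp]
  change LinearMap.range ψ = _
  have hg : ∀ (W : X.Opens) (hW : x ∈ W) (r : Γ(S.toModules, W)),
      ψ (KFlat.pgerm _ x W hW r) = X.presheaf.germ W x hW (S.ι.app W r) := fun W hW r => by
    change e.symm (KFlat.pstMap (DCoh.toP.map S.ι) x (KFlat.pgerm _ x W hW r)) = _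
    rw [LinearEquiv.symm_apply_eq]
    exact (KFlat.pstMap_germ _ x hW r).trans (KFlat.oneMap_germ hW _).symm
  refine le_antisymm ?_ (Submodule.span_le.2 ?_)
  · rintro _ ⟨m, rfl⟩
    obtain ⟨W, hW, r, rfl⟩ := KFlat.exists_pgerm (DCoh.toP.obj S.toModules) x m
    rw [hg W hW r]
    have hr : S.ι.app W r ∈ S.obj W := (S.range_ι_app _ _).1 ⟨r, rfl⟩
    obtain ⟨A, hA, hAV, hxA, hspan⟩ := hr x hW hxV
    have h2 : X.presheaf.germ W x hW (S.ι.app W r) =
        X.presheaf.germ A x hxA (res (Coh.structureModule X) hA (S.ι.app W r)) :=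
      (TopCat.Presheaf.germ_res_apply X.presheaf (homOfLE hA) x hxA _).symm
    rw [h2]
    refine Submodule.span_induction (p := fun (q : Γ(Coh.structureModule X, A)) _ => X.presheaf.germ A x hxA q ∈ _)
      ?_ ?_ ?_ ?_ hspan
    · rintro _ ⟨_, ⟨i, rfl⟩, rfl⟩
      refine Submodule.subset_span ⟨i, ?_⟩
      exact ((TopCat.Presheaf.germ_res_apply X.presheaf (homOfLE hAV) x hxA _).trans
        ((TopCat.Presheaf.germ_res_apply X.presheaf (homOfLE hVU) x hxV _).trans (ha i))).symm
    · exact (map_zero (X.presheaf.germ A x hxA).hom).symm ▸ Submodule.zero_mem _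
    · exact fun a b _ _ h h' => (map_add (X.presheaf.germ A x hxA).hom a b).symm ▸ Submodule.add_mem _ h h'
    · exact fun c a _ h => (map_mul (X.presheaf.germ A x hxA).hom c a).symm ▸ Submodule.smul_mem _ _ h
  · rintro _ ⟨i, rfl⟩
    obtain ⟨r, hr⟩ := (S.range_ι_app V (b i)).2 (mem_genSub_of_mem ⟨i, rfl⟩)
    refine ⟨KFlat.pgerm (DCoh.toP.obj S.toModules) x V hxV r, (hg V hxV r).trans ?_⟩
    exact (congrArg (X.presheaf.germ V x hxV) hr).trans
      ((TopCat.Presheaf.germ_res_apply X.presheaf (homOfLE hVU) x hxV _).trans (ha i))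

end Groth.Agent.KSixLib
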