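import Groth.Agent.KSixLib.ExchMain
import Groth.Agent.KSixLib.GenIdeal
import Groth.Agent.QCGen.Basic
import Mathlib.RingTheory.Flat.Tensor

/-!
# The exchange property tested on quasi-coherent modules
-/

set_option backward.isDefEq.respectTransparency false
set_option backward.isDefEq.respectTransparency.types false
set_option linter.style.haveILetI false
set_option autoImplicit false

universe u

open CategoryTheory Limits AlgebraicGeometry HomologicalComplex MonoidalCategory

attribute [local instance] HasDerivedCategory.standard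

namespace Groth.Agent.KSixLib.Exch

open Groth.Agent.KFlat (resF resψ stCx)

section Ring

variable {A : Type u} [CommRing A] {K : DRing.Cx A}

lemma injective_lTensor_cok (hK : DRing.TermwiseFlat K) (q : ℤ) {M N : ModuleCat.{u} A} (f : M ⟶ N)
    (hf : Function.Injective f.hom) (hm : Mono ((tenH K q).map f)) :
    Function.Injective (f.hom.lTensor (cok K q)) := by
  let d := (K.d (q - 1) q).hom
  let d' := (K.d q (q + 1)).hom
  let π := (LinearMap.range d).mkQ
  have hπ : Function.Surjective π := Submodule.mkQ_surjective _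
  have hex : Function.Exact d π := LinearMap.exact_map_mkQ_range d
  have hd : d' ∘ₗ d = 0 := ModuleCat.hom_ext_iff.1 (K.d_comp_d (q - 1) q (q + 1))
  refine (injective_iff_map_eq_zero _).2 fun w hw => ?_
  obtain ⟨z, rfl⟩ := LinearMap.rTensor_surjective M hπ w
  have h1 : f.hom.lTensor (K.X q) z ∈ LinearMap.range (d.rTensor N) :=
    (rTensor_exact N hex hπ _).1 ((LinearMap.congr_fun (LinearMap.rTensor_comp_lTensor _ π f.hom) z).trans
      ((LinearMap.congr_fun (LinearMap.lTensor_comp_rTensor _ π f.hom) z).symm.trans hw))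
  refine (rTensor_exact M hex hπ _).2 ((mono_tenH_map_iff q f).1 hm z ?_ h1)
  haveI : Module.Flat A (K.X (q + 1)) := hK _
  apply Module.Flat.lTensor_preserves_injective_linearMap (M := (K.X (q + 1) : Type u)) f.hom hf
  rw [map_zero]
  obtain ⟨v, hv⟩ := h1
  calc f.hom.lTensor (K.X (q + 1)) (d'.rTensor M z)
      = d'.rTensor N (f.hom.lTensor (K.X q) z) :=
        (LinearMap.congr_fun (LinearMap.lTensor_comp_rTensor _ d' f.hom) z).trans
          (LinearMap.congr_fun (LinearMap.rTensor_comp_lTensor _ d' f.hom) z).symm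
    _ = d'.rTensor N (d.rTensor N v) := by rw [hv]
    _ = 0 := by rw [← LinearMap.comp_apply, ← LinearMap.rTensor_comp, hd]; simp

lemma mono_tenH_of_epi (hK : DRing.TermwiseFlat K) (q : ℤ) (S : ShortComplex (ModuleCat.{u} A))
    (hS : S.ShortExact) (he : Epi ((tenH K q).map S.g)) : Mono ((tenH K (q + 1)).map S.f) := by
  have hT := shortExact_tenCx hK S hS
  haveI : Epi (HomologicalComplex.homologyMap ((tenCx K).map S.g) q) := he
  refine (hT.homology_exact₁ q (q + 1) rfl).mono_g ?_
  exact (cancel_epi (HomologicalComplex.homologyMap ((tenCx K).map S.g) q)).1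
    ((hT.comp_δ q (q + 1) rfl).trans comp_zero.symm)

end Ring

variable {X : Scheme.{u}} [QuasiSeparatedSpace X] {F : CochainComplex X.Modules ℤ}

/-- flatness of a cokernel from test maps coming from quasi-coherent ideals -/
lemma flatC_of_ideals (q : ℤ) (x : X)
    (h : ∀ (M : X.Modules) (f : M ⟶ Coh.structureModule X), Mono f → Coh.IsQCoh M →
      Mono ((tenH ((stCx x).obj ((resF X).obj F)) q).map ((DerSch.stalkFunctor X x).map f))) :
    FlatC ((resF X).obj F) q x := by
  rw [flatC_iff_cok, Module.Flat.iff_lTensor_injective]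
  intro I hI
  obtain ⟨M, f, ψ, hf, hM, hr⟩ := exists_qcoh_ideal_stalk x hI
  haveI := hf
  have hinj : Function.Injective ((DerSch.stalkFunctor X x).map f).hom :=
    (ModuleCat.mono_iff_injective _).1 ((DerSch.stalkFunctor X x).map_mono f)
  have h1 := injective_lTensor_cok (stalk_termwiseFlat (flat_resF F) x) q _ hinj (h M f hf hM)
  let φ := ψ.toLinearMap ∘ₗ ((DerSch.stalkFunctor X x).map f).hom
  have hrange : LinearMap.range φ = I := by rw [LinearMap.range_comp]; exact hr
  let e := (LinearEquiv.ofInjective φ (ψ.injective.comp hinj)).trans (LinearEquiv.ofEq _ _ hrange)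
  have he : I.subtype = φ ∘ₗ e.symm.toLinearMap := LinearMap.ext fun i => by
    obtain ⟨m, rfl⟩ := e.surjective i
    simp [e]
  rw [he, LinearMap.lTensor_comp, LinearMap.lTensor_comp, LinearMap.coe_comp, LinearMap.coe_comp]
  exact ((LinearEquiv.lTensor _ ψ).injective.comp h1).comp (LinearEquiv.lTensor _ e.symm).injective

/-- left exactness on quasi-coherent modules already gives flatness -/
theorem flatC_of_qcoh_leftExact [DCoh.HasLTensorCx F] (q : ℤ)
    [PreservesFiniteLimits ((QCohCat.isQCoh X).ι ⋙ DerivedCategory.singleFunctor X.Modules 0 ⋙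
      DCoh.LTensorCx F ⋙ DerivedCategory.homologyFunctor X.Modules q)] (x : X) :
    FlatC ((resF X).obj F) q x := by
  refine flatC_of_ideals q x fun M f hf hM => ?_
  let G := DerivedCategory.singleFunctor X.Modules 0 ⋙ DCoh.LTensorCx F ⋙ DerivedCategory.homologyFunctor X.Modules q
  let f' : (⟨M, hM⟩ : QCohCat.QCoh X) ⟶ ⟨Coh.structureModule X, QC.isQCoh_unit X⟩ := ObjectProperty.homMk f
  haveI : Mono f' := (QCohCat.isQCoh X).ι.mono_of_mono_map (inferInstanceAs (Mono f))
  have h1 : Mono (G.map f) := ((QCohCat.isQCoh X).ι ⋙ G).map_mono f'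
  have h2 : Mono ((tenHS ((resF X).obj F) q).map f) :=
    ((MorphismProperty.monomorphisms _).arrow_mk_iso_iff
      (Arrow.isoMk ((ltTenHSIso F q).app _) ((ltTenHSIso F q).app _) ((ltTenHSIso F q).hom.naturality f).symm)).1 h1
  exact ((MorphismProperty.monomorphisms _).arrow_mk_iso_iff
    (Arrow.isoMk ((tenHSStalk _ x q).app _) ((tenHSStalk _ x q).app _)
      ((tenHSStalk _ x q).hom.naturality f).symm)).1 ((DerSch.stalkFunctor X x).map_mono _)

/-- right exactness on quasi-coherent modules already gives flatness -/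
theorem flatC_of_qcoh_rightExact [DCoh.HasLTensorCx F] (q : ℤ)
    [PreservesFiniteColimits ((QCohCat.isQCoh X).ι ⋙ DerivedCategory.singleFunctor X.Modules 0 ⋙
      DCoh.LTensorCx F ⋙ DerivedCategory.homologyFunctor X.Modules q)] (x : X) :
    FlatC ((resF X).obj F) (q + 1) x := by
  refine flatC_of_ideals (q + 1) x fun M f hf hM => ?_
  let G := DerivedCategory.singleFunctor X.Modules 0 ⋙ DCoh.LTensorCx F ⋙ DerivedCategory.homologyFunctor X.Modules q
  let π : (⟨Coh.structureModule X, QC.isQCoh_unit X⟩ : QCohCat.QCoh X) ⟶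
      ⟨cokernel f, QC.isQCoh_cokernel hM (QC.isQCoh_unit X) f⟩ := ObjectProperty.homMk (cokernel.π f)
  haveI : Epi π := (QCohCat.isQCoh X).ι.epi_of_epi_map (inferInstanceAs (Epi (cokernel.π f)))
  have h1 : Epi (G.map (cokernel.π f)) := ((QCohCat.isQCoh X).ι ⋙ G).map_epi π
  haveI h2 : Epi ((tenHS ((resF X).obj F) q).map (cokernel.π f)) :=
    ((MorphismProperty.epimorphisms _).arrow_mk_iso_iff
      (Arrow.isoMk ((ltTenHSIso F q).app _) ((ltTenHSIso F q).app _)
        ((ltTenHSIso F q).hom.naturality (cokernel.π f)).symm)).1 h1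
  have h3 : Epi ((tenH ((stCx x).obj ((resF X).obj F)) q).map ((DerSch.stalkFunctor X x).map (cokernel.π f))) :=
    ((MorphismProperty.epimorphisms _).arrow_mk_iso_iff
      (Arrow.isoMk ((tenHSStalk _ x q).app _) ((tenHSStalk _ x q).app _)
        ((tenHSStalk _ x q).hom.naturality (cokernel.π f)).symm)).1 ((DerSch.stalkFunctor X x).map_epi _)
  haveI := hf
  have hS : (ShortComplex.mk f (cokernel.π f) (cokernel.condition f)).ShortExact :=
    ShortComplex.ShortExact.mk' (ShortComplex.exact_of_g_is_cokernel _ (cokernelIsCokernel f)) hf inferInstance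
  let st := DerSch.stalkFunctor X x
  let S : ShortComplex (ModuleCat.{u} (X.presheaf.stalk x)) := ShortComplex.mk (st.map f) (st.map (cokernel.π f))
    (by rw [← st.map_comp, cokernel.condition, st.map_zero])
  have hS' : S.ShortExact := hS.map_of_exact st
  have := mono_tenH_of_epi (K := (stCx x).obj ((resF X).obj F)) (stalk_termwiseFlat (flat_resF F) x) q S hS'
  exact this h3

end Groth.Agent.KSixLib.Exch
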