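import Groth.Agent.DRingKP.TorAmp
import Mathlib.Algebra.Homology.HomologySequenceLemmas
import Mathlib.Algebra.Homology.ShortComplex.ModuleCat
import Mathlib.RingTheory.Flat.Basic

/-!
# The exchange property for complexes of flat modules

`M ↦ Hᵍ(K ⊗ M)` preserves monomorphisms iff `coker dᵍ⁻¹` is flat; it preserves epimorphisms iff the
next degree preserves monomorphisms.
-/

set_option backward.isDefEq.respectTransparency false
set_option backward.isDefEq.respectTransparency.types false
set_option linter.style.haveILetI false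
set_option autoImplicit false

universe u

open CategoryTheory Limits HomologicalComplex MonoidalCategory

attribute [local instance] HasDerivedCategory.standard

namespace Groth.Agent.KSixLib.Exch

open Groth.Agent.DRingKP (tR)

variable {A : Type u} [CommRing A]

section Elementwise

variable {S T : ShortComplex (ModuleCat.{u} A)} (φ : S ⟶ T)

lemma π_eq_zero_iff (c : S.cycles) :
    S.homologyπ.hom c = 0 ↔ ∃ v, S.f.hom v = S.iCycles.hom c := by
  rw [← map_eq_zero_iff S.homologyι.hom ((ModuleCat.mono_iff_injective S.homologyι).1 inferInstance)]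
  have h : S.homologyι.hom (S.homologyπ.hom c) = S.pOpcycles.hom (S.iCycles.hom c) :=
    congr(($(S.homology_π_ι)).hom c)
  rw [h, S.moduleCat_pOpcycles_eq_zero_iff]
  rfl

lemma exists_cycle {z : S.X₂} (hz : S.g.hom z = 0) : ∃ c : S.cycles, S.iCycles.hom c = z :=
  ⟨S.moduleCatCyclesIso.inv.hom ⟨z, hz⟩, congr(($(S.moduleCatCyclesIso_inv_iCycles)).hom ⟨z, hz⟩)⟩

/-- injectivity on homology, elementwise -/
lemma mono_homologyMap_iff :
    Mono (ShortComplex.homologyMap φ) ↔
      ∀ z : S.X₂, S.g.hom z = 0 → (∃ w, T.f.hom w = φ.τ₂.hom z) → ∃ v, S.f.hom v = z := by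
  have key : ∀ c : S.cycles, (ShortComplex.homologyMap φ).hom (S.homologyπ.hom c) = 0 ↔
      ∃ w, T.f.hom w = φ.τ₂.hom (S.iCycles.hom c) := fun c => by
    have h1 : (ShortComplex.homologyMap φ).hom (S.homologyπ.hom c) =
        T.homologyπ.hom ((ShortComplex.cyclesMap φ).hom c) :=
      congr(($(ShortComplex.homologyπ_naturality φ)).hom c)
    have h2 : T.iCycles.hom ((ShortComplex.cyclesMap φ).hom c) = φ.τ₂.hom (S.iCycles.hom c) :=
      congr(($(ShortComplex.cyclesMap_i φ)).hom c)
    rw [h1, π_eq_zero_iff, h2]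
  rw [ModuleCat.mono_iff_injective]
  constructor
  · intro h z hz hw
    obtain ⟨c, rfl⟩ := exists_cycle hz
    exact (π_eq_zero_iff c).1 (h (((key c).2 hw).trans (map_zero _).symm))
  · intro h
    refine (injective_iff_map_eq_zero _).2 fun t ht => ?_
    obtain ⟨c, rfl⟩ := (ModuleCat.epi_iff_surjective S.homologyπ).1 inferInstance t
    exact (π_eq_zero_iff c).2 (h _ (congr(($(S.iCycles_g)).hom c)) ((key c).1 ht))

end Elementwise

/-- `M ↦ K ⊗ M` -/
noncomputable def tenCx (K : DRing.Cx A) : ModuleCat.{u} A ⥤ DRing.Cx A where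
  obj M := (tR M).obj K
  map {M N} f :=
    { f := fun n => K.X n ◁ f
      comm' := fun i j _ => whisker_exchange (K.d i j) f }
  map_id M := by ext n : 1; exact MonoidalCategory.whiskerLeft_id (K.X n) M
  map_comp f g := by ext n : 1; exact MonoidalCategory.whiskerLeft_comp (K.X n) f g

instance (K : DRing.Cx A) : (tenCx K).Additive where
  map_add {M N f g} := by ext n : 1; exact MonoidalPreadditive.whiskerLeft_add f g

/-- `M ↦ Hᵍ(K ⊗ M)` -/
noncomputable def tenH (K : DRing.Cx A) (q : ℤ) : ModuleCat.{u} A ⥤ ModuleCat.{u} A :=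
  tenCx K ⋙ HomologicalComplex.homologyFunctor _ _ q

instance (K : DRing.Cx A) (q : ℤ) : (tenH K q).Additive := by unfold tenH; infer_instance

/-- the cokernel of the differential into degree `q` -/
abbrev cok (K : DRing.Cx A) (q : ℤ) : Type u :=
  (K.X q : Type u) ⧸ LinearMap.range (K.d (q - 1) q).hom

variable {K : DRing.Cx A}

lemma mono_tenH_map_iff (q : ℤ) {M N : ModuleCat.{u} A} (f : M ⟶ N) :
    Mono ((tenH K q).map f) ↔
      ∀ z : TensorProduct A (K.X q) M, (K.d q (q + 1)).hom.rTensor M z = 0 →
        f.hom.lTensor (K.X q) z ∈ LinearMap.range ((K.d (q - 1) q).hom.rTensor N) →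
        z ∈ LinearMap.range ((K.d (q - 1) q).hom.rTensor M) := by
  let ψ := (tenCx K).map f
  have e : Mono (HomologicalComplex.homologyMap ψ q) ↔
      Mono (ShortComplex.homologyMap
        ((shortComplexFunctor' (ModuleCat.{u} A) (ComplexShape.up ℤ) (q - 1) q (q + 1)).map ψ)) :=
    (MorphismProperty.monomorphisms _).arrow_mk_iso_iff
      (Arrow.isoMk
        (ShortComplex.homologyMapIso (((tenCx K).obj M).isoSc' (q - 1) q (q + 1) (by simp) (by simp)))
        (ShortComplex.homologyMapIso (((tenCx K).obj N).isoSc' (q - 1) q (q + 1) (by simp) (by simp))) (by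
          refine (ShortComplex.homologyMap_comp _ _).symm.trans (Eq.trans ?_ (ShortComplex.homologyMap_comp _ _))
          exact congrArg (fun t => ShortComplex.homologyMap t) ((natIsoSc' (ModuleCat.{u} A) (ComplexShape.up ℤ) (q - 1) q (q + 1)
            (by simp) (by simp)).hom.naturality ψ).symm))
  exact e.trans (mono_homologyMap_iff _)

/-- **Left exactness in degree `q` means flatness of `coker dᵍ⁻¹`.** -/
theorem mono_tenH_iff (hK : DRing.TermwiseFlat K) (q : ℤ) :
    (∀ {M N : ModuleCat.{u} A} (f : M ⟶ N), Mono f → Mono ((tenH K q).map f)) ↔ Module.Flat A (cok K q) := by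
  let d := (K.d (q - 1) q).hom
  let d' := (K.d q (q + 1)).hom
  let π := (LinearMap.range d).mkQ
  have hπ : Function.Surjective π := Submodule.mkQ_surjective _
  have hex : Function.Exact d π := LinearMap.exact_map_mkQ_range d
  have hd : d' ∘ₗ d = 0 := ModuleCat.hom_ext_iff.1 (K.d_comp_d (q - 1) q (q + 1))
  have hR : ∀ (P : Type u) [AddCommGroup P] [Module A P] (z : TensorProduct A (K.X q) P),
      π.rTensor P z = 0 ↔ z ∈ LinearMap.range (d.rTensor P) := fun P _ _ z =>
    rTensor_exact P hex hπ z
  constructor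
  · intro h
    rw [Module.Flat.iff_lTensor_preserves_injective_linearMap]
    intro M N _ _ _ _ f hf
    refine (injective_iff_map_eq_zero _).2 fun w hw => ?_
    obtain ⟨z, rfl⟩ := LinearMap.rTensor_surjective M hπ w
    have hm := (mono_tenH_map_iff q (ModuleCat.ofHom f)).1
      (h (ModuleCat.ofHom f) ((ModuleCat.mono_iff_injective _).2 hf))
    have h1 : f.lTensor (K.X q) z ∈ LinearMap.range (d.rTensor N) := by
      rw [← hR]
      exact (LinearMap.congr_fun (LinearMap.rTensor_comp_lTensor _ π f) z).trans
        ((LinearMap.congr_fun (LinearMap.lTensor_comp_rTensor _ π f) z).symm.trans hw)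
    refine (hR M z).2 (hm z ?_ h1)
    haveI : Module.Flat A (K.X (q + 1)) := hK _
    apply Module.Flat.lTensor_preserves_injective_linearMap (M := (K.X (q + 1) : Type u)) f hf
    rw [map_zero]
    obtain ⟨v, hv⟩ := h1
    calc f.lTensor (K.X (q + 1)) (d'.rTensor M z)
        = d'.rTensor N (f.lTensor (K.X q) z) :=
          (LinearMap.congr_fun (LinearMap.lTensor_comp_rTensor _ d' f) z).trans
            (LinearMap.congr_fun (LinearMap.rTensor_comp_lTensor _ d' f) z).symm
      _ = d'.rTensor N (d.rTensor N v) := by rw [hv]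
      _ = 0 := by rw [← LinearMap.comp_apply, ← LinearMap.rTensor_comp, hd]; simp
  · intro hflat M N f hf
    refine (mono_tenH_map_iff q f).2 fun z _ hz => (hR M z).1 ?_
    apply Module.Flat.lTensor_preserves_injective_linearMap (M := cok K q) f.hom
      ((ModuleCat.mono_iff_injective f).1 hf)
    rw [map_zero]
    exact (LinearMap.congr_fun (LinearMap.lTensor_comp_rTensor _ π f.hom) z).trans
      ((LinearMap.congr_fun (LinearMap.rTensor_comp_lTensor _ π f.hom) z).symm.trans ((hR N _).2 hz))

lemma shortExact_tenCx (hK : DRing.TermwiseFlat K) (S : ShortComplex (ModuleCat.{u} A)) (hS : S.ShortExact) :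
    (S.map (tenCx K)).ShortExact := by
  refine HomologicalComplex.shortExact_of_degreewise_shortExact _ fun n => ?_
  haveI : Module.Flat A (K.X n) := hK n
  refine ShortComplex.ShortExact.mk' ?_ ?_ ?_
  · exact ModuleCat.shortComplex_exact _ (Module.Flat.lTensor_exact (K.X n)
      ((ShortComplex.ShortExact.moduleCat_exact_iff_function_exact S).1 hS.exact))
  · exact (ModuleCat.mono_iff_injective _).2
      (Module.Flat.lTensor_preserves_injective_linearMap S.f.hom hS.moduleCat_injective_f)
  · exact (ModuleCat.epi_iff_surjective _).2 (LinearMap.lTensor_surjective _ hS.moduleCat_surjective_g)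

/-- **Right exactness in degree `q` means left exactness in degree `q + 1`.** -/
theorem epi_tenH_iff (hK : DRing.TermwiseFlat K) (q : ℤ) :
    (∀ {M N : ModuleCat.{u} A} (f : M ⟶ N), Epi f → Epi ((tenH K q).map f)) ↔
      Module.Flat A (cok K (q + 1)) := by
  rw [← mono_tenH_iff hK (q + 1)]
  constructor
  · intro h M N f hf
    have hS : (ShortComplex.mk f (cokernel.π f) (cokernel.condition f)).ShortExact :=
      ShortComplex.ShortExact.mk' (ShortComplex.exact_of_g_is_cokernel _ (cokernelIsCokernel f)) hf inferInstance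
    have hT := shortExact_tenCx hK _ hS
    have he : Epi (HomologicalComplex.homologyMap ((tenCx K).map (cokernel.π f)) q) :=
      h (cokernel.π f) inferInstance
    refine (hT.homology_exact₁ q (q + 1) rfl).mono_g ?_
    exact (cancel_epi (HomologicalComplex.homologyMap ((tenCx K).map (cokernel.π f)) q)).1
      ((hT.comp_δ q (q + 1) rfl).trans comp_zero.symm)
  · intro h M N f hf
    have hS : (ShortComplex.mk (kernel.ι f) f (kernel.condition f)).ShortExact :=
      ShortComplex.ShortExact.mk' (ShortComplex.exact_of_f_is_kernel _ (kernelIsKernel f)) inferInstance hf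
    have hT := shortExact_tenCx hK _ hS
    have hm : Mono (HomologicalComplex.homologyMap ((tenCx K).map (kernel.ι f)) (q + 1)) :=
      h (kernel.ι f) inferInstance
    refine (hT.homology_exact₃ q (q + 1) rfl).epi_f ?_
    exact (cancel_mono (HomologicalComplex.homologyMap ((tenCx K).map (kernel.ι f)) (q + 1))).1
      ((hT.δ_comp q (q + 1) rfl).trans zero_comp.symm)

lemma exact_tenH (hK : DRing.TermwiseFlat K) (q : ℤ) (S : ShortComplex (ModuleCat.{u} A)) (hS : S.ShortExact) :
    (S.map (tenH K q)).Exact :=
  (shortExact_tenCx hK S hS).homology_exact₂ q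

theorem preservesFiniteLimits_tenH_iff (hK : DRing.TermwiseFlat K) (q : ℤ) :
    PreservesFiniteLimits (tenH K q) ↔ Module.Flat A (cok K q) := by
  rw [← mono_tenH_iff hK q]
  constructor
  · intro _ M N f hf
    exact (tenH K q).map_mono f
  · intro h
    exact ((tenH K q).preservesFiniteLimits_tfae.out 0 3 rfl rfl).1 fun S hS => ⟨exact_tenH hK q S hS, h S.f hS.mono_f⟩

theorem preservesFiniteColimits_tenH_iff (hK : DRing.TermwiseFlat K) (q : ℤ) :
    PreservesFiniteColimits (tenH K q) ↔ Module.Flat A (cok K (q + 1)) := by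
  rw [← epi_tenH_iff hK q]
  constructor
  · intro _ M N f hf
    exact (tenH K q).map_epi f
  · intro h
    exact ((tenH K q).preservesFiniteColimits_tfae.out 0 3 rfl rfl).1 fun S hS => ⟨exact_tenH hK q S hS, h S.g hS.epi_g⟩

end Groth.Agent.KSixLib.Exch
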