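import Groth.Agent.Bousfield.TensLinear
import Groth.Agent.KFlat.BoundedRes
import Groth.Agent.KFlat.Pullback
import Groth.Agent.RHomCx.AssocNat

/-!
# The exchange property for derived tensor products on a ringed site
-/

set_option backward.isDefEq.respectTransparency false
set_option backward.isDefEq.respectTransparency.types false
set_option linter.style.haveILetI false
set_option autoImplicit false

universe u

open CategoryTheory Limits HomologicalComplex

attribute [local instance] HasDerivedCategory.standard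

namespace Groth.Agent.KSixLib.ExchSite

open Groth.Agent.KFlat (RFlat FlatObj braid tens swapIso tensSingleIso)

variable {C : Type u} [SmallCategory C] {J : GrothendieckTopology C} {O : Sheaf J CommRingCat.{u}}

local notation "𝔅" => ModSite.tensorBi O

variable (K : CochainComplex (ModSite.Mod O) ℤ)

/-- `M ↦ K ⊗ M`, termwise -/
noncomputable def tS : ModSite.Mod O ⥤ CochainComplex (ModSite.Mod O) ℤ where
  obj M := (((𝔅).flip.obj M).mapHomologicalComplex (ComplexShape.up ℤ)).obj K
  map {M N} f :=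
    { f := fun n => ((𝔅).obj (K.X n)).map f
      comm' := fun i j _ => ((𝔅).map (K.d i j)).naturality f }
  map_id M := by ext n : 1; exact ((𝔅).obj (K.X n)).map_id M
  map_comp f g := by ext n : 1; exact ((𝔅).obj (K.X n)).map_comp f g

instance : (tS K).Additive where
  map_add {M N f g} := by ext n : 1; exact ((𝔅).obj (K.X n)).map_add

/-- `M ↦ Hᵍ(K ⊗ M)` -/
noncomputable def tH (q : ℤ) : ModSite.Mod O ⥤ ModSite.Mod O :=
  tS K ⋙ HomologicalComplex.homologyFunctor _ _ q

instance (q : ℤ) : (tH K q).Additive := by unfold tH; infer_instance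

variable {K}

lemma preserves_obj_of_flat {F : ModSite.Mod O} (hF : ModSite.IsFlat F) :
    PreservesFiniteLimits ((𝔅).obj F) ∧ PreservesFiniteColimits ((𝔅).obj F) :=
  ⟨haveI := hF.1; preservesFiniteLimits_of_natIso ((braid O).app F).symm,
    haveI := hF.2; preservesFiniteColimits_of_natIso ((braid O).app F).symm⟩

lemma isFlat_of_mono {Q : ModSite.Mod O}
    (h : ∀ {M N : ModSite.Mod O} (f : M ⟶ N), Mono f → Mono (((𝔅).obj Q).map f)) : ModSite.IsFlat Q := by
  haveI := KFlat.preservesFiniteColimits_left O Q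
  haveI : PreservesFiniteLimits ((𝔅).obj Q) :=
    (((𝔅).obj Q).preservesFiniteLimits_tfae.out 0 3 rfl rfl).1 fun S hS =>
      ⟨((((𝔅).obj Q).preservesFiniteColimits_tfae.out 0 3 rfl rfl).2 inferInstance S hS).1, h S.f hS.mono_f⟩
  exact ⟨preservesFiniteLimits_of_natIso ((braid O).app Q), preservesFiniteColimits_of_natIso ((braid O).app Q)⟩

lemma shortExact_tS (hK : ∀ n, ModSite.IsFlat (K.X n)) {S : ShortComplex (ModSite.Mod O)} (hS : S.ShortExact) :
    (S.map (tS K)).ShortExact :=
  HomologicalComplex.shortExact_of_degreewise_shortExact _ fun n => by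
    obtain ⟨_, _⟩ := preserves_obj_of_flat (hK n)
    exact hS.map_of_exact ((𝔅).obj (K.X n))

lemma exact_tH (hK : ∀ n, ModSite.IsFlat (K.X n)) (q : ℤ) {S : ShortComplex (ModSite.Mod O)}
    (hS : S.ShortExact) : (S.map (tH K q)).Exact :=
  (shortExact_tS hK hS).homology_exact₂ q

theorem preservesFiniteLimits_tH_iff (hK : ∀ n, ModSite.IsFlat (K.X n)) (q : ℤ) :
    PreservesFiniteLimits (tH K q) ↔ ∀ {M N : ModSite.Mod O} (f : M ⟶ N), Mono f → Mono ((tH K q).map f) :=
  ⟨fun _ _ _ f _ => (tH K q).map_mono f, fun h => ((tH K q).preservesFiniteLimits_tfae.out 0 3 rfl rfl).1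
    fun S hS => ⟨exact_tH hK q hS, h S.f hS.mono_f⟩⟩

theorem preservesFiniteColimits_tH_iff (hK : ∀ n, ModSite.IsFlat (K.X n)) (q : ℤ) :
    PreservesFiniteColimits (tH K q) ↔ ∀ {M N : ModSite.Mod O} (f : M ⟶ N), Epi f → Epi ((tH K q).map f) :=
  ⟨fun _ _ _ f _ => (tH K q).map_epi f, fun h => ((tH K q).preservesFiniteColimits_tfae.out 0 3 rfl rfl).1
    fun S hS => ⟨exact_tH hK q hS, h S.g hS.epi_g⟩⟩

/-- right exactness in degree `q` is left exactness in degree `q + 1` -/
theorem rightExact_iff_leftExact (hK : ∀ n, ModSite.IsFlat (K.X n)) (q : ℤ) :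
    PreservesFiniteColimits (tH K q) ↔ PreservesFiniteLimits (tH K (q + 1)) := by
  rw [preservesFiniteColimits_tH_iff hK, preservesFiniteLimits_tH_iff hK]
  constructor
  · intro h M N f hf
    have hS : (ShortComplex.mk f (cokernel.π f) (cokernel.condition f)).ShortExact :=
      { exact := ShortComplex.exact_cokernel f }
    have hS' := shortExact_tS hK hS
    refine (hS'.homology_exact₁ q (q + 1) rfl).mono_g ?_
    haveI := h (cokernel.π f) inferInstance
    exact (cancel_epi ((tH K q).map (cokernel.π f))).1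
      ((hS'.comp_δ q (q + 1) rfl).trans (comp_zero).symm)
  · intro h M N f hf
    have hS : (ShortComplex.mk (kernel.ι f) f (kernel.condition f)).ShortExact :=
      { exact := ShortComplex.exact_kernel f }
    have hS' := shortExact_tS hK hS
    refine (hS'.homology_exact₃ q (q + 1) rfl).epi_f ?_
    haveI := h (kernel.ι f) inferInstance
    exact (cancel_mono ((tH K (q + 1)).map (kernel.ι f))).1
      ((hS'.δ_comp q (q + 1) rfl).trans (zero_comp).symm)

/-- left exactness in degree `q + 1` is flatness of the cokernel of `d^q` -/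
theorem leftExact_iff_flat (hK : ∀ n, ModSite.IsFlat (K.X n)) (q : ℤ) :
    PreservesFiniteLimits (tH K (q + 1)) ↔ ModSite.IsFlat (cokernel (K.d q (q + 1))) := by
  rw [preservesFiniteLimits_tH_iff hK]
  set π := cokernel.π (K.d q (q + 1))
  have e : ∀ M : ModSite.Mod O, ∃ e : ((𝔅).obj (cokernel (K.d q (q + 1)))).obj M ≅ ((tS K).obj M).opcycles (q + 1),
      ((𝔅).map π).app M ≫ e.hom = ((tS K).obj M).pOpcycles (q + 1) := fun M => by
    haveI : PreservesFiniteColimits ((𝔅).flip.obj M) :=
      haveI := KFlat.preservesFiniteColimits_left O M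
      preservesFiniteColimits_of_natIso ((braid O).app M)
    exact ⟨(CokernelCofork.mapIsColimit _ (cokernelIsCokernel (K.d q (q + 1))) ((𝔅).flip.obj M)).coconePointUniqueUpToIso
      (((tS K).obj M).opcyclesIsCokernel q (q + 1) (by simp)),
      IsColimit.comp_coconePointUniqueUpToIso_hom
        (CokernelCofork.mapIsColimit _ (cokernelIsCokernel (K.d q (q + 1))) ((𝔅).flip.obj M))
        (((tS K).obj M).opcyclesIsCokernel q (q + 1) (by simp)) WalkingParallelPair.one⟩
  choose e he using e
  have nat : ∀ {M N : ModSite.Mod O} (f : M ⟶ N), ((𝔅).obj (cokernel (K.d q (q + 1)))).map f ≫ (e N).hom =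
      (e M).hom ≫ opcyclesMap ((tS K).map f) (q + 1) := fun {M N} f => by
    haveI : Epi (((𝔅).map π).app M) := by
      haveI := KFlat.preservesFiniteColimits_left O M
      haveI := preservesFiniteColimits_of_natIso ((braid O).app M)
      exact ((𝔅).flip.obj M).map_epi π
    rw [← cancel_epi (((𝔅).map π).app M), reassoc_of% (he M), p_opcyclesMap, ← he N, ← Category.assoc,
      ← ((𝔅).map π).naturality f, Category.assoc]
    rfl
  constructor
  · intro h
    refine isFlat_of_mono fun {M N} f hf => ?_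
    suffices hm : Mono (opcyclesMap ((tS K).map f) (q + 1)) by
      have : Mono (((𝔅).obj (cokernel (K.d q (q + 1)))).map f ≫ (e N).hom) := nat f ▸ inferInstance
      exact mono_of_mono _ (e N).hom
    haveI := h f hf
    refine Preadditive.mono_of_cancel_zero _ fun {Z} x hx => ?_
    obtain ⟨_, _⟩ := preserves_obj_of_flat (hK (q + 1 + 1))
    haveI : Mono (((tS K).map f).f (q + 1 + 1)) := ((𝔅).obj (K.X (q + 1 + 1))).map_mono f
    have h0 : x ≫ ((tS K).obj M).fromOpcycles (q + 1) (q + 1 + 1) = 0 := by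
      rw [← cancel_mono (((tS K).map f).f (q + 1 + 1)), zero_comp, Category.assoc,
        ← cancel_epi (𝟙 Z)]
      have hn : opcyclesMap ((tS K).map f) (q + 1) ≫ ((tS K).obj N).fromOpcycles (q + 1) (q + 1 + 1) =
          ((tS K).obj M).fromOpcycles (q + 1) (q + 1 + 1) ≫ ((tS K).map f).f (q + 1 + 1) := by
        rw [← cancel_epi (((tS K).obj M).pOpcycles (q + 1)), p_opcyclesMap_assoc, p_fromOpcycles,
          p_fromOpcycles_assoc, Hom.comm]
      rw [← hn, reassoc_of% hx, zero_comp]
    obtain ⟨y, hy⟩ := KernelFork.IsLimit.lift'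
      (((tS K).obj M).homologyIsKernel (q + 1) (q + 1 + 1) (by simp)) x h0
    have hy' : y ≫ ((tS K).obj M).homologyι (q + 1) = x := hy
    have : y ≫ (tH K (q + 1)).map f ≫ ((tS K).obj N).homologyι (q + 1) = 0 := by
      change y ≫ homologyMap ((tS K).map f) (q + 1) ≫ _ = 0
      rw [homologyι_naturality, reassoc_of% hy', hx]
    rw [← Category.assoc] at this
    rw [← hy', zero_of_comp_mono _ (zero_of_comp_mono _ this), zero_comp]
  · intro h M N f hf
    obtain ⟨_, _⟩ := preserves_obj_of_flat h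
    haveI : Mono (((𝔅).obj (cokernel (K.d q (q + 1)))).map f ≫ (e N).hom) := mono_comp _ _
    haveI : Mono ((e M).hom ≫ opcyclesMap ((tS K).map f) (q + 1)) := nat f ▸ inferInstance
    haveI : Mono (opcyclesMap ((tS K).map f) (q + 1)) := by
      rw [← (e M).inv_hom_id_assoc (opcyclesMap ((tS K).map f) (q + 1))]
      infer_instance
    have : Mono (homologyMap ((tS K).map f) (q + 1) ≫ ((tS K).obj N).homologyι (q + 1)) := by
      rw [homologyι_naturality]; infer_instance
    exact @mono_of_mono _ _ _ _ _ _ _ this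

section LT

/-- `K ⊗ M` as a tensor product with `M[0]` -/
noncomputable def tSIso (K : CochainComplex (ModSite.Mod O) ℤ) :
    tS K ≅ HomologicalComplex.single (ModSite.Mod O) (ComplexShape.up ℤ) 0 ⋙ (ModSite.tensorCx O).flip.obj K :=
  NatIso.ofComponents (fun M => tensSingleIso 𝔅 K M ≪≫ swapIso (braid O) K _) fun {M N} f => by
    have h1 : (tS K).map f ≫ (tensSingleIso 𝔅 K N).hom = (tensSingleIso 𝔅 K M).hom ≫
        ((tens 𝔅).obj K).map ((HomologicalComplex.single (ModSite.Mod O) (ComplexShape.up ℤ) 0).map f) := by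
      ext n : 1
      rw [HomologicalComplex.comp_f, HomologicalComplex.comp_f]
      change ((𝔅).obj (K.X n)).map f ≫ (_ ≫ _) = (_ ≫ ιMapBifunctor K _ 𝔅 (ComplexShape.up ℤ) n 0 n (add_zero n)) ≫ _
      erw [Category.assoc, ι_mapBifunctorMap, ← Category.assoc, ← Category.assoc]
      rw [HomologicalComplex.id_f, CategoryTheory.Functor.map_id, NatTrans.id_app, Category.comp_id,
        ← Category.assoc _ (((𝔅).obj (K.X n)).map _), ← Functor.map_comp, ← Functor.map_comp, single_map_f_self]
      simp [singleObjXSelf]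
    simp only [Iso.trans_hom, reassoc_of% h1]
    exact (congrArg (_ ≫ ·) (RHomCx.swapIso_natural (braid O) (𝟙 K) _)).trans (Category.assoc _ _ _).symm

variable (E : CochainComplex (ModSite.Mod O) ℤ) [ModSite.HasLTensorCx E]

/-- **`Hᵍ(M ⊗^L E)` computed by a K-flat complex quasi-isomorphic to `E`** -/
theorem nonempty_ltIso (a : K ⟶ E) [QuasiIso a] (hK : RFlat (ModSite.tensorBi O) K) (q : ℤ) :
    Nonempty (DerivedCategory.singleFunctor (ModSite.Mod O) 0 ⋙ ModSite.LTensorCx E ⋙
      DerivedCategory.homologyFunctor (ModSite.Mod O) q ≅ tH K q) := by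
  let ρ := (Bousfield.leftResSite E).ρ
  let ψ := (Bousfield.leftResSite E).ψ
  let sg := HomologicalComplex.single (ModSite.Mod O) (ComplexShape.up ℤ) 0
  let T := (ModSite.tensorCx O)
  have hψ : ∀ M, QuasiIso (ψ.app (sg.obj M)) := fun M => (Bousfield.leftResSite E).weq _
  have hρ : ∀ M, RFlat (ModSite.tensorBi O) (ρ.obj (sg.obj M)) := fun M => (Bousfield.leftResSite E).mem _
  have c₁ : (sg ⋙ ρ) ⋙ DerivedCategory.Q ⋙ ModSite.LTensorCx E ≅ sg ⋙ DerivedCategory.Q ⋙ ModSite.LTensorCx E :=
    haveI := hψ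
    NatIso.ofComponents (fun M => (ModSite.LTensorCx E).mapIso (asIso (DerivedCategory.Q.map (ψ.app (sg.obj M)))))
      fun {M N} f => by
        change (ModSite.LTensorCx E).map _ ≫ (ModSite.LTensorCx E).map _ =
          (ModSite.LTensorCx E).map _ ≫ (ModSite.LTensorCx E).map _
        rw [← Functor.map_comp, ← Functor.map_comp]
        exact congrArg _ ((DerivedCategory.Q.map_comp _ _).symm.trans
          ((congrArg DerivedCategory.Q.map (ψ.naturality _)).trans (DerivedCategory.Q.map_comp _ _)))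
  have c₂ : (sg ⋙ ρ) ⋙ DerivedCategory.Q ⋙ ModSite.LTensorCx E ≅ (sg ⋙ ρ) ⋙ ModSite.tensorCxQ E :=
    NatIso.ofComponents (fun M => @asIso _ _ _ _ ((Bousfield.ltCounit E).app (ρ.obj (sg.obj M)))
      (Bousfield.isIso_ltCounit E (hρ M))) fun {M N} f => (Bousfield.ltCounit E).naturality _
  have c₃ : (sg ⋙ ρ) ⋙ T.flip.obj K ⋙ DerivedCategory.Q ≅ (sg ⋙ ρ) ⋙ ModSite.tensorCxQ E :=
    haveI : ∀ M, QuasiIso ((T.obj (ρ.obj (sg.obj M))).map a) := fun M =>
      KFlat.quasiIso_obj_map_of_acyclic (B := ModSite.tensorBi O) _ a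
        (KFlat.acyclic_of_iso (swapIso (braid O) _ _) (hρ M _ (KFlat.mappingCone_acyclic a)))
    NatIso.ofComponents (fun M => asIso (DerivedCategory.Q.map ((T.obj (ρ.obj (sg.obj M))).map a)))
      fun {M N} f => ((DerivedCategory.Q.map_comp _ _).symm.trans (congrArg DerivedCategory.Q.map
        ((T.flip.map a).naturality ((sg ⋙ ρ).map f)))).trans (DerivedCategory.Q.map_comp _ _)
  have c₄ : (sg ⋙ ρ) ⋙ T.flip.obj K ⋙ DerivedCategory.Q ≅ sg ⋙ T.flip.obj K ⋙ DerivedCategory.Q :=
    haveI : ∀ M, QuasiIso ((T.flip.obj K).map (ψ.app (sg.obj M))) := fun M =>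
      haveI := hψ M
      hK.quasiIso_map_app _
    NatIso.ofComponents (fun M => asIso (DerivedCategory.Q.map ((T.flip.obj K).map (ψ.app (sg.obj M)))))
      fun {M N} f => ((DerivedCategory.Q.map_comp _ _).symm.trans (congrArg DerivedCategory.Q.map
        (((T.flip.obj K).map_comp _ _).symm.trans ((congrArg (T.flip.obj K).map (ψ.naturality (sg.map f))).trans
          ((T.flip.obj K).map_comp _ _))))).trans (DerivedCategory.Q.map_comp _ _)
  exact ⟨Functor.isoWhiskerRight (DerivedCategory.singleFunctorIsoCompQ (ModSite.Mod O) 0)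
      (ModSite.LTensorCx E ⋙ DerivedCategory.homologyFunctor (ModSite.Mod O) q) ≪≫
    Functor.isoWhiskerRight (c₁.symm ≪≫ c₂ ≪≫ c₃.symm ≪≫ c₄ ≪≫
      Functor.isoWhiskerRight (tSIso K).symm DerivedCategory.Q)
      (DerivedCategory.homologyFunctor (ModSite.Mod O) q) ≪≫
    Functor.isoWhiskerLeft (tS K) (DerivedCategory.homologyFunctorFactors (ModSite.Mod O) q)⟩

/-- an object of `D⁻` has a bounded above flat K-flat representative mapping to it -/
theorem exists_flat_rep (E : CochainComplex (ModSite.Mod O) ℤ) (e : ℤ) [(DerivedCategory.Q.obj E).IsLE e] :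
    ∃ (K : CochainComplex (ModSite.Mod O) ℤ) (a : K ⟶ E), QuasiIso a ∧ RFlat (ModSite.tensorBi O) K ∧
      ∀ n, ModSite.IsFlat (K.X n) := by
  haveI : E.IsLE e := (DerivedCategory.isLE_Q_obj_iff E e).1 inferInstance
  obtain ⟨K, p, hK, hf, hp, -⟩ := KFlat.exists_resolution_le_site O (E.truncLE e) e fun n hn =>
    CochainComplex.isZero_of_isStrictlyLE _ e n hn
  exact ⟨K, p ≫ E.ιTruncLE e, inferInstance, hK, fun n => (KFlat.flatObj_iff O _).1 (hf n)⟩

end LT

end Groth.Agent.KSixLib.ExchSite
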