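import Groth.Agent.DQCoh.PerfCrit
import Groth.Agent.DerPerf.Local
import Mathlib.RingTheory.Spectrum.Prime.FreeLocus

/-!
# Openness of flatness for cokernels of maps of finite locally free modules
-/

set_option backward.isDefEq.respectTransparency false
set_option backward.isDefEq.respectTransparency.types false
set_option linter.style.haveILetI false
set_option autoImplicit false

universe u

open CategoryTheory Limits AlgebraicGeometry HomologicalComplex

attribute [local instance] HasDerivedCategory.standard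

namespace Groth.Agent.KSixLib

open Groth.Agent.DQCoh Groth.Agent.QC

variable {X U : Scheme.{u}}

/-- flatness of stalks along an open immersion -/
lemma flatAt_restrict_iff (j : U ⟶ X) [IsOpenImmersion j] (M : X.Modules) (v : U) :
    Module.Flat (U.presheaf.stalk v) (((Scheme.Modules.restrictFunctor j).obj M).presheaf.stalk v) ↔
      Module.Flat (X.presheaf.stalk (j.base v)) (M.presheaf.stalk (j.base v)) := by
  let T := (DerSch.stalkFunctor U v).obj ((Scheme.Modules.restrictFunctor j).obj M)
  let M₀ := (DerSch.stalkFunctor X (j.base v)).obj M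
  let φ := (j.stalkMap v).hom
  let e : T ≅ (ModuleCat.extendScalars.{u, u, u} φ).obj M₀ :=
    (DerSch.stalkFunctor U v).mapIso ((Scheme.Modules.restrictFunctorIsoPullback j).app M) ≪≫
      (KFlat.pullStalkIso j v).app M
  change Module.Flat _ T ↔ Module.Flat _ M₀
  constructor
  · intro h
    haveI : IsIso (j.stalkMap v) := inferInstance
    refine DerPerf.flat_of_extendScalars φ (inv (j.stalkMap v)).hom ?_ M₀
      (@Module.Flat.of_linearEquiv _ _ _ _ _ _ _ _ h e.toLinearEquiv.symm)
    rw [← CommRingCat.hom_comp, IsIso.hom_inv_id]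
    rfl
  · intro h
    letI := φ.toAlgebra
    haveI : Module.Flat (X.presheaf.stalk (j.base v)) M₀ := h
    have hb : Module.Flat (U.presheaf.stalk v) ((ModuleCat.extendScalars.{u, u, u} φ).obj M₀) :=
      Module.Flat.baseChange (X.presheaf.stalk (j.base v)) (U.presheaf.stalk v) M₀
    exact @Module.Flat.of_linearEquiv _ _ _ _ _ _ _ _ hb e.toLinearEquiv

/-- flatness of a finitely presented sheaf on an affine scheme spreads out -/
lemma exists_flat_nhd_tilde {R : CommRingCat.{u}} (N : ModuleCat.{u} R) [Module.FinitePresentation R N]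
    (x : Spec R)
    (h : Module.Flat ((Spec R).presheaf.stalk x)
      (((tilde.functor R).obj N).presheaf.stalk x)) :
    ∃ V : (Spec R).Opens, x ∈ V ∧ ∀ y ∈ V,
      Module.Flat ((Spec R).presheaf.stalk y)
        (((tilde.functor R).obj N).presheaf.stalk y) := by
  have hiff : ∀ y : Spec R, Module.Flat ((Spec R).presheaf.stalk y) ((tilde (R := R) N).presheaf.stalk y) ↔
      (y : PrimeSpectrum R) ∈ Module.freeLocus R N := fun y => by
    letI : Algebra R ((Spec R).presheaf.stalk y) := (TildeKFlat.toStalkRing (R := R) y).toAlgebra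
    haveI : IsScalarTower R ((Spec R).presheaf.stalk y) ((tilde (R := R) N).presheaf.stalk y) :=
      .of_algebraMap_smul fun _ _ => rfl
    haveI hl : IsLocalization.AtPrime ((Spec R).presheaf.stalk y) y.asIdeal :=
      inferInstanceAs (IsLocalization.AtPrime ((AlgebraicGeometry.structurePresheafInCommRingCat R).stalk y) y.asIdeal)
    haveI : IsLocalRing ((Spec R).presheaf.stalk y) := inferInstance
    haveI : Module.Finite ((Spec R).presheaf.stalk y) ((tilde (R := R) N).presheaf.stalk y) :=
      Module.Finite.of_isLocalizedModule y.asIdeal.primeCompl (tilde.toStalk (R := R) N y).hom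
    rw [Module.mem_freeLocus_of_isLocalization (y : PrimeSpectrum R) ((Spec R).presheaf.stalk y)
      ((tilde (R := R) N).presheaf.stalk y) (tilde.toStalk (R := R) N y).hom]
    exact ⟨fun _ => Module.free_of_flat_of_isLocalRing, fun _ => inferInstance⟩
  exact ⟨⟨_, Module.isOpen_freeLocus⟩, (hiff x).1 h, fun y hy => (hiff y).2 hy⟩

/-- **flatness of the cokernel is an open condition** -/
theorem exists_flat_nhd_cokernel {M N : X.Modules} (φ : M ⟶ N) (hM : FlatMod.IsFinLocFree M)
    (hN : FlatMod.IsFinLocFree N) (x : X)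
    (h : Module.Flat (X.presheaf.stalk x) ((cokernel φ).presheaf.stalk x)) :
    ∃ V : X.Opens, x ∈ V ∧ FlatMod.IsFlat ((Scheme.Modules.restrictFunctor V.ι).obj (cokernel φ)) := by
  obtain ⟨W, hW, hx⟩ := exists_affine_mem x
  let j := hW.fromSpec
  obtain ⟨v, rfl⟩ : x ∈ Set.range hW.fromSpec.base := hW.range_fromSpec.symm ▸ hx
  let R := Scheme.Modules.restrictFunctor j
  let A := Γ(X, W)
  let M' : (Spec (CommRingCat.of A)).Modules := R.obj M
  let N' : (Spec (CommRingCat.of A)).Modules := R.obj N
  have hM' : FlatMod.IsFinLocFree M' := isFinLocFree_restrict _ hM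
  have hN' : FlatMod.IsFinLocFree N' := isFinLocFree_restrict _ hN
  haveI : M'.IsQuasicoherent := isQCoh_of_isFinLocFree hM'
  haveI : N'.IsQuasicoherent := isQCoh_of_isFinLocFree hN'
  let Γf := moduleSpecΓFunctor (R := CommRingCat.of A)
  let ν := Scheme.Modules.fromTildeΓNatTrans (R := CommRingCat.of A)
  haveI : IsIso (ν.app M') := Scheme.Modules.isIso_fromTildeΓ_of_isQuasicoherent (R := CommRingCat.of A) M'
  haveI : IsIso (ν.app N') := Scheme.Modules.isIso_fromTildeΓ_of_isQuasicoherent (R := CommRingCat.of A) N'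
  obtain ⟨hM1, hM2⟩ := finiteProjective_gamma M' hM'
  obtain ⟨hN1, hN2⟩ := finiteProjective_gamma N' hN'
  let ψ := Γf.map (R.map φ)
  let e : (tilde.functor (CommRingCat.of A)).obj (ModuleCat.cokernelCocone ψ).pt ≅ R.obj (cokernel φ) :=
    (CokernelCofork.mapIsColimit _ (ModuleCat.cokernelIsColimit ψ) (tilde.functor _)).coconePointUniqueUpToIso
      (cokernelIsCokernel ((tilde.functor _).map ψ)) ≪≫
    cokernel.mapIso _ _ (asIso (ν.app M')) (asIso (ν.app N')) (ν.naturality (R.map φ)) ≪≫
    (PreservesCokernel.iso R φ).symm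
  let N₀ : ModuleCat.{u} A := ModuleCat.of A ((Γf.obj N' : Type u) ⧸ LinearMap.range ψ.hom)
  haveI : Module.FinitePresentation A (Γf.obj N') := Module.finitePresentation_of_projective _ _
  haveI : Module.FinitePresentation A N₀ :=
    Module.finitePresentation_of_surjective (LinearMap.range ψ.hom).mkQ (Submodule.mkQ_surjective _)
      (by rw [Submodule.ker_mkQ]; exact LinearMap.range_eq_map ψ.hom ▸ (Module.finite_def.1 hM1).map ψ.hom)
  have hst : ∀ w : Spec (CommRingCat.of A),
      Module.Flat _ (((tilde.functor (CommRingCat.of A)).obj N₀).presheaf.stalk w) ↔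
        Module.Flat (X.presheaf.stalk (j.base w)) ((cokernel φ).presheaf.stalk (j.base w)) := fun w => by
    rw [← flatAt_restrict_iff j (cokernel φ) w]
    let el := ((DerSch.stalkFunctor _ w).mapIso e).toLinearEquiv
    exact ⟨fun h => @Module.Flat.of_linearEquiv _ _ _ _ _ _ _ _ h el.symm,
      fun h => @Module.Flat.of_linearEquiv _ _ _ _ _ _ _ _ h el⟩
  obtain ⟨V₀, hvV, hV₀⟩ := exists_flat_nhd_tilde (R := CommRingCat.of A) N₀ v ((hst v).2 h)
  refine ⟨j ''ᵁ V₀, ⟨v, hvV, rfl⟩, fun y => ?_⟩
  obtain ⟨w, hw, hwy⟩ := y.2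
  refine (flatAt_restrict_iff (j ''ᵁ V₀).ι (cokernel φ) y).2 ?_
  have hy : j.base w = (j ''ᵁ V₀).ι.base y := hwy
  rw [← hy]
  exact (hst w).1 (hV₀ w hw)

end Groth.Agent.KSixLib
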