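import Groth.Agent.KSixLib.Exch
import Groth.Agent.KSixLib.Open

/-!
# Flat cokernels of complexes agreeing in high degrees
-/

set_option backward.isDefEq.respectTransparency false
set_option backward.isDefEq.respectTransparency.types false
set_option linter.style.haveILetI false
set_option autoImplicit false

universe u

open CategoryTheory Limits AlgebraicGeometry HomologicalComplex MonoidalCategory

attribute [local instance] HasDerivedCategory.standard

namespace Groth.Agent.KSixLib.Exch

open Groth.Agent.KFlat (resF resψ stCx)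

variable {X U : Scheme.{u}}

/-- the cokernel of the differential into degree `q` is flat at `x` -/
def FlatC (K : CochainComplex X.Modules ℤ) (q : ℤ) (x : X) : Prop :=
  Module.Flat (X.presheaf.stalk x) ((cokernel (K.d (q - 1) q)).presheaf.stalk x)

lemma flatC_iff_cok (K : CochainComplex X.Modules ℤ) (q : ℤ) (x : X) :
    FlatC K q x ↔ Module.Flat (X.presheaf.stalk x) (cok ((stCx x).obj K) q) := by
  let st := DerSch.stalkFunctor X x
  let e : st.obj (cokernel (K.d (q - 1) q)) ≅ (ModuleCat.cokernelCocone (st.map (K.d (q - 1) q))).pt :=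
    PreservesCokernel.iso st _ ≪≫ (cokernelIsCokernel _).coconePointUniqueUpToIso (ModuleCat.cokernelIsColimit _)
  change Module.Flat _ (st.obj (cokernel (K.d (q - 1) q))) ↔
    Module.Flat _ (ModuleCat.cokernelCocone (st.map (K.d (q - 1) q))).pt
  exact ⟨fun h => @Module.Flat.of_linearEquiv _ _ _ _ _ _ _ _ h e.symm.toLinearEquiv,
    fun h => @Module.Flat.of_linearEquiv _ _ _ _ _ _ _ _ h e.toLinearEquiv⟩

lemma flatC_restrict (j : U ⟶ X) [IsOpenImmersion j] (K : CochainComplex X.Modules ℤ) (q : ℤ) (v : U) :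
    FlatC (((Scheme.Modules.restrictFunctor j).mapHomologicalComplex (ComplexShape.up ℤ)).obj K) q v ↔
      FlatC K q (j.base v) := by
  refine Iff.trans ?_ (flatAt_restrict_iff j (cokernel (K.d (q - 1) q)) v)
  let e := (DerSch.stalkFunctor U v).mapIso (PreservesCokernel.iso (Scheme.Modules.restrictFunctor j) (K.d (q - 1) q))
  exact ⟨fun h => @Module.Flat.of_linearEquiv _ _ _ _ _ _ _ _ h e.toLinearEquiv,
    fun h => @Module.Flat.of_linearEquiv _ _ _ _ _ _ _ _ h e.symm.toLinearEquiv⟩

lemma flatC_pullback (j : U ⟶ X) [IsOpenImmersion j] (K : CochainComplex X.Modules ℤ) (q : ℤ) (v : U) :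
    FlatC (((Scheme.Modules.pullback j).mapHomologicalComplex (ComplexShape.up ℤ)).obj K) q v ↔
      FlatC K q (j.base v) := by
  refine Iff.trans ?_ (flatC_restrict j K q v)
  let N := (Scheme.Modules.restrictFunctorIsoPullback j).symm
  let e := (DerSch.stalkFunctor U v).mapIso (cokernel.mapIso
    ((((Scheme.Modules.pullback j).mapHomologicalComplex (ComplexShape.up ℤ)).obj K).d (q - 1) q)
    ((((Scheme.Modules.restrictFunctor j).mapHomologicalComplex (ComplexShape.up ℤ)).obj K).d (q - 1) q)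
    (N.app _) (N.app _) (N.hom.naturality (K.d (q - 1) q)))
  exact ⟨fun h => @Module.Flat.of_linearEquiv _ _ _ _ _ _ _ _ h e.symm.toLinearEquiv,
    fun h => @Module.Flat.of_linearEquiv _ _ _ _ _ _ _ _ h e.toLinearEquiv⟩

/-- flatness of cokernels is invariant under isomorphisms in high degrees -/
theorem flatC_iff_of_mIso {K K' : CochainComplex X.Modules ℤ} (hK : DCoh.IsKFlat K)
    (hKf : ∀ n, FlatMod.IsFlat (K.X n)) (hK' : DCoh.IsKFlat K') (hK'f : ∀ n, FlatMod.IsFlat (K'.X n))
    (m : ℤ) (α : DerivedCategory.Q.obj K ⟶ DerivedCategory.Q.obj K') (hα : DerPerf.MIso m α)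
    (q : ℤ) (hq : m < q) (x : X) : FlatC K q x ↔ FlatC K' q x := by
  obtain ⟨E₁, s, hs, a, ha⟩ := DerivedCategory.right_fac α
  let E₂ := (resF X).obj E₁
  let t : E₂ ⟶ E₁ := (resψ X).app E₁
  have hE₂ : DCoh.IsKFlat E₂ := KFlat.isKFlat_resF E₁
  have hE₂f : ∀ n, FlatMod.IsFlat (E₂.X n) :=
    ((KFlat.exists_functorial_resolution X).choose_spec.choose_spec E₁).2.1
  have hts : IsIso (DerivedCategory.Q.map (t ≫ s)) := by rw [Functor.map_comp]; infer_instance
  have hts' : QuasiIso (t ≫ s) := (DerivedCategory.isIso_Q_map_iff_quasiIso _ (t ≫ s)).1 hts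
  have ha' : DerivedCategory.Q.map (t ≫ a) = DerivedCategory.Q.map (t ≫ s) ≫ α := by
    rw [ha, Functor.map_comp, Functor.map_comp, Category.assoc, IsIso.hom_inv_id_assoc]
  have h₁ : DerPerf.MIso m (DerivedCategory.Q.map (t ≫ a)) := by
    rw [ha']
    simpa using DerPerf.mIso_iso_comp m (@asIso _ _ _ _ _ hts) α (Iso.refl _) hα
  have hst : ∀ {B C : CochainComplex X.Modules ℤ} (f : B ⟶ C) (i : ℤ),
      IsZero ((CochainComplex.mappingCone f).homology i) →
        IsZero ((CochainComplex.mappingCone ((stCx x).map f)).homology i) := fun f i h =>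
    (((DerSch.stalkFunctor X x).map_isZero h).of_iso
      (((CochainComplex.mappingCone f).sc i).mapHomologyIso (DerSch.stalkFunctor X x))).of_iso
      ((HomologicalComplex.homologyFunctor _ _ i).mapIso
        (CochainComplex.mappingCone.mapHomologicalComplexIso f (DerSch.stalkFunctor X x))).symm
  have fl : ∀ {B : CochainComplex X.Modules ℤ}, (∀ n, FlatMod.IsFlat (B.X n)) →
      DRing.TermwiseFlat ((stCx x).obj B) := fun h n => h n x
  have kf : ∀ {B : CochainComplex X.Modules ℤ}, DCoh.IsKFlat B → DRingKP.IsKFlat ((stCx x).obj B) := fun h =>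
    (KFlat.isKFlat_iff_stalks _).1 h x
  rw [flatC_iff_cok, flatC_iff_cok,
    ← flat_cok_iff ((stCx x).map (t ≫ s)) (kf hE₂) (fl hE₂f) (kf hK) (fl hKf) m
      (fun i _ => hst _ i ((exactAt_iff_isZero_homology _ _).1 (KFlat.mappingCone_acyclic (t ≫ s) i))) q hq,
    ← flat_cok_iff ((stCx x).map (t ≫ a)) (kf hE₂) (fl hE₂f) (kf hK') (fl hK'f) m
      (fun i hi => hst _ i ((DerPerf.mIso_Q_map_iff m _).1 h₁ i hi)) q hq]

lemma flat_resF (F : CochainComplex X.Modules ℤ) (n : ℤ) : FlatMod.IsFlat (((resF X).obj F).X n) :=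
  ((KFlat.exists_functorial_resolution X).choose_spec.choose_spec F).2.1 n

/-- the exchange criterion for `M ↦ Hᵍ(M ⊗^L F)`, left exactness -/
theorem leftExact_iff (F : CochainComplex X.Modules ℤ) [DCoh.HasLTensorCx F] (q : ℤ) :
    PreservesFiniteLimits (DerivedCategory.singleFunctor X.Modules 0 ⋙ DCoh.LTensorCx F ⋙
        DerivedCategory.homologyFunctor X.Modules q) ↔ ∀ x : X, FlatC ((resF X).obj F) q x := by
  simp only [flatC_iff_cok]
  rw [← preservesFiniteLimits_tenHS_iff (flat_resF F) q]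
  exact ⟨fun _ => preservesFiniteLimits_of_natIso (ltTenHSIso F q),
    fun _ => preservesFiniteLimits_of_natIso (ltTenHSIso F q).symm⟩

/-- the exchange criterion for `M ↦ Hᵍ(M ⊗^L F)`, right exactness -/
theorem rightExact_iff (F : CochainComplex X.Modules ℤ) [DCoh.HasLTensorCx F] (q : ℤ) :
    PreservesFiniteColimits (DerivedCategory.singleFunctor X.Modules 0 ⋙ DCoh.LTensorCx F ⋙
        DerivedCategory.homologyFunctor X.Modules q) ↔ ∀ x : X, FlatC ((resF X).obj F) (q + 1) x := by
  simp only [flatC_iff_cok]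
  rw [← preservesFiniteColimits_tenHS_iff (flat_resF F) q]
  exact ⟨fun _ => preservesFiniteColimits_of_natIso (ltTenHSIso F q),
    fun _ => preservesFiniteColimits_of_natIso (ltTenHSIso F q).symm⟩

end Groth.Agent.KSixLib.Exch
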