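import Groth.Agent.KSixLib.JacMain
import Groth.Agent.FibCrit.Stalk
import Groth.Agent.DQCoh.RelPerf

/-!
# Relative perfection from boundedness on the fibres
-/

set_option backward.isDefEq.respectTransparency false
set_option backward.isDefEq.respectTransparency.types false
set_option linter.style.haveILetI false
set_option autoImplicit false
set_option maxHeartbeats 1000000

universe u

open CategoryTheory Limits AlgebraicGeometry HomologicalComplex TopologicalSpace Opposite
open scoped TensorProduct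

attribute [local instance] HasDerivedCategory.standard

namespace Groth.Agent.KSixLib

open Groth.Agent.DQCoh
open Groth.Agent.ProjForm (qC)

section Ring

/-- **exactness and flat cokernels from exactness on the fibre, for a complex of free modules** -/
theorem exact_flat_at_prime {R S B : Type u} [CommRing R] [CommRing S] [CommRing B] [Algebra R S]
    [Algebra.FinitePresentation R S] (q : Ideal S) [q.IsPrime] [Algebra S B] [IsLocalization.AtPrime B q]
    [Algebra R B] [IsScalarTower R S B] [Module.Flat R B]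
    (M : ℕ → Type u) [∀ k, AddCommGroup (M k)] [∀ k, Module B (M k)] [∀ k, Module.Free B (M k)]
    [∀ k, Module.Finite B (M k)] [∀ k, Module R (M k)] [∀ k, IsScalarTower R B (M k)]
    (d : ∀ k, M (k + 1) →ₗ[B] M k) (hdd : ∀ k x, d k (d (k + 1) x) = 0) (N : ℕ) (hN : 0 < N)
    (hz : ∀ k < N, ∀ x : M (k + 1),
      d k x ∈ ((q.comap (algebraMap R S)).map (algebraMap R B)) • (⊤ : Submodule B (M k)) →
      ∃ w : M (k + 2),
        x - d (k + 1) w ∈ ((q.comap (algebraMap R S)).map (algebraMap R B)) • (⊤ : Submodule B (M (k + 1)))) :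
    (∀ k < N, ∀ x, d k x = 0 → ∃ w, d (k + 1) w = x) ∧ Module.Flat R (M 0 ⧸ LinearMap.range (d 0)) := by
  have step : ∀ k < N, (∀ x, d k x = 0 → ∃ w, d (k + 1) w = x) ∧ Module.Flat R (M k ⧸ LinearMap.range (d k)) := by
    intro k hk
    let u : (M (k + 1) ⧸ LinearMap.range (d (k + 1))) →ₗ[B] M k :=
      (LinearMap.range (d (k + 1))).liftQ (d k) (by rintro _ ⟨w, rfl⟩; exact hdd k w)
    haveI : Module.Flat R (M k) := Module.Flat.trans R B (M k)
    haveI : Module.FinitePresentation B (M (k + 1)) := Module.finitePresentation_of_projective B (M (k + 1))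
    haveI : Module.FinitePresentation B (M (k + 1) ⧸ LinearMap.range (d (k + 1))) :=
      Module.finitePresentation_of_surjective _ (Submodule.mkQ_surjective _)
        (by rw [Submodule.ker_mkQ]; exact LinearMap.range_eq_map (d (k + 1)) ▸ (Module.Finite.fg_top.map _))
    haveI : Module.FinitePresentation B (M k) := Module.finitePresentation_of_projective B (M k)
    obtain ⟨h1, h2⟩ := InjFibre.atPrime (R := R) (S := S) q u (fun x hx => by
      obtain ⟨x, rfl⟩ := Submodule.Quotient.mk_surjective _ x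
      obtain ⟨w, hw⟩ := hz k hk x hx
      have h3 := Submodule.mem_map_of_mem (f := (LinearMap.range (d (k + 1))).mkQ) hw
      rw [Submodule.map_smul''] at h3
      have h4 := Submodule.smul_mono (le_refl ((q.comap (algebraMap R S)).map (algebraMap R B))) le_top h3
      convert h4 using 1
      show Submodule.Quotient.mk x = Submodule.Quotient.mk (x - d (k + 1) w)
      rw [Submodule.Quotient.mk_sub, (Submodule.Quotient.mk_eq_zero _).2 (LinearMap.mem_range_self _ w), sub_zero])
    refine ⟨fun x hx => ?_, ?_⟩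
    · have h4 : (Submodule.Quotient.mk x : M (k + 1) ⧸ LinearMap.range (d (k + 1))) = 0 :=
        h1 (by rw [map_zero]; exact hx)
      exact LinearMap.mem_range.1 ((Submodule.Quotient.mk_eq_zero _).1 h4)
    · exact Module.Flat.of_linearEquiv
        ((Submodule.quotEquivOfEq _ _ (show LinearMap.range u = LinearMap.range (d k) from
          Submodule.range_liftQ _ _ _).symm).restrictScalars R)
  exact ⟨fun k hk => (step k hk).1, (step 0 hN).2⟩

end Ring

variable {X S : Scheme.{u}} (g : X ⟶ S)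

/-- **exactness and relative flatness at a point from exactness on the fibre** -/
theorem exact_flat_fibre [Flat g] [LocallyOfFinitePresentation g] {E : CochainComplex X.Modules ℤ}
    (hl : ∀ i, FlatMod.IsFinLocFree (E.X i)) {n a : ℤ} (hn : n + 1 < a) (s : S) (y : (g.fiber s : Scheme.{u}))
    (hz : ∀ j, n < j → j < a →
      IsZero ((DerSch.stalkFunctor (g.fiber s) y).obj (((qC (g.fiberι s)).obj E).homology j))) :
    (∀ j, n < j → j < a → IsZero ((DerSch.stalkFunctor X ((g.fiberι s).base y)).obj (E.homology j))) ∧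
      FlatMod.IsFlatOverAt g (cokernel (E.d (a - 1) a)) ((g.fiberι s).base y) := by
  let x := (g.fiberι s).base y
  obtain ⟨V, hV, hxV⟩ := QC.exists_affine_mem (g.base x)
  obtain ⟨_, ⟨U, hU, rfl⟩, hxU, hUV⟩ :=
    X.isBasis_affineOpens.exists_subset_of_mem_open (show x ∈ g ⁻¹ᵁ V from hxV) (g ⁻¹ᵁ V).isOpen
  replace hU : IsAffineOpen U := hU
  replace hUV : U ≤ g ⁻¹ᵁ V := hUV
  replace hxU : x ∈ U := hxU
  let R := Γ(S, V)
  let B := X.presheaf.stalk x
  let A := S.presheaf.stalk (g.base x)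
  letI : Algebra R Γ(X, U) := (g.appLE V U hUV).hom.toAlgebra
  haveI : Algebra.FinitePresentation R Γ(X, U) := g.finitePresentation_appLE hV hU hUV
  haveI : Module.Flat R Γ(X, U) :=
    RingHom.flat_algebraMap_iff.1 (HasRingHomProperty.appLE (P := @Flat) g inferInstance ⟨V, hV⟩ ⟨U, hU⟩ hUV)
  let q := (hU.primeIdealOf ⟨x, hxU⟩).asIdeal
  letI := TopCat.Presheaf.algebra_section_stalk X.presheaf (⟨x, hxU⟩ : U)
  haveI : IsLocalization.AtPrime B q := hU.isLocalization_stalk ⟨x, hxU⟩
  letI : Algebra R B := ((algebraMap Γ(X, U) B).comp (algebraMap R Γ(X, U))).toAlgebra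
  haveI : IsScalarTower R Γ(X, U) B := IsScalarTower.of_algebraMap_eq fun _ => rfl
  haveI : Module.Flat R B :=
    haveI : Module.Flat Γ(X, U) B := IsLocalization.flat _ q.primeCompl
    Module.Flat.trans R Γ(X, U) B
  letI := TopCat.Presheaf.algebra_section_stalk S.presheaf (⟨g.base x, hxV⟩ : V)
  let p := (hV.primeIdealOf ⟨g.base x, hxV⟩).asIdeal
  haveI : IsLocalization.AtPrime A p := hV.isLocalization_stalk ⟨g.base x, hxV⟩
  have hpq : q.comap (algebraMap R Γ(X, U)) = p :=
    congrArg PrimeSpectrum.asIdeal (IsAffineOpen.comap_primeIdealOf_appLE (f := g) V hV U hU hUV hxU)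
  have hgerm : ∀ r : R, (g.stalkMap x).hom (algebraMap R A r) = algebraMap R B r := fun r => by
    show (S.presheaf.germ V (g.base x) hxV ≫ g.stalkMap x).hom r = (g.appLE V U hUV ≫ X.presheaf.germ U x hxU).hom r
    rw [Scheme.Hom.germ_stalkMap, Scheme.Hom.appLE, Category.assoc, X.presheaf.germ_res]
  let θ := ((g.fiberι s).stalkMap y).hom
  obtain ⟨hθ, hker⟩ := FibCrit.fiberι_stalkMap g s y
  have hm : IsLocalRing.maximalIdeal A = p.map (algebraMap R A) := by
    rw [← IsLocalization.AtPrime.under_maximalIdeal A p]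
    exact (IsLocalization.map_comap p.primeCompl A _).symm
  have hker' : RingHom.ker θ = (q.comap (algebraMap R Γ(X, U))).map (algebraMap R B) := by
    rw [hpq]
    refine hker.trans ?_
    show Ideal.map (g.stalkMap x).hom (IsLocalRing.maximalIdeal A) = _
    rw [hm, Ideal.map_map]
    exact congrArg (fun t => p.map t) (RingHom.ext hgerm)
  let P := (KFlat.stCx x).obj E
  have hP : ∀ i, Module.Finite B (P.X i) ∧ Module.Free B (P.X i) := fun i => finiteFree_stalk (hl i) x
  letI hmR : ∀ M : ModuleCat.{u} B, Module R M := fun M => Module.compHom M (algebraMap R B)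
  haveI htR : ∀ M : ModuleCat.{u} B, IsScalarTower R B M := fun M => IsScalarTower.of_compHom R B M
  let M : ℕ → ModuleCat.{u} B := fun m => P.X (a - m)
  haveI : ∀ m, Module.Finite B (M m) := fun m => (hP _).1
  haveI : ∀ m, Module.Free B (M m) := fun m => (hP _).2
  let d : ∀ m : ℕ, M (m + 1) →ₗ[B] M m := fun m => (P.d (a - ((m + 1 : ℕ) : ℤ)) (a - m)).hom
  have hmod : ∀ m < (a - n - 1).toNat, ∀ v : M (m + 1),
      d m v ∈ ((q.comap (algebraMap R Γ(X, U))).map (algebraMap R B)) • (⊤ : Submodule B (M m)) →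
      ∃ w : M (m + 2), v - d (m + 1) w ∈
        ((q.comap (algebraMap R Γ(X, U))).map (algebraMap R B)) • (⊤ : Submodule B (M (m + 1))) := by
    intro m hm v hv
    obtain ⟨hz1, hz2⟩ := tmul_one_facts θ hθ (M m)
    obtain ⟨hz3, hz4⟩ := tmul_one_facts θ hθ (M (m + 1))
    obtain ⟨-, hz5⟩ := tmul_one_facts θ hθ (M (m + 2))
    let e₁ : ((DerSch.stalkFunctor _ y).mapHomologicalComplex (ComplexShape.up ℤ)).obj ((qC (g.fiberι s)).obj E) ≅
        (DRingKP.bc θ).obj P :=
      HomologicalComplex.Hom.isoOfComponents (fun i => ((KFlat.pullStalkIso (g.fiberι s) y).app (E.X i)))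
        (fun p p' _ => ((KFlat.pullStalkIso (g.fiberι s) y).hom.naturality (E.d p p')).symm)
    have hzero : IsZero (((DRingKP.bc θ).obj P).homology (a - ((m + 1 : ℕ) : ℤ))) :=
      IsZero.of_iso (hz _ (by lia) (by lia))
        ((HomologicalComplex.homologyFunctor _ _ _).mapIso e₁.symm ≪≫
          (((qC (g.fiberι s)).obj E).sc _).mapHomologyIso (DerSch.stalkFunctor _ y))
    have hex := (exactAt_iff_isZero_homology _ _).2 hzero
    rw [HomologicalComplex.exactAt_iff' _ (a - ((m + 1 + 1 : ℕ) : ℤ)) _ (a - (m : ℤ)) (by simp; lia) (by simp; lia),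
      ShortComplex.moduleCat_exact_iff] at hex
    letI : Algebra B ((g.fiber s : Scheme.{u}).presheaf.stalk y) := θ.toAlgebra
    rw [← hker'] at hv ⊢
    obtain ⟨w', hw'⟩ := hex ((1 : (g.fiber s : Scheme.{u}).presheaf.stalk y) ⊗ₜ[B] v)
      ((ModuleCat.ExtendScalars.map_tmul θ (P.d _ _) 1 v).trans ((hz1 _).2 hv))
    obtain ⟨w, rfl⟩ := hz5 w'
    refine ⟨w, (hz3 _).1 ?_⟩
    rw [TensorProduct.tmul_sub, sub_eq_zero]
    exact hw'.symm.trans (ModuleCat.ExtendScalars.map_tmul θ (P.d _ _) 1 w)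
  obtain ⟨h1, h2⟩ := exact_flat_at_prime (S := Γ(X, U)) q (fun m => (M m : Type u)) d
    (fun m v => LinearMap.congr_fun (congrArg ModuleCat.Hom.hom (P.d_comp_d _ _ _)) v)
    (a - n - 1).toNat (by lia) hmod
  refine ⟨fun j hj hja => ?_, ?_⟩
  · obtain ⟨m, rfl⟩ : ∃ m : ℕ, j = a - ((m + 1 : ℕ) : ℤ) := ⟨(a - j - 1).toNat, by lia⟩
    refine IsZero.of_iso ?_ ((E.sc _).mapHomologyIso (DerSch.stalkFunctor X x)).symm
    refine ((exactAt_iff_isZero_homology P _).1 ?_)
    rw [HomologicalComplex.exactAt_iff' P (a - ((m + 1 + 1 : ℕ) : ℤ)) _ (a - (m : ℤ))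
      (by simp; lia) (by simp; lia), ShortComplex.moduleCat_exact_iff]
    exact fun v hv => h1 m (by lia) v hv
  · rw [isFlatOverAt_iff]
    let N := (stA g x).obj (cokernel (E.d (a - 1) a))
    letI : Module R N := Module.compHom N (algebraMap R A)
    haveI : IsScalarTower R A N := IsScalarTower.of_compHom _ _ N
    refine (Module.flat_iff_of_isLocalization A p.primeCompl (M := N)).2 ?_
    have h3 : ∀ i i', i = a - 1 → i' = a → Module.Flat R (P.X i' ⧸ LinearMap.range (P.d i i').hom) →
        Module.Flat R N := by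
      rintro i i' rfl rfl h
      let e := ((PreservesCokernel.iso (DerSch.stalkFunctor X x) (E.d (i' - 1) i') ≪≫
        ModuleCat.cokernelIsoRangeQuotient _).toLinearEquiv).restrictScalars R
      refine @Module.Flat.of_linearEquiv _ _ _ _ _ _ _ _ h (LinearEquiv.trans
        (?_ : N ≃ₗ[R] ((DerSch.stalkFunctor X x).obj (cokernel (E.d (i' - 1) i')))) e)
      exact
        { toFun := fun v => v
          invFun := fun v => v
          map_add' := fun _ _ => rfl
          map_smul' := fun r v => congrArg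
            (fun c : B => c • (show ↥((DerSch.stalkFunctor X x).obj (cokernel (E.d (i' - 1) i'))) from v)) (hgerm r)
          left_inv := fun _ => rfl
          right_inv := fun _ => rfl }
    exact h3 _ _ (by simp) (by simp) h2

/-- the fibre of the restriction to an open, and derived pullbacks to it -/
theorem exists_fibre_restrict (f : X ⟶ S) (O : X.Opens) (s : S) [DCoh.HasLpull (f.fiberι s)] :
    ∃ l : (O.ι ≫ f).fiber s ⟶ f.fiber s, l ≫ f.fiberι s = (O.ι ≫ f).fiberι s ≫ O.ι ∧
      ∀ [DCoh.HasLpull ((O.ι ≫ f).fiberι s)] (K : DCoh.D X) (j : ℤ) (z : ((O.ι ≫ f).fiber s : Scheme.{u})),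
        z ∈ CohB1.support (DCoh.HD ((DCoh.Lpull ((O.ι ≫ f).fiberι s)).obj ((RD O.ι).obj K)) j) ↔
          l.base z ∈ CohB1.support (DCoh.HD ((DCoh.Lpull (f.fiberι s)).obj K) j) := by
  let g := O.ι ≫ f
  let l : g.fiber s ⟶ f.fiber s := pullback.lift (g.fiberι s ≫ O.ι) (g.fiberToSpecResidueField s)
    (by rw [Category.assoc]; exact pullback.condition)
  have hl₁ : l ≫ f.fiberι s = g.fiberι s ≫ O.ι := pullback.lift_fst _ _ _
  haveI : IsOpenImmersion l := MorphismProperty.of_isPullback (P := @IsOpenImmersion)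
    (IsPullback.of_bot
      (show IsPullback (g.fiberι s) (l ≫ f.fiberToSpecResidueField s) (O.ι ≫ f) (S.fromSpecResidueField s) from
        (show l ≫ f.fiberToSpecResidueField s = g.fiberToSpecResidueField s from pullback.lift_snd _ _ _) ▸
          IsPullback.of_hasPullback g (S.fromSpecResidueField s))
      hl₁.symm (IsPullback.of_hasPullback f (S.fromSpecResidueField s))) inferInstance
  refine ⟨l, hl₁, fun K j z => ?_⟩
  haveI := KFlat.hasLpull (l ≫ f.fiberι s)
  haveI := KFlat.hasLpull l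
  obtain ⟨e1⟩ := nonempty_lpull_rd O (g.fiberι s) (l ≫ f.fiberι s) hl₁.symm K
  obtain ⟨e2⟩ := KFlat.Lpull_comp_sch l (f.fiberι s)
  obtain ⟨G, hG, -, ⟨eG⟩⟩ := KFlat.exists_isKFlat_rep ((DCoh.Lpull (f.fiberι s)).obj K)
  let e3 : (DCoh.Lpull (g.fiberι s)).obj ((RD O.ι).obj K) ≅ (RD l).obj ((DCoh.Lpull (f.fiberι s)).obj K) :=
    e1 ≪≫ (e2.app K).symm ≪≫ (DCoh.Lpull l).mapIso eG.symm ≪≫ ProjForm.lpullIso l hG ≪≫
      DerivedCategory.Q.mapIso (rCIsoQC l G).symm ≪≫ (rdIso l G).symm ≪≫ (RD l).mapIso eG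
  rw [PerfGen.support_eq_of_iso ((DerivedCategory.homologyFunctor _ j).mapIso e3), PerfGen.support_HD_RD]
  rfl

/-- relative amplitude from boundedness on the fibre through the point -/
theorem exists_relAmp_of_fibre_bdd (f : X ⟶ S) [Flat f] [LocallyOfFinitePresentation f]
    [∀ s : S, DCoh.HasLpull (f.fiberι s)] {K : DCoh.D X} (hp : ∀ m : ℤ, DCoh.IsPseudoCoherentD m K) {b : ℤ}
    (hK : IsAboveD (b + 1) K) {a : ℤ} (hab : a ≤ b) (hGE : K.IsGE a) (x : X)
    (hx : ∀ j, j < a → f.asFiber x ∉ CohB1.support (DCoh.HD ((DCoh.Lpull (f.fiberι (f.base x))).obj K) j)) :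
    RelAmpAt f a b K x := by
  obtain ⟨O, E, α, hxO, hE, hEb, hα⟩ := RelPCS.exists_approx_le (n := a - 2) (b := b) (by lia) hK (hp _) x
  obtain ⟨-, hl⟩ := id hE
  let g := O.ι ≫ f
  let x₁ : (O : Scheme.{u}) := ⟨x, hxO⟩
  let s := f.base x
  let z : (g.fiber s : Scheme.{u}) := g.asFiber x₁
  obtain ⟨l, hl₁, hsupp⟩ := exists_fibre_restrict f O s
  have hlz : l.base z = f.asFiber x := by
    refine (f.fiberι s).isEmbedding.injective ?_
    exact ((congrArg (fun t : g.fiber s ⟶ X => t.base z) hl₁).trans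
      (congrArg O.ι.base (g.fiberι_asFiber x₁))).trans (f.fiberι_asFiber x).symm
  haveI := KFlat.hasLpull (g.fiberι s)
  obtain ⟨β, hβ⟩ := exists_mIso_lpull (g.fiberι s) (DerPerf.isKFlat_of_isStrictlyPerfect hE) α hα
  have hz : ∀ j, a - 2 < j → j < a →
      IsZero ((DerSch.stalkFunctor (g.fiber s) z).obj (((qC (g.fiberι s)).obj E).homology j)) := by
    intro j hj hja
    haveI := hβ.1 j hj
    by_contra hne
    refine hx j hja ?_
    rw [← hlz]
    refine (hsupp K j z).1 ?_
    rw [PerfGen.mem_support_iff]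
    intro h0
    exact hne (h0.of_iso ((DerSch.stalkFunctor (g.fiber s) z).mapIso ((KFlat.hdIso _ j).symm ≪≫
      asIso ((DerivedCategory.homologyFunctor _ j).map β))))
  obtain ⟨-, h2⟩ := exact_flat_fibre g hl (by lia) s z hz
  rw [show (g.fiberι s).base z = x₁ from g.fiberι_asFiber x₁] at h2
  have hM : ((RD O.ι).obj K).IsGE a := (DerivedCategory.isGE_iff _ _).2 fun j hj =>
    ((Scheme.Modules.restrictFunctor O.ι).map_isZero ((DerivedCategory.isGE_iff K a).1 hGE j hj)).of_iso
      (PerfGen.hdRD O.ι K j)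
  obtain ⟨eτ⟩ := nonempty_truncGE_iso E a hM α fun j hj => hα.1 j (by lia)
  obtain ⟨hτa, hτgt, ⟨eC⟩⟩ := truncGE_facts E a
  let τ := E.truncGE a
  obtain ⟨eY⟩ := nonempty_stA_restrict f O K x₁
  refine DRingKP.amp_of_iso (((stA g x₁).mapDerivedCategoryFactors.app τ).symm ≪≫
    (stA g x₁).mapDerivedCategory.mapIso eτ ≪≫ eY)
    ⟨((stA g x₁).mapHomologicalComplex (ComplexShape.up ℤ)).obj τ, fun j hj => ?_, fun j => ?_, ⟨Iso.refl _⟩⟩
  · refine (stA g x₁).map_isZero ?_
    rcases hj with hj | hj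
    · exact hτa j hj
    · obtain ⟨e⟩ := hτgt j (by lia)
      exact (hEb j hj).of_iso e
  · rcases lt_trichotomy j a with hj | rfl | hj
    · exact flatOver_of_isZero g (hτa j hj) x₁
    · exact @Module.Flat.of_linearEquiv _ _ _ _ _ _ _ _ ((isFlatOverAt_iff g _ x₁).1 h2)
        ((stA g x₁).mapIso eC).symm.toLinearEquiv
    · obtain ⟨e⟩ := hτgt j hj
      exact flatOver_of_flat g (DerPerf.isFlat_of_isFinLocFree (isFinLocFree_of_iso' e.symm (hl j))) x₁

end Groth.Agent.KSixLib
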