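import Groth.Agent.KSixLib.ThickPC
import Groth.Agent.KSixLib.FlatTwist
import Groth.Agent.DQCoh.BCStalk

/-!
# Tor amplitude along a cartesian thickening of the base
-/

set_option backward.isDefEq.respectTransparency false
set_option backward.isDefEq.respectTransparency.types false
set_option linter.style.haveILetI false
set_option autoImplicit false
set_option maxHeartbeats 1000000

universe u

open CategoryTheory Limits AlgebraicGeometry HomologicalComplex Opposite TopologicalSpace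
open scoped TensorProduct

attribute [local instance] HasDerivedCategory.standard

namespace Groth.Agent.KSixLib

open Groth.Agent.DQCoh
open Groth.Agent.ProjForm (qC)

section Ring

attribute [local instance] Algebra.TensorProduct.rightAlgebra

open DRingKP

/-- tor amplitude descends along a cartesian square of local rings with nilpotent kernel -/
theorem amp_thick {A' A B' B : Type u} [CommRing A'] [CommRing A] [CommRing B'] [CommRing B]
    [IsLocalRing B'] [IsLocalRing B] [Algebra A' A] [Algebra A' B'] [Algebra A' B] [Algebra B' B] [Algebra A B]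
    [IsScalarTower A' B' B] [IsScalarTower A' A B] [Module.Flat A' B']
    (hsurj : Function.Surjective (algebraMap A' A)) (hnil : IsNilpotent (RingHom.ker (algebraMap A' A)))
    (hθ : Function.Surjective (algebraMap B' B)) (hφ : (DQCoh.BCAlg.cmpHom A' B' A B).Flat)
    (T : DRing.Cx B') {c : ℤ} (hT : DRing.TermwiseFlat T) (hTc : DRing.VanishesAbove T c) {a b : ℤ}
    (h : DRing.HasTorAmplitudeIn A a b (DRing.toD ((resCx (algebraMap A B)).obj
      ((bc (algebraMap B' B)).obj T)))) :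
    DRing.HasTorAmplitudeIn A' a b (DRing.toD ((resCx (algebraMap A' B')).obj T)) := by
  let χ := DQCoh.BCAlg.cmpHom A' B' A B
  have hχl : ∀ s : B', χ (algebraMap B' (B' ⊗[A'] A) s) = algebraMap B' B s := fun s =>
    (DQCoh.BCAlg.cmpHom_tmul (R := A') (S := B') (R' := A) (C := B) s 1).trans (by rw [map_one, mul_one])
  have hχr : ∀ r : A, χ (algebraMap A (B' ⊗[A'] A) r) = algebraMap A B r := fun r =>
    (DQCoh.BCAlg.cmpHom_tmul (R := A') (S := B') (R' := A) (C := B) 1 r).trans (by rw [map_one, one_mul])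
  have hχs : Function.Surjective χ := fun y => by
    obtain ⟨s, rfl⟩ := hθ y
    exact ⟨_, hχl s⟩
  have hincl : Function.Surjective (algebraMap B' (B' ⊗[A'] A)) := by
    intro y
    induction y using TensorProduct.induction_on with
    | zero => exact ⟨0, map_zero _⟩
    | add y y' hy hy' =>
      obtain ⟨s, rfl⟩ := hy; obtain ⟨s', rfl⟩ := hy'
      exact ⟨s + s', map_add _ _ _⟩
    | tmul s r =>
      obtain ⟨r, rfl⟩ := hsurj r
      refine ⟨r • s, ?_⟩
      show (r • s) ⊗ₜ[A'] (1 : A) = s ⊗ₜ[A'] algebraMap A' A r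
      rw [Algebra.algebraMap_eq_smul_one, TensorProduct.smul_tmul]
  haveI : Nontrivial (B' ⊗[A'] A) := RingHom.domain_nontrivial χ
  haveI : IsLocalRing (B' ⊗[A'] A) := IsLocalRing.of_surjective' _ hincl
  have hχb : Function.Bijective χ := by
    refine ⟨?_, hχs⟩
    letI : Algebra (B' ⊗[A'] A) B := χ.toAlgebra
    haveI : Module.Flat (B' ⊗[A'] A) B := hφ
    haveI : IsLocalHom (algebraMap (B' ⊗[A'] A) B) := Function.Surjective.isLocalHom χ hχs
    haveI := Module.FaithfullyFlat.of_flat_of_isLocalHom (A := B' ⊗[A'] A) (B := B)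
    exact FaithfulSMul.algebraMap_injective (B' ⊗[A'] A) B
  let χe := RingEquiv.ofBijective χ hχb
  let χ' : B →+* B' ⊗[A'] A := χe.symm.toRingHom
  have hχ'r : algebraMap A (B' ⊗[A'] A) = χ'.comp (algebraMap A B) := RingHom.ext fun r => by
    show _ = χe.symm (algebraMap A B r)
    rw [← hχr r]
    exact (χe.symm_apply_apply _).symm
  have hχ'l : algebraMap B' (B' ⊗[A'] A) = χ'.comp (algebraMap B' B) := RingHom.ext fun r => by
    show _ = χe.symm (algebraMap B' B r)
    rw [← hχl r]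
    exact (χe.symm_apply_apply _).symm
  have h1 := amp_flat_bc (ψ := algebraMap A B) χ' (RingHom.Flat.of_bijective χe.symm.bijective)
    (algebraMap A (B' ⊗[A'] A)) hχ'r _ h
  have h2 : DRing.HasTorAmplitudeIn A a b (DRing.toD ((bc (algebraMap A' A)).obj ((resCx (algebraMap A' B')).obj T))) := by
    refine amp_of_iso (DerivedCategory.Q.mapIso (?_ ≪≫ pushCxIso (A := A') (A' := A) T)) h1
    refine (resCx (algebraMap A (B' ⊗[A'] A))).mapIso ?_
    let i := ModuleCat.extendScalarsComp (algebraMap B' B) χ'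
    exact (show (bc χ').obj ((bc (algebraMap B' B)).obj T) ≅ (bc (χ'.comp (algebraMap B' B))).obj T from
      HomologicalComplex.Hom.isoOfComponents (fun n => (i.app (T.X n)).symm)
        (fun p q _ => (i.inv.naturality (T.d p q)).symm)) ≪≫
      eqToIso (by rw [hχ'l])
  let R := (resCx (algebraMap A' B')).obj T
  have hRc : DRing.VanishesAbove R c := fun i hi =>
    (ModuleCat.restrictScalars.{u} (algebraMap A' B')).map_isZero (hTc i hi)
  have hR : DRing.TermwiseFlat R := fun i => by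
    haveI := hT i
    letI : Module A' (T.X i) := Module.compHom (T.X i) (algebraMap A' B')
    haveI : IsScalarTower A' B' (T.X i) := IsScalarTower.of_compHom A' B' _
    exact Module.Flat.trans A' B' (T.X i)
  obtain ⟨Q, hQb, hQ, ⟨eQ⟩⟩ := exists_proj_rep_top (DRing.toD ((bc (algebraMap A' A)).obj R)) c fun i hi =>
    (ShortComplex.isZero_homology_of_isZero_X₂ _
      ((ModuleCat.extendScalars.{u, u, u} (algebraMap A' A)).map_isZero (hRc i (by lia)))).of_iso
      ((DerivedCategory.homologyFunctorFactors _ i).app _)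
  haveI := isKProjective_of_vanishesAbove hQb hQ
  exact amp_iff_torVan.2 ⟨R, c, hRc, hR, ⟨Iso.refl _⟩, fun M i hi =>
    isZero_tR_of_quotients hsurj hnil hR i (fun N =>
      isZero_tR_res (isKFlat_of_bounded hRc hR) (isKFlat_of_bounded hQb (flat_of_projective hQ)) eQ N i
        (torVan_rep (torVan_of_amp h2) hQb (flat_of_projective hQ) eQ N i hi)) M⟩

end Ring

/-- **tor amplitude at a point of a cartesian thickening** -/
theorem relAmpAt_thick {X X' Y Y' : Scheme.{u}} (f : X ⟶ Y) (f' : X' ⟶ Y') (i : X ⟶ X') (j : Y ⟶ Y')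
    (sq : IsPullback i f f' j) [Flat f'] [IsClosedImmersion j] [IsClosedImmersion i] (hj : NilImm j)
    (G : CochainComplex X'.Modules ℤ) {c : ℤ} (hG : ∀ n, FlatMod.IsFlat (G.X n))
    (hGc : ∀ n, c < n → IsZero (G.X n)) (z : X) {a b : ℤ}
    (h : RelAmpAt f a b (DCoh.toD X ((qC i).obj G)) z) :
    RelAmpAt f' a b (DCoh.toD X' G) (i.base z) := by
  have hy : f'.base (i.base z) = j.base (f.base z) := congrArg (fun t : X ⟶ Y' => t.base z) sq.w
  let ψ : Y'.presheaf.stalk (f'.base (i.base z)) ⟶ Y.presheaf.stalk (f.base z) :=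
    Y'.presheaf.stalkSpecializes (specializes_of_eq hy.symm) ≫ j.stalkMap (f.base z)
  have hψ : Spec.map ψ ≫ Y'.fromSpecStalk (f'.base (i.base z)) = Y.fromSpecStalk (f.base z) ≫ j := by
    rw [Spec.map_comp, Category.assoc, Scheme.SpecMap_stalkSpecializes_fromSpecStalk,
      Scheme.SpecMap_stalkMap_fromSpecStalk]
  have hcomm : f'.stalkMap (i.base z) ≫ i.stalkMap z = ψ ≫ f.stalkMap z := by
    apply Spec.map_injective
    rw [← cancel_mono (Y'.fromSpecStalk _), Spec.map_comp, Spec.map_comp, Category.assoc, Category.assoc,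
      Scheme.SpecMap_stalkMap_fromSpecStalk, hψ, Scheme.SpecMap_stalkMap_fromSpecStalk_assoc,
      Scheme.SpecMap_stalkMap_fromSpecStalk_assoc, sq.w]
  let A' := Y'.presheaf.stalk (f'.base (i.base z))
  let A := Y.presheaf.stalk (f.base z)
  let B' := X'.presheaf.stalk (i.base z)
  let B := X.presheaf.stalk z
  letI : Algebra A' A := ψ.hom.toAlgebra
  letI : Algebra A' B' := (f'.stalkMap (i.base z)).hom.toAlgebra
  letI : Algebra B' B := (i.stalkMap z).hom.toAlgebra
  letI : Algebra A B := (f.stalkMap z).hom.toAlgebra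
  letI : Algebra A' B := (f'.stalkMap (i.base z) ≫ i.stalkMap z).hom.toAlgebra
  haveI : IsScalarTower A' B' B := IsScalarTower.of_algebraMap_eq fun _ => rfl
  haveI : IsScalarTower A' A B := IsScalarTower.of_algebraMap_eq fun t => congr(($hcomm).hom t)
  haveI : Module.Flat A' B' := Flat.stalkMap f' (i.base z)
  have hsurj : Function.Surjective (algebraMap A' A) := fun t => by
    obtain ⟨t, rfl⟩ := j.stalkMap_surjective (f.base z) t
    obtain ⟨t', rfl⟩ := (ConcreteCategory.bijective_of_isIso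
      (Y'.presheaf.stalkCongr (.of_eq hy)).hom).2 t
    exact ⟨t', rfl⟩
  have hnil : IsNilpotent (RingHom.ker (algebraMap A' A)) := by
    obtain ⟨n, hn⟩ := hj.nil (f.base z)
    let σ : A' →+* Y'.presheaf.stalk (j.base (f.base z)) :=
      (Y'.presheaf.stalkCongr (.of_eq hy)).hom.hom
    have hσ : Function.Injective σ := (ConcreteCategory.bijective_of_isIso
      (Y'.presheaf.stalkCongr (.of_eq hy)).hom).1
    refine ⟨n, ?_⟩
    rw [Ideal.zero_eq_bot, ← le_bot_iff]
    rw [Ideal.zero_eq_bot, ← le_bot_iff] at hn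
    intro t ht
    have h1 := Ideal.mem_map_of_mem σ ht
    rw [Ideal.map_pow] at h1
    have hle : (RingHom.ker (algebraMap A' A)).map σ ≤ RingHom.ker (j.stalkMap (f.base z)).hom :=
      Ideal.map_le_iff_le_comap.2 fun w hw => hw
    exact (Submodule.mem_bot _).2 (hσ (((Submodule.mem_bot _).1 (hn (Ideal.pow_right_mono hle n h1))).trans
      (map_zero σ).symm))
  haveI := BCStalk.flat_fromSpecStalk z
  have hφ : (BCAlg.cmpHom A' B' A B).Flat := by
    refine BCStalk.flat_cmpHom_of_mono (X := X') (S' := Y) f' j (A := A') (Rx := B') (R' := A) (C := B)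
      (X'.fromSpecStalk (i.base z)) (Y.fromSpecStalk (f.base z)) (X.fromSpecStalk z ≫ sq.isoPullback.hom) ?_
      ?_ ?_
    · rw [← Scheme.SpecMap_stalkMap_fromSpecStalk, ← hψ, ← Category.assoc, ← Category.assoc]
      exact congrArg (fun t => t ≫ Y'.fromSpecStalk (f'.base (i.base z))) pullback.condition
    · rw [Category.assoc, sq.isoPullback_hom_fst]
      exact Scheme.SpecMap_stalkMap_fromSpecStalk _
    · rw [Category.assoc, sq.isoPullback_hom_snd]
      exact Scheme.SpecMap_stalkMap_fromSpecStalk _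
  let T := (KFlat.stCx (i.base z)).obj G
  let e₁ : (KFlat.stCx z).obj ((qC i).obj G) ≅ (DRingKP.bc (algebraMap B' B)).obj T :=
    HomologicalComplex.Hom.isoOfComponents (fun n => ((KFlat.pullStalkIso i z).app (G.X n)))
      (fun p q _ => ((KFlat.pullStalkIso i z).hom.naturality (G.d p q)).symm)
  have h' := DRingKP.amp_of_iso ((stA f z).mapDerivedCategoryFactors.app ((qC i).obj G) ≪≫
    DerivedCategory.Q.mapIso (show ((stA f z).mapHomologicalComplex (ComplexShape.up ℤ)).obj ((qC i).obj G) ≅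
        (resCx (algebraMap A B)).obj ((DRingKP.bc (algebraMap B' B)).obj T) from
      (resCx (algebraMap A B)).mapIso e₁)) h
  have h'' := amp_thick hsurj hnil (i.stalkMap_surjective z) hφ T (c := c) (fun n => hG n _)
    (fun n hn => (DerSch.stalkFunctor X' _).map_isZero (hGc n hn)) h'
  exact DRingKP.amp_of_iso (((stA f' (i.base z)).mapDerivedCategoryFactors.app G).symm) h''

open ProjForm in
/-- **relative perfection along a thickening of the base** -/
theorem relPerf_thick {X X' Y Y' : Scheme.{u}} (f : X ⟶ Y) (f' : X' ⟶ Y') (i : X ⟶ X') (j : Y ⟶ Y')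
    (sq : IsPullback i f f' j) [Flat f'] [IsClosedImmersion j] [IsClosedImmersion i] (hj : NilImm j) (hi : NilImm i)
    [DCoh.HasLpull i] (K : DCoh.D X') (F : CochainComplex X.Modules ℤ)
    (e : DCoh.toD X F ≅ (DCoh.Lpull i).obj K) (hpc : ∀ m : ℤ, DCoh.IsPseudoCoherentD m (DCoh.toD X F))
    (hF : DerSch.LocFiniteTorAmplitude f F) :
    (∀ m : ℤ, DCoh.IsPseudoCoherentD m K) ∧ DerSch.LocFiniteTorAmplitudeD f' K := by
  have hK : ∀ m, DCoh.IsPseudoCoherentD m K := fun m => pc_of_lpull i hi m K (pc_of_iso e (hpc m))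
  refine ⟨hK, ?_⟩
  rintro F' ⟨eF'⟩ x
  obtain ⟨z, rfl⟩ := hi.surj x
  obtain ⟨W, a, b, hzW, hW⟩ := hF z
  obtain ⟨O, hO, hOW⟩ := i.isClosedEmbedding.isInducing.isOpen_iff.1 W.2
  let O' : X'.Opens := ⟨O, hO⟩
  have hzO : i.base z ∈ O' := by
    have : z ∈ i.base ⁻¹' O := by rw [hOW]; exact hzW
    exact this
  obtain ⟨O₂, hO₂, hzO₂, hle⟩ : ∃ O₂ : X'.Opens, IsAffineOpen O₂ ∧ i.base z ∈ O₂ ∧ O₂ ≤ O' := by
    obtain ⟨_, ⟨U, hU, rfl⟩, hxU, hle⟩ := X'.isBasis_affineOpens.exists_subset_of_mem_open hzO O'.isOpen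
    exact ⟨U, hU, hxU, hle⟩
  haveI : IsAffine (O₂ : Scheme.{u}) := hO₂
  haveI : CompactSpace ↥(O₂ : Scheme.{u}) := inferInstance
  obtain ⟨c, hc⟩ := RelPCS.exists_bound_of_pc (pc_restrict O₂.ι (hK 0))
  refine ⟨O₂, a, b, hzO₂, fun x' hx' => ?_⟩
  obtain ⟨z', rfl⟩ := hi.surj x'
  have hz'W : z' ∈ W := by
    have : z' ∈ i.base ⁻¹' O := hle hx'
    rw [hOW] at this
    exact this
  -- restrict to `O₂`
  let i₂ := i ∣_ O₂
  let f₂ := (i ⁻¹ᵁ O₂).ι ≫ f
  have sq₂ : IsPullback i₂ f₂ (O₂.ι ≫ f') j := (isPullback_morphismRestrict i O₂).paste_vert sq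
  haveI : IsClosedImmersion i₂ := MorphismProperty.of_isPullback (P := @IsClosedImmersion)
    (isPullback_morphismRestrict i O₂).flip inferInstance
  haveI := KFlat.hasLpull i₂
  let K₂ := (RD O₂.ι).obj K
  let H := (DerivedCategory.Q : _ ⥤ DCoh.D (O₂ : Scheme.{u})).objPreimage K₂
  let eH : DCoh.toD _ H ≅ K₂ := DerivedCategory.Q.objObjPreimageIso K₂
  haveI : H.IsLE c := (CochainComplex.isLE_iff H c).2 fun n hn =>
    (exactAt_iff_isZero_homology _ _).2 (((isAboveD_of_iso eH.symm hc) n (by lia)).of_iso (KFlat.hdIso H n).symm)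
  haveI : QuasiIso (H.ιTruncLE c) := (CochainComplex.quasiIso_ιTruncLE_iff H c).2 inferInstance
  obtain ⟨G, ρ, hG, hGf, hρ, hGc⟩ := KFlat.exists_resolution_le_sch (H.truncLE c) c
  haveI := hρ
  let eG : DCoh.toD _ G ≅ K₂ := asIso (DerivedCategory.Q.map (ρ ≫ H.ιTruncLE c)) ≪≫ eH
  let z₂ : (i ⁻¹ᵁ O₂ : Scheme.{u}) := ⟨z', hx'⟩
  obtain ⟨eM⟩ := nonempty_lpull_restrict i O₂ K
  obtain ⟨eY⟩ := nonempty_stA_restrict f (i ⁻¹ᵁ O₂) ((DCoh.Lpull i).obj K) z₂
  have h0 : RelAmpAt f₂ a b (DCoh.toD _ ((qC i₂).obj G)) z₂ := by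
    refine DRingKP.amp_of_iso ((stA f₂ z₂).mapDerivedCategory.mapIso
      (eM.symm ≪≫ (DCoh.Lpull i₂).mapIso eG.symm ≪≫ ProjForm.lpullIso i₂ hG)) ?_
    exact DRingKP.amp_of_iso eY.symm (relAmpAt_of_iso e ((torAmpAt_iff f a b F z').1 (hW z' hz'W)))
  have h1 := relAmpAt_thick f₂ (O₂.ι ≫ f') i₂ j sq₂ hj G hGf
    (fun n hn => G.isZero_of_isStrictlyLE c n hn) z₂ h0
  have hx2 : i₂.base z₂ = ⟨i.base z', hx'⟩ :=
    Subtype.ext (congrArg (fun t : (i ⁻¹ᵁ O₂ : Scheme.{u}) ⟶ X' => t.base z₂) (morphismRestrict_ι i O₂))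
  rw [hx2] at h1
  obtain ⟨eY'⟩ := nonempty_stA_restrict f' O₂ K ⟨i.base z', hx'⟩
  exact (torAmpAt_iff f' a b F' _).2 (relAmpAt_of_iso eF'.symm
    (DRingKP.amp_of_iso eY' (relAmpAt_of_iso eG h1)))

end Groth.Agent.KSixLib
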