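import Groth.Agent.KSixLib.FibreBd
import Groth.Agent.KSixLib.ThickAmp

/-!
# Relative perfection and boundedness on the fibres
-/

set_option backward.isDefEq.respectTransparency false
set_option backward.isDefEq.respectTransparency.types false
set_option linter.style.haveILetI false
set_option autoImplicit false
set_option maxHeartbeats 1000000

universe u

open CategoryTheory Limits AlgebraicGeometry HomologicalComplex TopologicalSpace Opposite
open scoped TensorProduct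

attribute [local instance] HasDerivedCategory.standard

namespace Groth.Agent.KSixLib

open Groth.Agent.DQCoh
open Groth.Agent.ProjForm (qC)

variable {X S : Scheme.{u}}

/-- exactness of a base change along a surjection, elementwise -/
theorem exactAt_bc_iff {B B' : Type u} [CommRing B] [CommRing B'] (θ : B →+* B') (hθ : Function.Surjective θ)
    (P : DRing.Cx B) (j : ℤ) :
    ((DRingKP.bc θ).obj P).ExactAt j ↔
      ∀ v : P.X j, (P.d j (j + 1)).hom v ∈ RingHom.ker θ • (⊤ : Submodule B (P.X (j + 1))) →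
        ∃ w : P.X (j - 1), v - (P.d (j - 1) j).hom w ∈ RingHom.ker θ • (⊤ : Submodule B (P.X j)) := by
  letI : Algebra B B' := θ.toAlgebra
  obtain ⟨hz1, -⟩ := tmul_one_facts θ hθ (P.X (j + 1))
  obtain ⟨hz2, hs2⟩ := tmul_one_facts θ hθ (P.X j)
  obtain ⟨-, hs3⟩ := tmul_one_facts θ hθ (P.X (j - 1))
  rw [HomologicalComplex.exactAt_iff' _ (j - 1) j (j + 1) (by simp) (by simp), ShortComplex.moduleCat_exact_iff]
  constructor
  · intro h v hv
    obtain ⟨w', hw'⟩ := h ((1 : B') ⊗ₜ[B] v)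
      ((ModuleCat.ExtendScalars.map_tmul θ (P.d j (j + 1)) 1 v).trans ((hz1 _).2 hv))
    obtain ⟨w, rfl⟩ := hs3 w'
    refine ⟨w, (hz2 _).1 ?_⟩
    rw [TensorProduct.tmul_sub, sub_eq_zero]
    exact hw'.symm.trans (ModuleCat.ExtendScalars.map_tmul θ (P.d _ _) 1 w)
  · intro h x hx
    obtain ⟨v, rfl⟩ := hs2 x
    obtain ⟨w, hw⟩ := h v ((hz1 _).1 ((ModuleCat.ExtendScalars.map_tmul θ (P.d j (j + 1)) 1 v).symm.trans hx))
    refine ⟨(1 : B') ⊗ₜ[B] w, (ModuleCat.ExtendScalars.map_tmul θ (P.d (j - 1) j) 1 w).trans ?_⟩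
    have := (hz2 _).2 hw
    rw [TensorProduct.tmul_sub, sub_eq_zero] at this
    exact this.symm

/-- **finite relative amplitude bounds the derived pullbacks to the fibres below** -/
theorem nmem_fibre_of_relAmp (g : X ⟶ S) [Flat g] {a b : ℤ} {K : DCoh.D X} (h : ∀ x, RelAmpAt g a b K x) (s : S)
    [DCoh.HasLpull (g.fiberι s)] (j : ℤ) (hj : j < a) (z : (g.fiber s : Scheme.{u})) :
    z ∉ CohB1.support (DCoh.HD ((DCoh.Lpull (g.fiberι s)).obj K) j) := by
  obtain ⟨F, -, -, ⟨eF⟩⟩ := KFlat.exists_isKFlat_rep K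
  have : F.IsLE b := (CochainComplex.isLE_iff F b).2 fun i hi => (exactAt_iff_isZero_homology _ _).2
    ((isZero_homology_of_relAmp h i hi).of_iso ((KFlat.hdIso F i).symm ≪≫
      (DerivedCategory.homologyFunctor X.Modules i).mapIso eF))
  have hq : QuasiIso (F.ιTruncLE b) := (CochainComplex.quasiIso_ιTruncLE_iff F b).2 inferInstance
  obtain ⟨P, q, hPK, hPflat, hq', hPb⟩ := KFlat.exists_resolution_le_sch (F.truncLE b) b
  let e' : DerivedCategory.Q.obj P ≅ K :=
    @asIso _ _ _ _ (DerivedCategory.Q.map (q ≫ F.ιTruncLE b)) inferInstance ≪≫ eF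
  let x := (g.fiberι s).base z
  let Q := ((stA g x).mapHomologicalComplex (ComplexShape.up ℤ)).obj P
  have hv : DRingKP.Van a b Q := DRingKP.torVan_rep (DRingKP.torVan_of_amp (h x))
    (fun i hi => (stA g x).map_isZero (P.isZero_of_isStrictlyLE b i hi))
    (fun i => flatOver_of_flat g (hPflat i) x)
    (((stA g x).mapDerivedCategoryFactors.app P).symm ≪≫ (stA g x).mapDerivedCategory.mapIso e')
  let I := IsLocalRing.maximalIdeal (S.presheaf.stalk (g.base x))
  let φ := (g.stalkMap x).hom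
  let Px := (KFlat.stCx x).obj P
  obtain ⟨hθ, hker⟩ := FibCrit.fiberι_stalkMap g s z
  have h1 : ((DRingKP.bc (Ideal.Quotient.mk (I.map φ))).obj Px).ExactAt j := by
    rw [exactAt_iff]
    refine (ShortComplex.exact_map_iff_of_faithful _
      (ModuleCat.restrictScalars.{u} ((Ideal.Quotient.mk (I.map φ)).comp φ))).1 ?_
    have h2 : ((DRingKP.tR (ModuleCat.of _ (S.presheaf.stalk (g.base x) ⧸ I))).obj Q).ExactAt j :=
      (exactAt_iff_isZero_homology _ _).2 (hv _ j (Or.inl hj))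
    have h3 := (h2.of_iso (quotBcRestrictIso φ I Px).symm)
    rw [exactAt_iff] at h3
    exact h3
  have h4 : ((DRingKP.bc ((g.fiberι s).stalkMap z).hom).obj Px).ExactAt j := by
    rw [exactAt_bc_iff _ hθ, hker]
    rw [exactAt_bc_iff _ Ideal.Quotient.mk_surjective, Ideal.mk_ker] at h1
    exact h1
  rw [PerfGen.mem_support_iff, not_not]
  let e₁ : ((DerSch.stalkFunctor _ z).mapHomologicalComplex (ComplexShape.up ℤ)).obj ((qC (g.fiberι s)).obj P) ≅
      (DRingKP.bc ((g.fiberι s).stalkMap z).hom).obj Px :=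
    HomologicalComplex.Hom.isoOfComponents (fun i => ((KFlat.pullStalkIso (g.fiberι s) z).app (P.X i)))
      (fun p p' _ => ((KFlat.pullStalkIso (g.fiberι s) z).hom.naturality (P.d p p')).symm)
  exact ((exactAt_iff_isZero_homology _ _).1 h4).of_iso
    ((DerSch.stalkFunctor _ z).mapIso ((DerivedCategory.homologyFunctor _ j).mapIso
        ((DCoh.Lpull (g.fiberι s)).mapIso e'.symm ≪≫ ProjForm.lpullIso (g.fiberι s) hPK) ≪≫
        KFlat.hdIso _ j) ≪≫
      ((((qC (g.fiberι s)).obj P).sc j).mapHomologyIso (DerSch.stalkFunctor _ z)).symm ≪≫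
      (HomologicalComplex.homologyFunctor _ _ _).mapIso e₁)

/-- bounded below on an open, in terms of supports -/
lemma isGE_RD_iff (W : X.Opens) (L : DCoh.D X) (a : ℤ) :
    ((RD W.ι).obj L).IsGE a ↔ ∀ j, j < a → ∀ w ∈ W, w ∉ CohB1.support (DCoh.HD L j) := by
  rw [DerivedCategory.isGE_iff]
  refine forall₂_congr fun j _ => ⟨fun h w hw hws => ?_, fun h => ?_⟩
  · have h1 : (⟨w, hw⟩ : (W : Scheme.{u})) ∈ CohB1.support (DCoh.HD ((RD W.ι).obj L) j) := by
      rw [PerfGen.support_HD_RD]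
      exact hws
    exact (PerfGen.mem_support_iff _ _).1 h1 (((DerSch.stalkFunctor _ _).map_isZero h))
  · refine KFlat.isZero_of_stalks _ fun w => ?_
    by_contra h0
    have h1 := (PerfGen.mem_support_iff (DCoh.HD ((RD W.ι).obj L) j) w).2 h0
    rw [PerfGen.support_HD_RD] at h1
    exact h (W.ι.base w) w.2 h1

/-- relative amplitude on an open -/
lemma relAmpAt_RD_iff (f : X ⟶ S) (V : X.Opens) (K : DCoh.D X) (a b : ℤ) (v : (V : Scheme.{u})) :
    RelAmpAt (V.ι ≫ f) a b ((RD V.ι).obj K) v ↔ RelAmpAt f a b K (V.ι.base v) := by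
  obtain ⟨e⟩ := nonempty_stA_restrict f V K v
  exact ⟨fun h => DRingKP.amp_of_iso e h, fun h => DRingKP.amp_of_iso e.symm h⟩

/-- **relative perfection gives boundedness on the total space and on the fibres** -/
theorem bdd_of_locHas (f : X ⟶ S) [Flat f] [∀ s : S, DCoh.HasLpull (f.fiberι s)] {K : DCoh.D X}
    (h : DCoh.LocHasFiniteRelTorDim f K) :
    (∀ x : X, ∃ (V : X.Opens) (a : ℤ), x ∈ V ∧ ((RD V.ι).obj K).IsGE a) ∧
      ∀ (s : S) (y : ↥(f.fiber s)), ∃ (W : (f.fiber s).Opens) (a : ℤ), y ∈ W ∧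
        ((RD W.ι).obj ((DCoh.Lpull (f.fiberι s)).obj K)).IsGE a := by
  rw [locHas_iff] at h
  refine ⟨fun x => ?_, fun s y => ?_⟩
  · obtain ⟨V, a, b, hxV, hV⟩ := h x
    exact ⟨V, a, hxV, (DerivedCategory.isGE_iff _ _).2 fun j hj =>
      isZero_HD_of_relAmp (V.ι ≫ f) (fun v => (relAmpAt_RD_iff f V K a b v).2 (hV _ v.2)) j (Or.inl hj)⟩
  · obtain ⟨V, a, b, hxV, hV⟩ := h ((f.fiberι s).base y)
    obtain ⟨l, hl, hsupp⟩ := exists_fibre_restrict f V s
    haveI := KFlat.hasLpull ((V.ι ≫ f).fiberι s)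
    refine ⟨(f.fiberι s) ⁻¹ᵁ V, a, hxV, (isGE_RD_iff _ _ _).2 fun j hj w hw => ?_⟩
    let v : (V : Scheme.{u}) := ⟨(f.fiberι s).base w, hw⟩
    obtain ⟨z, hz⟩ : (v : (V : Scheme.{u})) ∈ Set.range ((V.ι ≫ f).fiberι s).base := by
      rw [Scheme.Hom.range_fiberι]
      have : f.base ((f.fiberι s).base w) = s := by
        have h' : (f.fiberι s).base w ∈ Set.range (f.fiberι s).base := ⟨w, rfl⟩
        rw [Scheme.Hom.range_fiberι] at h'
        exact h'
      exact this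
    have hlz : l.base z = w := by
      refine (f.fiberι s).isEmbedding.injective ?_
      exact (congrArg (fun t : (V.ι ≫ f).fiber s ⟶ X => t.base z) hl).trans (congrArg V.ι.base hz)
    rw [← hlz, ← hsupp K j z]
    exact nmem_fibre_of_relAmp (V.ι ≫ f) (fun v => (relAmpAt_RD_iff f V K a b v).2 (hV _ v.2)) s j hj z

/-- **boundedness on the total space and on the fibres gives relative perfection** -/
theorem locHas_of_bdd (f : X ⟶ S) [Flat f] [LocallyOfFinitePresentation f]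
    [∀ s : S, DCoh.HasLpull (f.fiberι s)] {K : DCoh.D X} (hK : ∀ m : ℤ, DCoh.IsPseudoCoherentD m K)
    (h₁ : ∀ x : X, ∃ (V : X.Opens) (a : ℤ), x ∈ V ∧ ((RD V.ι).obj K).IsGE a)
    (h₂ : ∀ (s : S) (y : ↥(f.fiber s)), ∃ (W : (f.fiber s).Opens) (a : ℤ), y ∈ W ∧
      ((RD W.ι).obj ((DCoh.Lpull (f.fiberι s)).obj K)).IsGE a) :
    DCoh.LocHasFiniteRelTorDim f K := by
  rw [locHas_iff]
  intro x
  obtain ⟨V, a₀, hxV, hV⟩ := h₁ x
  obtain ⟨W, a₁, hyW, hW⟩ := h₂ (f.base x) (f.asFiber x)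
  obtain ⟨_, ⟨U₀, hU₀, rfl⟩, hxO, hOV⟩ := X.isBasis_affineOpens.exists_subset_of_mem_open
    (show x ∈ V from hxV) V.isOpen
  obtain ⟨O, hOU⟩ : ∃ O : X.Opens, U₀ = O := ⟨U₀, rfl⟩
  subst U₀
  have hO : IsAffineOpen (O : X.Opens) := hU₀
  haveI : CompactSpace (O : Scheme.{u}) := isCompact_iff_compactSpace.1 hO.isCompact
  obtain ⟨c, hc⟩ := RelPCS.exists_bound_of_pc (pc_restrict O.ι (hK 0))
  let a := min a₀ a₁
  let b := max (c - 1) a
  let x₁ : (O : Scheme.{u}) := ⟨x, hxO⟩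
  have hGE : ((RD O.ι).obj K).IsGE a := (isGE_RD_iff _ _ _).2 fun j hj w hw =>
    (isGE_RD_iff _ _ _).1 hV j (lt_of_lt_of_le hj (min_le_left _ _)) w (hOV hw)
  haveI : ∀ s : S, DCoh.HasLpull ((O.ι ≫ f).fiberι s) := fun s => KFlat.hasLpull _
  obtain ⟨l, hl, hsupp⟩ := exists_fibre_restrict f O (f.base x)
  have hlz : l.base ((O.ι ≫ f).asFiber x₁) = f.asFiber x := by
    refine (f.fiberι _).isEmbedding.injective ?_
    exact ((congrArg (fun t : (O.ι ≫ f).fiber (f.base x) ⟶ X => t.base ((O.ι ≫ f).asFiber x₁)) hl).trans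
      (congrArg O.ι.base ((O.ι ≫ f).fiberι_asFiber x₁))).trans (f.fiberι_asFiber x).symm
  have hamp := exists_relAmp_of_fibre_bdd (O.ι ≫ f) (fun m => pc_restrict O.ι (hK m)) (b := b)
    (fun i hi => hc i (by have := le_max_left (c - 1) a; lia)) (le_max_right _ _) hGE x₁ fun j hj h => by
      refine (isGE_RD_iff _ _ _).1 hW j (lt_of_lt_of_le hj (min_le_right _ _)) _ hyW ?_
      rw [← hlz]
      exact (hsupp K j _).1 h
  obtain ⟨V', hxV', -, hV'⟩ := relPerf_nhd_of_flat (O.ι ≫ f) (le_max_right _ _) hGE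
    (fun i hi => hc i (by have := le_max_left (c - 1) a; lia)) (pc_restrict O.ι (hK _)) hamp
  refine ⟨O.ι ''ᵁ V', a, b, ⟨x₁, hxV', rfl⟩, fun y hy => ?_⟩
  obtain ⟨v, hv, rfl⟩ := hy
  exact (relAmpAt_RD_iff f O K a b v).1 (hV' v hv)

end Groth.Agent.KSixLib
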