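import Groth.Agent.DRingKP.TorMore
import Groth.Agent.DRingKP.Fibre2

/-!
# Reduction modulo an ideal of the base of complexes flat over the base
-/

set_option backward.isDefEq.respectTransparency false
set_option backward.isDefEq.respectTransparency.types false
set_option linter.style.haveILetI false
set_option autoImplicit false

universe u

namespace Groth.Agent.KSixLib

open CategoryTheory Limits DerivedCategory MonoidalCategory HomologicalComplex TensorProduct
open Groth.Agent.DRingKP

attribute [local instance] HasDerivedCategory.standard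

variable {A B : Type u} [CommRing A] [CommRing B] (φ : A →+* B) (I : Ideal A)

/-- `B/IB ⊗ M = M/IM` -/
noncomputable def quotBcEquiv (M : Type u) [AddCommGroup M] [Module B M] :
    letI := φ.toAlgebra
    letI := Module.compHom M φ
    ((B ⧸ I.map φ) ⊗[B] M) ≃+ (M ⊗[A] (A ⧸ I)) :=
  letI := φ.toAlgebra
  letI := Module.compHom M φ
  haveI : IsScalarTower A B M := IsScalarTower.of_compHom A B M
  ((TensorProduct.quotTensorEquivQuotSMul M (I.map φ)).toAddEquiv.trans
    ((Submodule.Quotient.restrictScalarsEquiv A ((I.map φ) • (⊤ : Submodule B M))).symm.toAddEquiv.trans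
      ((Submodule.quotEquivOfEq _ (I • (⊤ : Submodule A M)) (by
        rw [show I.map φ = I.map (algebraMap A B) from rfl, Submodule.restrictScalars_map_smul_eq]
        rfl)).toAddEquiv.trans (TensorProduct.tensorQuotEquivQuotSMul M I).symm.toAddEquiv)))

lemma quotBcEquiv_tmul (M : Type u) [AddCommGroup M] [Module B M] (c : B) (x : M) :
    letI := φ.toAlgebra
    letI := Module.compHom M φ
    quotBcEquiv φ I M (Ideal.Quotient.mk (I.map φ) c ⊗ₜ[B] x) = (c • x) ⊗ₜ[A] (1 : A ⧸ I) := by
  letI := φ.toAlgebra
  letI := Module.compHom M φ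
  haveI : IsScalarTower A B M := IsScalarTower.of_compHom A B M
  simp only [quotBcEquiv, AddEquiv.trans_apply, LinearEquiv.coe_toAddEquiv]
  rfl

/-- componentwise -/
noncomputable def quotBcObjEquiv (M : ModuleCat.{u} B) :
    (ModuleCat.restrictScalars.{u} ((Ideal.Quotient.mk (I.map φ)).comp φ)).obj
        ((ModuleCat.extendScalars.{u, u, u} (Ideal.Quotient.mk (I.map φ))).obj M) ≃ₗ[A]
      TensorProduct A ((ModuleCat.restrictScalars.{u} φ).obj M) (A ⧸ I) where
  toFun := fun x => quotBcEquiv φ I M x
  map_add' := fun x y => (quotBcEquiv φ I M).map_add x y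
  map_smul' := fun r x => by
    letI := φ.toAlgebra
    letI := Module.compHom (M : Type u) φ
    induction x using TensorProduct.induction_on with
    | zero =>
      exact (congrArg (quotBcEquiv φ I M) (smul_zero (A := (ModuleCat.restrictScalars.{u} ((Ideal.Quotient.mk (I.map φ)).comp φ)).obj
        ((ModuleCat.extendScalars.{u, u, u} (Ideal.Quotient.mk (I.map φ))).obj M)) r)).trans
          ((map_zero (quotBcEquiv φ I M)).trans ((congrArg (r • ·) (map_zero (quotBcEquiv φ I M))).trans (smul_zero r)).symm)
    | tmul c m =>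
      obtain ⟨c, rfl⟩ := Ideal.Quotient.mk_surjective c
      show quotBcEquiv φ I M (Ideal.Quotient.mk (I.map φ) (φ r * c) ⊗ₜ[B] m) =
        r • (quotBcEquiv φ I M (Ideal.Quotient.mk (I.map φ) c ⊗ₜ[B] m))
      rw [quotBcEquiv_tmul, quotBcEquiv_tmul, mul_smul, TensorProduct.smul_tmul']
      rfl
    | add x y hx hy =>
      exact (congrArg (quotBcEquiv φ I M) (smul_add (A := (ModuleCat.restrictScalars.{u} ((Ideal.Quotient.mk (I.map φ)).comp φ)).obj
        ((ModuleCat.extendScalars.{u, u, u} (Ideal.Quotient.mk (I.map φ))).obj M)) r x y)).trans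
          ((map_add _ _ _).trans ((congrArg₂ (· + ·) hx hy).trans ((smul_add _ _ _).symm.trans
            (congrArg (r • ·) (map_add (quotBcEquiv φ I M) x y).symm))))
  invFun := fun x => (quotBcEquiv φ I M).symm x
  left_inv := fun x => (quotBcEquiv φ I M).symm_apply_apply x
  right_inv := fun x => (quotBcEquiv φ I M).apply_symm_apply x

/-- restriction of the reduction is the tensor product with `A/I` -/
noncomputable def quotBcRestrictIso (X : DRing.Cx B) :
    ((ModuleCat.restrictScalars.{u} ((Ideal.Quotient.mk (I.map φ)).comp φ)).mapHomologicalComplex (ComplexShape.up ℤ)).obj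
        ((bc (Ideal.Quotient.mk (I.map φ))).obj X) ≅
      (tR (ModuleCat.of A (A ⧸ I))).obj
        (((ModuleCat.restrictScalars.{u} φ).mapHomologicalComplex (ComplexShape.up ℤ)).obj X) :=
  HomologicalComplex.Hom.isoOfComponents (fun n => (quotBcObjEquiv φ I (X.X n)).toModuleIso)
    (fun i j _ => by
      refine ModuleCat.hom_ext (LinearMap.ext fun x => ?_)
      induction x using TensorProduct.induction_on with
      | zero => exact (map_zero _).trans (map_zero _).symm
      | tmul c m =>
        obtain ⟨c, rfl⟩ := Ideal.Quotient.mk_surjective c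
        letI := φ.toAlgebra
        letI := Module.compHom (X.X i : Type u) φ
        letI := Module.compHom (X.X j : Type u) φ
        haveI : IsScalarTower A B (X.X i) := IsScalarTower.of_compHom A B _
        haveI : IsScalarTower A B (X.X j) := IsScalarTower.of_compHom A B _
        show (((X.d i j).hom.restrictScalars A).rTensor (A ⧸ I)) (quotBcEquiv φ I (X.X i) (Ideal.Quotient.mk _ c ⊗ₜ[B] m)) =
          quotBcEquiv φ I (X.X j) (Ideal.Quotient.mk _ c ⊗ₜ[B] (X.d i j).hom m)
        rw [quotBcEquiv_tmul, quotBcEquiv_tmul, LinearMap.rTensor_tmul, LinearMap.restrictScalars_apply, map_smul]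
      | add x y hx hy => exact (map_add _ x y).trans ((congrArg₂ (· + ·) hx hy).trans (map_add _ x y).symm))

/-- **acyclic bounded above complexes flat over the base stay acyclic modulo an ideal of the base** -/
theorem acyclic_bc_quot {X : DRing.Cx B} {b : ℤ} (hb : DRing.VanishesAbove X b)
    (hflat : ∀ i, Module.Flat A ((ModuleCat.restrictScalars.{u} φ).obj (X.X i))) (hac : X.Acyclic) :
    ((bc (Ideal.Quotient.mk (I.map φ))).obj X).Acyclic := fun i => by
  have hac' : (((ModuleCat.restrictScalars.{u} φ).mapHomologicalComplex (ComplexShape.up ℤ)).obj X).Acyclic := fun k => by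
    have h := hac k
    rw [HomologicalComplex.exactAt_iff] at h ⊢
    exact h.map (ModuleCat.restrictScalars.{u} φ)
  have h := KFlat.acyclic_of_iso (quotBcRestrictIso φ I X).symm
    (acyclic_tR (fun n hn => (ModuleCat.restrictScalars.{u} φ).map_isZero (hb n hn)) (fun n => hflat n) hac' _) i
  rw [HomologicalComplex.exactAt_iff] at h ⊢
  exact (ShortComplex.exact_map_iff_of_faithful _ (ModuleCat.restrictScalars.{u} ((Ideal.Quotient.mk (I.map φ)).comp φ))).1 h

/-- **base change to a fibre of a complex flat over the base** -/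
theorem nonempty_lBaseChange_quot [DRing.HasLBaseChange (Ideal.Quotient.mk (I.map φ))] (T : DRing.Cx B) {b : ℤ}
    (hb : DRing.VanishesAbove T b)
    (hflat : ∀ i, Module.Flat A ((ModuleCat.restrictScalars.{u} φ).obj (T.X i))) (hφ : φ.Flat) :
    Nonempty ((DRing.LBaseChange (Ideal.Quotient.mk (I.map φ))).obj (DRing.toD T) ≅
      DRing.toD ((bc (Ideal.Quotient.mk (I.map φ))).obj T)) := by
  haveI : T.IsStrictlyLE b := (CochainComplex.isStrictlyLE_iff T b).2 fun i hi => hb i hi
  obtain ⟨P, c, hPb, hP, ⟨eP⟩⟩ := exists_proj_rep_le (DRing.toD T) ⟨b + 1, fun i hi =>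
    DerivedCategory.isZero_of_isLE (DRing.toD T) b i (by lia)⟩
  haveI := isKProjective_of_vanishesAbove hPb hP
  obtain ⟨g, hg⟩ := PerfLocal.exists_lift eP.hom
  haveI : IsIso (DerivedCategory.Q.map g) := by rw [hg]; infer_instance
  haveI : QuasiIso g := (DerivedCategory.isIso_Q_map_iff_quasiIso _ g).1 inferInstance
  let ψ := Ideal.Quotient.mk (I.map φ)
  haveI : QuasiIso ((bc ψ).map g) := by
    refine KFlat.quasiIso_of_acyclic_mappingCone _ (KFlat.acyclic_of_iso
      (CochainComplex.mappingCone.mapHomologicalComplexIso g (ModuleCat.extendScalars.{u, u, u} ψ))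
      (acyclic_bc_quot φ I (b := max b c) (X := CochainComplex.mappingCone g) ?_ ?_ (KFlat.mappingCone_acyclic g)))
    · exact fun n hn => cone_vanishesAbove g hPb hb n (by lia)
    · intro n
      letI := φ.toAlgebra
      haveI : Module.Flat A B := hφ
      haveI : PreservesBinaryBiproduct (P.X (n + 1)) (T.X n) (ModuleCat.restrictScalars.{u} φ) :=
        preservesBinaryBiproduct_of_preservesBinaryProduct _
      refine @Module.Flat.of_linearEquiv _ _ _ _ _ _ _ _ ?_
        (((ModuleCat.restrictScalars.{u} φ).mapIso (HomologicalComplex.homotopyCofiber.XIsoBiprod g n (n + 1) rfl)) ≪≫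
          (ModuleCat.restrictScalars.{u} φ).mapBiprod _ _).toLinearEquiv
      haveI := hflat n
      haveI : Module.Flat B (P.X (n + 1)) := flat_of_projective hP (n + 1)
      haveI : Module.Flat A ((ModuleCat.restrictScalars.{u} φ).obj (P.X (n + 1))) := by
        letI := Module.compHom (P.X (n + 1) : Type u) φ
        haveI : IsScalarTower A B (P.X (n + 1)) := IsScalarTower.of_compHom A B _
        exact Module.Flat.trans A B (P.X (n + 1))
      exact flat_biprod ‹Module.Flat A ((ModuleCat.restrictScalars.{u} φ).obj (P.X (n + 1)))› (hflat n)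
  exact ⟨(DRing.LBaseChange ψ).mapIso eP.symm ≪≫ lBaseChangeIso ψ P ≪≫
    asIso (DerivedCategory.Q.map ((bc ψ).map g))⟩

end Groth.Agent.KSixLib
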