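import Groth.Agent.InjFibre.Alg
import Groth.Agent.AdicBasics.Exact
import Groth.Agent.RelPCS.FlatTerms
import Groth.Agent.KSixLib.FibreQuot

/-!
# Exactness and flat cokernels from reduction modulo an ideal of the base
-/

set_option backward.isDefEq.respectTransparency false
set_option backward.isDefEq.respectTransparency.types false
set_option linter.style.haveILetI false
set_option autoImplicit false

universe u

open TensorProduct

namespace Groth.Agent.KSixLib

/-- base change of a flat module to a quotient of the ring -/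
lemma flat_quot_smul {R M : Type u} [CommRing R] [AddCommGroup M] [Module R M] [Module.Flat R M] (I : Ideal R) :
    Module.Flat (R ⧸ I) (M ⧸ I • (⊤ : Submodule R M)) := by
  let e : ((R ⧸ I) ⊗[R] M) ≃ₗ[R ⧸ I] (M ⧸ I • (⊤ : Submodule R M)) :=
    LinearEquiv.extendScalarsOfSurjective Ideal.Quotient.mk_surjective (TensorProduct.quotTensorEquivQuotSMul M I)
  exact Module.Flat.of_linearEquiv e.symm

/-- **injectivity and flatness of the cokernel from the reduction modulo `I`** -/
theorem inj_flat_of_mod {R S S' M N C : Type u} [CommRing R] [CommRing S] [CommRing S'] [Algebra R S]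
    [Algebra.FinitePresentation R S] (q : Ideal S) [q.IsPrime] [Algebra S S'] [IsLocalization.AtPrime S' q]
    [Algebra R S'] [IsScalarTower R S S'] {I : Ideal R} (hI : I ≤ q.comap (algebraMap R S))
    [AddCommGroup M] [Module S' M] [Module.FinitePresentation S' M] [Module R M] [IsScalarTower R S' M]
    [AddCommGroup N] [Module S' N] [Module.FinitePresentation S' N] [Module R N] [IsScalarTower R S' N]
    [AddCommGroup C] [Module S' C] [Module R C] [IsScalarTower R S' C]
    [Module.Flat R N] (u : M →ₗ[S'] N) (π : N →ₗ[S'] C) (hπ : Function.Surjective π) (hex : Function.Exact u π)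
    (hinj : ∀ x, u x ∈ I • (⊤ : Submodule R N) → x ∈ I • (⊤ : Submodule R M))
    (hC : Module.Flat (R ⧸ I) (C ⧸ I • (⊤ : Submodule R C))) :
    Function.Injective u ∧ Module.Flat R C ∧ Module.Flat R M := by
  let p := q.comap (algebraMap R S)
  let u₀ : M →ₗ[R] N := u.restrictScalars R
  let π₀ : N →ₗ[R] C := π.restrictScalars R
  have hu : (I • (⊤ : Submodule R M)) ≤ (I • (⊤ : Submodule R N)).comap u₀ :=
    Submodule.map_le_iff_le_comap.1 (by rw [Submodule.map_smul'']; exact Submodule.smul_mono le_rfl le_top)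
  have hp : (I • (⊤ : Submodule R N)) ≤ (I • (⊤ : Submodule R C)).comap π₀ :=
    Submodule.map_le_iff_le_comap.1 (by rw [Submodule.map_smul'']; exact Submodule.smul_mono le_rfl le_top)
  let ub := LinearMap.extendScalarsOfSurjective (R := R) (S := R ⧸ I) Ideal.Quotient.mk_surjective (Submodule.mapQ _ _ u₀ hu)
  let πb := LinearMap.extendScalarsOfSurjective (R := R) (S := R ⧸ I) Ideal.Quotient.mk_surjective (Submodule.mapQ _ _ π₀ hp)
  have hub : Function.Injective ub := by
    refine (injective_iff_map_eq_zero ub).2 fun z hz => ?_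
    obtain ⟨x, rfl⟩ := Submodule.Quotient.mk_surjective _ z
    exact (Submodule.Quotient.mk_eq_zero _).2 (hinj x ((Submodule.Quotient.mk_eq_zero _).1 hz))
  have hπb : Function.Surjective πb := fun z => by
    obtain ⟨c, rfl⟩ := Submodule.Quotient.mk_surjective _ z
    obtain ⟨n, rfl⟩ := hπ c
    exact ⟨Submodule.Quotient.mk n, rfl⟩
  have hexb : Function.Exact ub πb := by
    intro z
    obtain ⟨n, rfl⟩ := Submodule.Quotient.mk_surjective _ z
    constructor
    · intro hz
      have h1 : π₀ n ∈ Submodule.map π₀ (I • (⊤ : Submodule R N)) := by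
        rw [Submodule.map_smul'', Submodule.map_top, (LinearMap.range_eq_top (f := π₀)).2 hπ]
        exact (Submodule.Quotient.mk_eq_zero _).1 hz
      obtain ⟨n', hn', e⟩ := h1
      obtain ⟨x, hx⟩ := (hex (n - n')).1 (by rw [map_sub]; exact sub_eq_zero.2 e.symm)
      refine ⟨Submodule.Quotient.mk x, ?_⟩
      show Submodule.Quotient.mk (u x) = _
      rw [hx, Submodule.Quotient.eq]
      simpa using neg_mem hn'
    · rintro ⟨w, hw⟩
      obtain ⟨x, rfl⟩ := Submodule.Quotient.mk_surjective _ w
      rw [← hw]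
      show Submodule.Quotient.mk (π (u x)) = 0
      rw [hex.apply_apply_eq_zero, Submodule.Quotient.mk_zero]
  have hJ : ∀ (V : Type u) [AddCommGroup V] [Module R V] [Module S' V] [IsScalarTower R S' V] (x : V),
      x ∈ (p.map (algebraMap R S')) • (⊤ : Submodule S' V) ↔ x ∈ p • (⊤ : Submodule R V) := fun V _ _ _ _ x => by
    rw [← Submodule.restrictScalars_mem R, Submodule.restrictScalars_map_smul_eq, Submodule.restrictScalars_top]
  have H : ∀ x, u x ∈ (p.map (algebraMap R S')) • (⊤ : Submodule S' N) →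
      x ∈ (p.map (algebraMap R S')) • (⊤ : Submodule S' M) := by
    intro x hx
    rw [hJ] at hx ⊢
    let pb : Ideal (R ⧸ I) := p.map (Ideal.Quotient.mk I)
    have key : ∀ (V : Type u) [AddCommGroup V] [Module R V] (v : V),
        (Submodule.Quotient.mk v : V ⧸ I • (⊤ : Submodule R V)) ∈ pb • (⊤ : Submodule (R ⧸ I) (V ⧸ I • (⊤ : Submodule R V))) ↔
          v ∈ p • (⊤ : Submodule R V) := fun V _ _ v => by
      rw [← Submodule.restrictScalars_mem R,
        show pb = p.map (algebraMap R (R ⧸ I)) from rfl, Submodule.restrictScalars_map_smul_eq,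
        Submodule.restrictScalars_top, ← (I • (⊤ : Submodule R V)).range_mkQ, ← Submodule.map_top,
        ← Submodule.map_smul'']
      constructor
      · rintro ⟨w, hw, e⟩
        have hd := (Submodule.Quotient.eq _).1 e
        have h3 := Submodule.sub_mem _ hw (Submodule.smul_mono_left hI hd)
        simpa using h3
      · exact fun h => ⟨v, h, rfl⟩
    exact (key M x).1 (AdicBasics.mem_smul_of_flat_quotient ub πb hub hπb hexb pb _ ((key N (u x)).2 hx))
  obtain ⟨h1, h2⟩ := InjFibre.atPrime q u H
  let e : (N ⧸ LinearMap.range u) ≃ₗ[S'] C :=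
    (Submodule.quotEquivOfEq _ _ (LinearMap.exact_iff.1 hex).symm).trans (π.quotKerEquivOfSurjective hπ)
  haveI : Module.Flat R C := Module.Flat.of_linearEquiv (e.restrictScalars R).symm
  haveI := RelPCS.flat_ker' π₀ hπ
  let eM : M ≃ₗ[R] LinearMap.ker π₀ := (LinearEquiv.ofInjective u₀ h1).trans
    (LinearEquiv.ofEq _ _ (LinearMap.exact_iff.1 (show Function.Exact u₀ π₀ from hex)).symm)
  exact ⟨h1, inferInstance, Module.Flat.of_linearEquiv eM⟩

/-- `B' ⊗ M = M / (ker θ) M` for surjective `θ` -/
theorem tmul_one_facts {B B' : Type u} [CommRing B] [CommRing B'] (θ : B →+* B') (hθ : Function.Surjective θ)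
    (M : Type u) [AddCommGroup M] [Module B M] :
    letI := θ.toAlgebra
    (∀ m : M, (1 : B') ⊗ₜ[B] m = 0 ↔ m ∈ RingHom.ker θ • (⊤ : Submodule B M)) ∧
      ∀ z : B' ⊗[B] M, ∃ m : M, (1 : B') ⊗ₜ[B] m = z := by
  letI := θ.toAlgebra
  let eB : (B ⧸ RingHom.ker θ) ≃ₐ[B] B' :=
    Ideal.quotientKerAlgEquivOfSurjective (f := Algebra.ofId B B') hθ
  let e : (B' ⊗[B] M) ≃ₗ[B] M ⧸ RingHom.ker θ • (⊤ : Submodule B M) :=
    (TensorProduct.congr eB.symm.toLinearEquiv (LinearEquiv.refl B M)).trans
      (TensorProduct.quotTensorEquivQuotSMul M (RingHom.ker θ))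
  have he : ∀ m : M, e ((1 : B') ⊗ₜ[B] m) = Submodule.Quotient.mk m := fun m => by
    show TensorProduct.quotTensorEquivQuotSMul M (RingHom.ker θ) (eB.symm 1 ⊗ₜ[B] m) = _
    rw [map_one, show (1 : B ⧸ RingHom.ker θ) = Ideal.Quotient.mk _ 1 from (map_one _).symm,
      TensorProduct.quotTensorEquivQuotSMul_mk_tmul, one_smul]
  refine ⟨fun m => ?_, fun z => ?_⟩
  · rw [← Submodule.Quotient.mk_eq_zero (RingHom.ker θ • (⊤ : Submodule B M)), ← he]
    exact ⟨fun h => by rw [h, map_zero], fun h => e.injective (by rw [h, map_zero])⟩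
  · obtain ⟨m, hm⟩ := Submodule.Quotient.mk_surjective _ (e z)
    exact ⟨m, e.injective (by rw [he, hm])⟩

/-- **exactness and flat cokernels from the reduction modulo `I` of a complex of free modules** -/
theorem exact_flat_of_mod {R S B : Type u} [CommRing R] [CommRing S] [CommRing B] [Algebra R S]
    [Algebra.FinitePresentation R S] (q : Ideal S) [q.IsPrime] [Algebra S B] [IsLocalization.AtPrime B q]
    [Algebra R B] [IsScalarTower R S B] [Module.Flat R B] {I : Ideal R} (hI : I ≤ q.comap (algebraMap R S))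
    (M : ℕ → Type u) [∀ k, AddCommGroup (M k)] [∀ k, Module B (M k)] [∀ k, Module.Free B (M k)]
    [∀ k, Module.Finite B (M k)] [∀ k, Module R (M k)] [∀ k, IsScalarTower R B (M k)]
    (d : ∀ k, M (k + 1) →ₗ[B] M k) (hdd : ∀ k x, d k (d (k + 1) x) = 0) (N : ℕ) (hN : 0 < N)
    (hz : ∀ k < N, ∀ x : M (k + 1), d k x ∈ I • (⊤ : Submodule R (M k)) →
      ∃ w : M (k + 2), x - d (k + 1) w ∈ I • (⊤ : Submodule R (M (k + 1))))
    (hfl : Module.Flat (R ⧸ I) ((M 0 ⧸ LinearMap.range (d 0)) ⧸
      I • (⊤ : Submodule R (M 0 ⧸ LinearMap.range (d 0))))) :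
    (∀ k < N, ∀ x, d k x = 0 → ∃ w, d (k + 1) w = x) ∧ Module.Flat R (M 0 ⧸ LinearMap.range (d 0)) := by
  have step : ∀ k < N, Module.Flat (R ⧸ I) ((M k ⧸ LinearMap.range (d k)) ⧸
      I • (⊤ : Submodule R (M k ⧸ LinearMap.range (d k)))) →
      (∀ x, d k x = 0 → ∃ w, d (k + 1) w = x) ∧ Module.Flat R (M k ⧸ LinearMap.range (d k)) ∧
        Module.Flat R (M (k + 1) ⧸ LinearMap.range (d (k + 1))) := by
    intro k hk hC
    let u : (M (k + 1) ⧸ LinearMap.range (d (k + 1))) →ₗ[B] M k :=
      (LinearMap.range (d (k + 1))).liftQ (d k) (by rintro _ ⟨w, rfl⟩; exact hdd k w)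
    haveI : Module.Flat R (M k) := Module.Flat.trans R B (M k)
    haveI : Module.FinitePresentation B (M (k + 1)) := Module.finitePresentation_of_projective B (M (k + 1))
    haveI : Module.FinitePresentation B (M (k + 1) ⧸ LinearMap.range (d (k + 1))) :=
      Module.finitePresentation_of_surjective _ (Submodule.mkQ_surjective _)
        (by rw [Submodule.ker_mkQ]; exact LinearMap.range_eq_map (d (k + 1)) ▸ (Module.Finite.fg_top.map _))
    haveI : Module.FinitePresentation B (M k) := Module.finitePresentation_of_projective B (M k)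
    have hex : Function.Exact u (LinearMap.range (d k)).mkQ := by
      rw [LinearMap.exact_iff, Submodule.ker_mkQ, Submodule.range_liftQ]
    have hinj : ∀ x, u x ∈ I • (⊤ : Submodule R (M k)) →
        x ∈ I • (⊤ : Submodule R (M (k + 1) ⧸ LinearMap.range (d (k + 1)))) := by
      intro x hx
      obtain ⟨x, rfl⟩ := Submodule.Quotient.mk_surjective _ x
      obtain ⟨w, hw⟩ := hz k hk x hx
      have h1 := Submodule.mem_map_of_mem (f := ((LinearMap.range (d (k + 1))).mkQ).restrictScalars R) hw
      rw [Submodule.map_smul''] at h1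
      have h2 := Submodule.smul_mono (le_refl I) le_top h1
      convert h2 using 1
      show Submodule.Quotient.mk x = Submodule.Quotient.mk (x - d (k + 1) w)
      rw [Submodule.Quotient.mk_sub, (Submodule.Quotient.mk_eq_zero _).2 (LinearMap.mem_range_self _ w), sub_zero]
    obtain ⟨h1, h2, h3⟩ := inj_flat_of_mod (S := S) q hI u _ (Submodule.mkQ_surjective _) hex hinj hC
    refine ⟨fun x hx => ?_, h2, h3⟩
    have h4 : (Submodule.Quotient.mk x : M (k + 1) ⧸ LinearMap.range (d (k + 1))) = 0 :=
      h1 (by rw [map_zero]; exact hx)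
    exact LinearMap.mem_range.1 ((Submodule.Quotient.mk_eq_zero _).1 h4)
  have all : ∀ k < N, Module.Flat (R ⧸ I) ((M k ⧸ LinearMap.range (d k)) ⧸
      I • (⊤ : Submodule R (M k ⧸ LinearMap.range (d k)))) := by
    intro k
    induction k with
    | zero => exact fun _ => hfl
    | succ k ih =>
      intro hk
      haveI := (step k (by omega) (ih (by omega))).2.2
      exact flat_quot_smul I
  exact ⟨fun k hk => (step k hk (all k hk)).1, (step 0 hN hfl).2.1⟩

end Groth.Agent.KSixLib
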