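import Groth.Agent.KSixLib.JacScheme
import Groth.Agent.RelPCS.Calc
import Groth.Agent.QC.Support
import Groth.Agent.DQCoh.Pseudo
import Mathlib.AlgebraicGeometry.Morphisms.Proper
import Mathlib.AlgebraicGeometry.Morphisms.ClosedImmersion

/-!
# Relative perfection over a ring from the reduction modulo an ideal in the Jacobson radical
-/

set_option backward.isDefEq.respectTransparency false
set_option backward.isDefEq.respectTransparency.types false
set_option linter.style.haveILetI false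
set_option autoImplicit false
set_option maxHeartbeats 1000000

universe u

open CategoryTheory Limits AlgebraicGeometry HomologicalComplex TopologicalSpace Opposite

attribute [local instance] HasDerivedCategory.standard

namespace Groth.Agent.KSixLib

open Groth.Agent.DQCoh
open Groth.Agent.ProjForm (qC)

section

variable {R : Type u} [CommRing R] (I : Ideal R) {X X₀ : Scheme.{u}} {f : X ⟶ Spec (CommRingCat.of R)}
  {i : X₀ ⟶ X} {f₀ : X₀ ⟶ Spec (CommRingCat.of (R ⧸ I))} [Flat f] [LocallyOfFinitePresentation f]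
  [DCoh.HasLpull i]

/-- approximations near a point of the reduction -/
theorem approx_quot (hsq : IsPullback i f₀ f (Spec.map (CommRingCat.ofHom (Ideal.Quotient.mk I))))
    [IsClosedImmersion i] {K : DCoh.D X} {a b n : ℤ} (hab : a ≤ b) (hn : n + 1 < a) (hK : IsAboveD (b + 1) K)
    (hp : DCoh.IsPseudoCoherentD n K) (hamp : ∀ y, RelAmpAt f₀ a b ((DCoh.Lpull i).obj K) y) (x₀ : X₀) :
    ∃ (O : X.Opens) (hx : i.base x₀ ∈ O) (E : CochainComplex (O : Scheme.{u}).Modules ℤ)
      (α : DerivedCategory.Q.obj E ⟶ (RD O.ι).obj K), (∀ j, FlatMod.IsFinLocFree (E.X j)) ∧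
      (∀ j, b < j → IsZero (E.X j)) ∧ MIsoD n α ∧
      (∀ j, n < j → j < a → IsZero ((DerSch.stalkFunctor (O : Scheme.{u}) ⟨i.base x₀, hx⟩).obj (E.homology j))) ∧
      FlatMod.IsFlatOverAt (O.ι ≫ f) (cokernel (E.d (a - 1) a)) ⟨i.base x₀, hx⟩ := by
  obtain ⟨O, E, α, hxO, hE, hEb, hα⟩ := RelPCS.exists_approx_le (n := n) (b := b) (by lia) hK hp (i.base x₀)
  obtain ⟨-, hl⟩ := id hE
  let O₀ := i ⁻¹ᵁ O
  let k := i ∣_ O
  let y₀ : (O₀ : Scheme.{u}) := ⟨x₀, hxO⟩
  let f₁ := O₀.ι ≫ f₀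
  haveI : Flat f₀ := MorphismProperty.of_isPullback (P := @Flat) hsq inferInstance
  have hsq' : IsPullback k f₁ (O.ι ≫ f) (Spec.map (CommRingCat.ofHom (Ideal.Quotient.mk I))) :=
    ((isPullback_morphismRestrict i O).paste_vert hsq)
  haveI : IsClosedImmersion k := MorphismProperty.of_isPullback (P := @IsClosedImmersion)
    (isPullback_morphismRestrict i O).flip inferInstance
  haveI := KFlat.hasLpull k
  obtain ⟨eM⟩ := nonempty_lpull_restrict i O K
  obtain ⟨β₀, hβ₀⟩ := exists_mIso_lpull k (DerPerf.isKFlat_of_isStrictlyPerfect hE) α hα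
  let β := β₀ ≫ eM.hom
  have hβ : MIsoD n β := mIsoD_comp hβ₀ (mIsoD_of_isIso _ _)
  have hM : ∀ j, j < a → IsZero (DCoh.HD ((RD O₀.ι).obj ((DCoh.Lpull i).obj K)) j) := fun j hj =>
    ((Scheme.Modules.restrictFunctor O₀.ι).map_isZero (isZero_HD_of_relAmp f₀ hamp j (Or.inl hj))).of_iso
      (PerfGen.hdRD O₀.ι _ j)
  obtain ⟨eτ⟩ := nonempty_truncGE_iso ((qC k).obj E) a ((DerivedCategory.isGE_iff _ _).2 hM) β
    fun j hj => hβ.1 j (by lia)
  obtain ⟨hτa, hτgt, ⟨eC⟩⟩ := truncGE_facts ((qC k).obj E) a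
  let τ := ((qC k).obj E).truncGE a
  have hlk : ∀ j, FlatMod.IsFinLocFree (((qC k).obj E).X j) := fun j => DerPerf.isFinLocFree_pullback k (hl j)
  have hτv : DCoh.VanishesOutside τ a b := fun j hj => by
    rcases hj with hj | hj
    · exact hτa j hj
    · obtain ⟨e⟩ := hτgt j (by lia)
      exact ((Scheme.Modules.pullback k).map_isZero (hEb j hj)).of_iso e
  obtain ⟨eY⟩ := nonempty_stA_restrict f₀ O₀ ((DCoh.Lpull i).obj K) y₀
  have hbot : Module.Flat _ ((stA f₁ y₀).obj (τ.X a)) :=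
    flat_bottom (((stA f₁ y₀).mapHomologicalComplex (ComplexShape.up ℤ)).obj τ) hab
      (fun j hj => (stA f₁ y₀).map_isZero (hτv j hj))
      (fun j hj => flatOver_of_flat f₁ (DerPerf.isFlat_of_isFinLocFree (by
        obtain ⟨e⟩ := hτgt j hj
        exact isFinLocFree_of_iso' e.symm (hlk j))) y₀)
      (DRingKP.amp_of_iso (((stA f₁ y₀).mapDerivedCategoryFactors.app τ).symm ≪≫
        (stA f₁ y₀).mapDerivedCategory.mapIso eτ ≪≫ eY).symm (hamp x₀))
  have hCfl : FlatMod.IsFlatOverAt f₁ ((Scheme.Modules.pullback k).obj (cokernel (E.d (a - 1) a))) y₀ := by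
    rw [isFlatOverAt_iff]
    exact @Module.Flat.of_linearEquiv _ _ _ _ _ _ _ _ hbot
      ((stA f₁ y₀).mapIso (PreservesCokernel.iso (Scheme.Modules.pullback k) (E.d (a - 1) a) ≪≫ eC)).toLinearEquiv
  have hz : ∀ j, n < j → j < a → IsZero (((qC k).obj E).homology j) := fun j hj hja => by
    haveI := hβ.1 j hj
    exact ((hM j hja).of_iso (asIso ((DerivedCategory.homologyFunctor _ j).map β))).of_iso (KFlat.hdIso _ j).symm
  obtain ⟨h1, h2⟩ := exact_flat_quot I hsq' hl hn hz y₀ hCfl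
  have hy : k.base y₀ = ⟨i.base x₀, hxO⟩ := Subtype.ext (congrArg (fun t => t.base y₀) (morphismRestrict_ι i O))
  rw [hy] at h1 h2
  exact ⟨O, hxO, E, α, hl, hEb, hα, h1, h2⟩

/-- vanishing at the points of the reduction -/
theorem isZero_stalk_quot (hsq : IsPullback i f₀ f (Spec.map (CommRingCat.ofHom (Ideal.Quotient.mk I))))
    [IsClosedImmersion i] {K : DCoh.D X} {a b : ℤ} (hab : a ≤ b) (hK : IsAboveD (b + 1) K)
    (hp : ∀ m, DCoh.IsPseudoCoherentD m K) (hamp : ∀ y, RelAmpAt f₀ a b ((DCoh.Lpull i).obj K) y) (x₀ : X₀)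
    (j : ℤ) (hj : j < a) : i.base x₀ ∉ CohB1.support (DCoh.HD K j) := by
  obtain ⟨O, hx, E, α, -, -, hα, hz, -⟩ :=
    approx_quot (n := j - 1) I hsq hab (by lia) hK (hp _) hamp x₀
  intro hs
  have hs' : (⟨i.base x₀, hx⟩ : (O : Scheme.{u})) ∈ CohB1.support (DCoh.HD ((RD O.ι).obj K) j) := by
    rw [PerfGen.support_HD_RD]; exact hs
  refine (PerfGen.mem_support_iff _ _).1 hs' ?_
  haveI := hα.1 j (by lia)
  exact (hz j (by lia) hj).of_iso ((DerSch.stalkFunctor _ _).mapIso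
    ((asIso ((DerivedCategory.homologyFunctor _ j).map α)).symm ≪≫ KFlat.hdIso E j))

/-- relative amplitude at the points of the reduction -/
theorem relAmpAt_quot (hsq : IsPullback i f₀ f (Spec.map (CommRingCat.ofHom (Ideal.Quotient.mk I))))
    [IsClosedImmersion i] {K : DCoh.D X} {a b : ℤ} (hab : a ≤ b) (hGE : K.IsGE a) (hK : IsAboveD (b + 1) K)
    (hp : ∀ m, DCoh.IsPseudoCoherentD m K) (hamp : ∀ y, RelAmpAt f₀ a b ((DCoh.Lpull i).obj K) y) (x₀ : X₀) :
    RelAmpAt f a b K (i.base x₀) := by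
  obtain ⟨O, hx, E, α, hl, hEb, hα, -, hfl⟩ :=
    approx_quot (n := a - 2) I hsq hab (by lia) hK (hp _) hamp x₀
  let x₁ : (O : Scheme.{u}) := ⟨i.base x₀, hx⟩
  have hM : ((RD O.ι).obj K).IsGE a := (DerivedCategory.isGE_iff _ _).2 fun j hj =>
    ((Scheme.Modules.restrictFunctor O.ι).map_isZero ((DerivedCategory.isGE_iff K a).1 hGE j hj)).of_iso
      (PerfGen.hdRD O.ι K j)
  obtain ⟨eτ⟩ := nonempty_truncGE_iso E a hM α fun j hj => hα.1 j (by lia)
  obtain ⟨hτa, hτgt, ⟨eC⟩⟩ := truncGE_facts E a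
  let τ := E.truncGE a
  obtain ⟨eY⟩ := nonempty_stA_restrict f O K x₁
  refine DRingKP.amp_of_iso (((stA (O.ι ≫ f) x₁).mapDerivedCategoryFactors.app τ).symm ≪≫
    (stA (O.ι ≫ f) x₁).mapDerivedCategory.mapIso eτ ≪≫ eY)
    ⟨((stA (O.ι ≫ f) x₁).mapHomologicalComplex (ComplexShape.up ℤ)).obj τ, fun j hj => ?_, fun j => ?_, ⟨Iso.refl _⟩⟩
  · refine (stA (O.ι ≫ f) x₁).map_isZero ?_
    rcases hj with hj | hj
    · exact hτa j hj
    · obtain ⟨e⟩ := hτgt j (by lia)
      exact (hEb j hj).of_iso e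
  · rcases lt_trichotomy j a with hj | rfl | hj
    · exact flatOver_of_isZero (O.ι ≫ f) (hτa j hj) x₁
    · exact @Module.Flat.of_linearEquiv _ _ _ _ _ _ _ _ ((isFlatOverAt_iff (O.ι ≫ f) _ x₁).1 hfl)
        ((stA (O.ι ≫ f) x₁).mapIso eC).symm.toLinearEquiv
    · obtain ⟨e⟩ := hτgt j hj
      exact flatOver_of_flat (O.ι ≫ f) (DerPerf.isFlat_of_isFinLocFree (isFinLocFree_of_iso' e.symm (hl j))) x₁

end

/-- **perfection relative to a ring from the reduction modulo an ideal in the Jacobson radical** -/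
theorem exists_relAmp_of_jacobson {R : Type u} [CommRing R] (I : Ideal R) (hI : I ≤ Ideal.jacobson ⊥)
    {X : Scheme.{u}} (f : X ⟶ Spec (CommRingCat.of R)) [IsProper f] [Flat f] [LocallyOfFinitePresentation f]
    [DCoh.HasLpull (pullback.fst f (Spec.map (CommRingCat.ofHom (Ideal.Quotient.mk I))))]
    (K : DCoh.D X) (hpc : ∀ m : ℤ, DCoh.IsPseudoCoherentD m K)
    (F₀ : CochainComplex (pullback f (Spec.map (CommRingCat.ofHom (Ideal.Quotient.mk I)))).Modules ℤ)
    (e : DCoh.toD _ F₀ ≅ (DCoh.Lpull (pullback.fst f (Spec.map (CommRingCat.ofHom (Ideal.Quotient.mk I))))).obj K)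
    (hF₀ : DerSch.LocFiniteTorAmplitude (pullback.snd f (Spec.map (CommRingCat.ofHom (Ideal.Quotient.mk I)))) F₀) :
    ∃ a b : ℤ, ∀ x, RelAmpAt f a b K x := by
  let π := Spec.map (CommRingCat.ofHom (Ideal.Quotient.mk I))
  let i := pullback.fst f π
  let f₀ := pullback.snd f π
  haveI : IsClosedImmersion π := IsClosedImmersion.spec_of_surjective _ Ideal.Quotient.mk_surjective
  have hsq : IsPullback i f₀ f π := IsPullback.of_hasPullback f π
  haveI : IsProper f₀ := inferInstance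
  haveI : CompactSpace X := QuasiCompact.compactSpace_of_compactSpace f
  haveI : CompactSpace ↥(pullback f π) := QuasiCompact.compactSpace_of_compactSpace f₀
  choose V a b hV hab using hF₀
  obtain ⟨t, ht⟩ := isCompact_univ.elim_finite_subcover (fun x => (V x : Set (pullback f π : Scheme.{u})))
    (fun x => (V x).2) fun x _ => Set.mem_iUnion.2 ⟨x, hV x⟩
  obtain ⟨A, hA⟩ := (t.image a).bddBelow
  obtain ⟨B, hB⟩ := (t.image b).bddAbove
  obtain ⟨c, hc⟩ := RelPCS.exists_bound_of_pc (hpc 0)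
  let b' := max (max B c) A
  have hK : IsAboveD (b' + 1) K := isAboveD_mono (by lia) hc
  have hamp : ∀ y, RelAmpAt f₀ A b' ((DCoh.Lpull i).obj K) y := fun y => by
    obtain ⟨z, hz, hyz⟩ := Set.mem_iUnion₂.1 (ht (Set.mem_univ y))
    refine relAmpAt_widen (hA (Finset.mem_image_of_mem a hz)) ?_
      (relAmpAt_of_iso e ((torAmpAt_iff f₀ _ _ F₀ y).1 (hab z y hyz)))
    have := hB (Finset.mem_image_of_mem b hz)
    lia
  -- closed points lie over `V(I)`
  have hclosed : ∀ x : X, IsClosed ({x} : Set X) → x ∈ Set.range i.base := by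
    intro x hx
    have h1 : IsClosed ({f.base x} : Set (Spec (CommRingCat.of R))) := by
      rw [← Set.image_singleton]
      exact f.isClosedMap _ hx
    have h2 : (f.base x).asIdeal.IsMaximal := (PrimeSpectrum.isClosed_singleton_iff_isMaximal _).1 h1
    have h3 : f.base x ∈ Set.range π.base := by
      show f.base x ∈ Set.range (PrimeSpectrum.comap (Ideal.Quotient.mk I))
      rw [range_comap_of_surjective _ _ Ideal.Quotient.mk_surjective, Ideal.mk_ker, PrimeSpectrum.mem_zeroLocus]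
      exact fun r hr => Ideal.mem_sInf.1 (hI hr) ⟨bot_le, h2⟩
    rw [Scheme.Pullback.range_fst]
    exact h3
  have hspec : ∀ x : X, ∃ z : X, IsClosed ({z} : Set X) ∧ x ⤳ z := fun x => by
    obtain ⟨z, hz, hzc⟩ := IsClosed.exists_closed_singleton (isClosed_closure (s := ({x} : Set X)))
      ⟨x, subset_closure rfl⟩
    exact ⟨z, hzc, specializes_iff_mem_closure.2 hz⟩
  have hq : DCoh.IsQCohD K := fun j => (DQCoh.isQCoh_cohomology_of_pseudoCoherent (j - 1) K (hpc _)).1 j (by lia)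
  have hGE : K.IsGE A := (DerivedCategory.isGE_iff _ _).2 fun j hj => by
    refine Devissage.isZero_of_support (Set.eq_empty_of_forall_notMem fun x hx => ?_)
    obtain ⟨z, hzc, hxz⟩ := hspec x
    obtain ⟨x₀, rfl⟩ := hclosed z hzc
    exact isZero_stalk_quot I hsq (le_max_right _ _) hK hpc hamp x₀ j hj
      (QC.stableUnderSpecialization_support (hM := hq j) hxz hx)
  refine ⟨A, b', fun x => ?_⟩
  obtain ⟨z, hzc, hxz⟩ := hspec x
  obtain ⟨x₀, rfl⟩ := hclosed z hzc
  obtain ⟨O, hO, -, hOamp⟩ := relPerf_nhd_of_flat f (le_max_right _ _) hGE hK (hpc _)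
    (relAmpAt_quot I hsq (le_max_right _ _) hGE hK hpc hamp x₀)
  exact hOamp x (hxz.mem_open O.isOpen hO)

end Groth.Agent.KSixLib
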