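import Groth.Agent.KSixLib.RelPerfNhd
import Groth.Agent.KSixLib.FibreQuot
import Groth.Agent.S1483

/-!
# The criterion of relative perfection by fibres
-/

set_option backward.isDefEq.respectTransparency false
set_option backward.isDefEq.respectTransparency.types false
set_option linter.style.haveILetI false
set_option autoImplicit false
set_option maxHeartbeats 1000000

universe u

open CategoryTheory Limits AlgebraicGeometry HomologicalComplex TopologicalSpace Opposite
open scoped TensorProduct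

attribute [local instance] HasDerivedCategory.standard

namespace Groth.Agent.KSixLib

open Groth.Agent.DQCoh

variable {X Y S : Scheme.{u}}

/-- **truncation of an approximation** -/
theorem exists_trunc {K : DCoh.D X} {a b : ℤ} (hab : a ≤ b) (hGE : K.IsGE a) (hK : IsAboveD (b + 1) K)
    (hp : DCoh.IsPseudoCoherentD (a - 1) K) (x : X) :
    ∃ (O : X.Opens) (τ : CochainComplex (O : Scheme.{u}).Modules ℤ), x ∈ O ∧
      Nonempty (DCoh.toD (O : Scheme.{u}) τ ≅ (RD O.ι).obj K) ∧ DCoh.VanishesOutside τ a b ∧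
      (∀ i, a < i → FlatMod.IsFinLocFree (τ.X i)) ∧ Coh.IsQCoh (τ.X a) ∧ CohB1.IsFP (τ.X a) := by
  haveI := hGE
  obtain ⟨F₀, hF₀, ⟨eF₀⟩⟩ := DerivedCategory.exists_iso_Q_obj_of_isGE K a
  obtain ⟨O, E, α, hxO, hE, hEb, hα⟩ := RelPCS.exists_approx_le (n := a - 1) (b := b) (by lia) hK hp x
  obtain ⟨-, hl⟩ := id hE
  let F := (rC O.ι).obj F₀
  haveI : F.IsStrictlyGE a := (CochainComplex.isStrictlyGE_iff F a).2 fun i hi =>
    (Scheme.Modules.restrictFunctor O.ι).map_isZero (F₀.isZero_of_isStrictlyGE a i hi)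
  let eF : DerivedCategory.Q.obj F ≅ (RD O.ι).obj K := (rdIso O.ι F₀).symm ≪≫ (RD O.ι).mapIso eF₀.symm
  obtain ⟨E', s, hs, g₁, hg⟩ := DerivedCategory.right_fac (α ≫ eF.inv)
  have hqs : QuasiIso s := (DerivedCategory.isIso_Q_map_iff_quasiIso _ s).1 hs
  have hqg : ∀ i, a ≤ i → QuasiIsoAt g₁ i := fun i hi => by
    rw [quasiIsoAt_iff_isIso_homologyMap]
    refine (NatIso.isIso_map_iff (DerivedCategory.homologyFunctorFactors (O : Scheme.{u}).Modules i) g₁).1 ?_
    have h1 : DerivedCategory.Q.map g₁ = DerivedCategory.Q.map s ≫ α ≫ eF.inv := by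
      rw [hg, IsIso.hom_inv_id_assoc]
    haveI := hα.1 i (by lia)
    change IsIso ((DerivedCategory.homologyFunctor (O : Scheme.{u}).Modules i).map (DerivedCategory.Q.map g₁))
    rw [h1, Functor.map_comp, Functor.map_comp]
    infer_instance
  have q1 : QuasiIso (CochainComplex.truncGEMap s a) :=
    (CochainComplex.quasiIso_truncGEMap_iff s a).2 fun i _ => inferInstance
  have q2 : QuasiIso (CochainComplex.truncGEMap g₁ a) := (CochainComplex.quasiIso_truncGEMap_iff g₁ a).2 hqg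
  have q3 : QuasiIso (F.πTruncGE a) := (CochainComplex.quasiIso_πTruncGE_iff F a).2 inferInstance
  let τ := E.truncGE a
  let eτ : DCoh.toD (O : Scheme.{u}) τ ≅ (RD O.ι).obj K :=
    (@asIso _ _ _ _ _ ((DerivedCategory.isIso_Q_map_iff_quasiIso _ _).2 q1)).symm ≪≫
      (@asIso _ _ _ _ _ ((DerivedCategory.isIso_Q_map_iff_quasiIso _ _).2 q2)) ≪≫
      (@asIso _ _ _ _ _ ((DerivedCategory.isIso_Q_map_iff_quasiIso _ _).2 q3)).symm ≪≫ eF
  have hXgt : ∀ i, a < i → Nonempty (τ.X i ≅ E.X i) := fun i hi => by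
    obtain ⟨k, rfl⟩ := Int.le.dest hi.le
    exact ⟨HomologicalComplex.truncGEXIso E (ComplexShape.embeddingUpIntGE a) (i := k) (by simp)
      (fun h' => by have := (ComplexShape.boundaryGE_embeddingUpIntGE_iff a k).1 h'; lia)⟩
  let eC : τ.X a ≅ E.opcycles a := HomologicalComplex.truncGEXIsoOpcycles E (ComplexShape.embeddingUpIntGE a)
    (i := 0) (i' := a) (by simp) ((ComplexShape.boundaryGE_embeddingUpIntGE_iff a 0).2 rfl)
  let eC' : cokernel (E.d (a - 1) a) ≅ τ.X a := (cokernelIsCokernel (E.d (a - 1) a)).coconePointUniqueUpToIso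
    (E.opcyclesIsCokernel (a - 1) a (by simp)) ≪≫ eC.symm
  have hEq : ∀ i, Coh.IsQCoh (E.X i) := fun i => LocFree.isQCoh_of_isFinLocFree (hl i)
  have hq := QC.isQCoh_cokernel (hEq _) (hEq _) (E.d (a - 1) a)
  have hfp := CokStage.isFP_cokernel (E.d (a - 1) a) (hEq _) (hEq _) (LocFree.isFP_of_isFinLocFree (hl _))
    (LocFree.isFP_of_isFinLocFree (hl _))
  refine ⟨O, τ, hxO, ⟨eτ⟩, fun i hi => ?_, fun i hi => ?_, QC.isQCoh_of_iso eC' hq, DQCoh.isFP_of_iso eC' hfp⟩
  · rcases hi with hi | hi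
    · exact τ.isZero_of_isStrictlyGE a i hi
    · obtain ⟨e⟩ := hXgt i (by lia)
      exact (hEb i hi).of_iso e
  · obtain ⟨e⟩ := hXgt i hi
    exact isFinLocFree_of_iso' e.symm (hl i)

/-- the ideal of the fibre in the local ring -/
noncomputable abbrev fibIdeal (g : Y ⟶ S) (y : Y) : Ideal (Y.presheaf.stalk y) :=
  Ideal.map (g.stalkMap y).hom (IsLocalRing.maximalIdeal (S.presheaf.stalk (g.base y)))

/-- amplitude over the local ring of the fibre -/
def FibAmp (f : X ⟶ Y) (g : Y ⟶ S) (a b : ℤ) (K : DCoh.D X) (x : X) : Prop :=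
  ∀ [DRing.HasLBaseChange (Ideal.Quotient.mk (fibIdeal g (f.base x)))],
    DRing.HasTorAmplitudeIn (Y.presheaf.stalk (f.base x) ⧸ fibIdeal g (f.base x)) a b
      ((DRing.LBaseChange (Ideal.Quotient.mk (fibIdeal g (f.base x)))).obj ((stA f x).mapDerivedCategory.obj K))

lemma fibAmp_of_iso (f : X ⟶ Y) (g : Y ⟶ S) {a b : ℤ} {K L : DCoh.D X} (e : K ≅ L) {x : X}
    (h : FibAmp f g a b K x) : FibAmp f g a b L x := by
  intro inst
  exact DRingKP.amp_of_iso ((DRing.LBaseChange _).mapIso ((stA f x).mapDerivedCategory.mapIso e)) (@h inst)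

lemma fibAmp_widen (f : X ⟶ Y) (g : Y ⟶ S) {a b a' b' : ℤ} (ha : a' ≤ a) (hb : b ≤ b') {K : DCoh.D X} {x : X}
    (h : FibAmp f g a b K x) : FibAmp f g a' b' K x := by
  intro inst
  exact DRingKP.amp_widen ha hb (@h inst)

/-- stalks of a restriction, on derived categories -/
lemma nonempty_stA_restrict (f : X ⟶ Y) (V : X.Opens) (K : DCoh.D X) (v : (V : Scheme.{u})) :
    Nonempty ((stA (V.ι ≫ f) v).mapDerivedCategory.obj ((RD V.ι).obj K) ≅
      (stA f (V.ι.base v)).mapDerivedCategory.obj K) := by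
  let F := (DerivedCategory.Q : _ ⥤ DCoh.D X).objPreimage K
  let eF : DCoh.toD X F ≅ K := DerivedCategory.Q.objObjPreimageIso K
  exact ⟨(stA (V.ι ≫ f) v).mapDerivedCategory.mapIso ((RD V.ι).mapIso eF.symm ≪≫ rdIso V.ι F) ≪≫
    (stA (V.ι ≫ f) v).mapDerivedCategoryFactors.app _ ≪≫
    DerivedCategory.Q.mapIso (show ((stA (V.ι ≫ f) v).mapHomologicalComplex (ComplexShape.up ℤ)).obj
        ((rC V.ι).obj F) ≅ ((stA f (V.ι.base v)).mapHomologicalComplex (ComplexShape.up ℤ)).obj F from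
      HomologicalComplex.Hom.isoOfComponents (fun n => (stARestrictIso (f := f) V v).app (F.X n))
      fun p q _ => ((stARestrictIso (f := f) V v).hom.naturality (F.d p q)).symm) ≪≫
    ((stA f (V.ι.base v)).mapDerivedCategoryFactors.app F).symm ≪≫
    (stA f (V.ι.base v)).mapDerivedCategory.mapIso eF⟩

lemma fibAmp_restrict_iff (f : X ⟶ Y) (g : Y ⟶ S) (V : X.Opens) {a b : ℤ} (K : DCoh.D X) (v : (V : Scheme.{u})) :
    FibAmp (V.ι ≫ f) g a b ((RD V.ι).obj K) v ↔ FibAmp f g a b K (V.ι.base v) := by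
  obtain ⟨e⟩ := nonempty_stA_restrict f V K v
  constructor
  · intro h inst
    exact DRingKP.amp_of_iso ((DRing.LBaseChange _).mapIso e) (@h inst)
  · intro h inst
    exact DRingKP.amp_of_iso ((DRing.LBaseChange _).mapIso e.symm) (@h inst)

/-- **fibrewise criterion on a flat chart** -/
theorem relAmp_of_fibre {W : Scheme.{u}} (q : W ⟶ Y) (g : Y ⟶ S) [Flat q] [LocallyOfFinitePresentation q]
    [Flat g] [LocallyOfFinitePresentation g] {K : DCoh.D W} {a b : ℤ} (hab : a ≤ b) (hGE : K.IsGE a)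
    (hK : IsAboveD (b + 1) K) (hp : DCoh.IsPseudoCoherentD (a - 1) K) (w : W)
    [DRing.HasLBaseChange (Ideal.Quotient.mk (fibIdeal g (q.base w)))]
    (hS : RelAmpAt (q ≫ g) a b K w) (hfib : FibAmp q g a b K w) : RelAmpAt q a b K w := by
  obtain ⟨O, τ, hwO, ⟨eτ⟩, hv, hfree, hCq, hCfp⟩ := exists_trunc hab hGE hK hp w
  let w₀ : (O : Scheme.{u}) := ⟨w, hwO⟩
  let q' := O.ι ≫ q
  obtain ⟨eS⟩ := nonempty_stA_restrict (q ≫ g) O K w₀
  obtain ⟨eY⟩ := nonempty_stA_restrict q O K w₀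
  let φ := (g.stalkMap (q.base w)).hom
  let T := ((stA q' w₀).mapHomologicalComplex (ComplexShape.up ℤ)).obj τ
  let eT : DRing.toD T ≅ (stA q w).mapDerivedCategory.obj K :=
    ((stA q' w₀).mapDerivedCategoryFactors.app τ).symm ≪≫ (stA q' w₀).mapDerivedCategory.mapIso eτ ≪≫ eY
  have hgt : ∀ i, a < i → FlatMod.IsFlatOver q' (τ.X i) := fun i hi =>
    flatOver_of_flat q' (DerPerf.isFlat_of_isFinLocFree (hfree i hi))
  -- flatness over the base
  let f' := O.ι ≫ q ≫ g
  have hgtS : ∀ i, a < i → FlatMod.IsFlatOver f' (τ.X i) := fun i hi =>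
    flatOver_of_flat f' (DerPerf.isFlat_of_isFinLocFree (hfree i hi))
  have hCS : FlatMod.IsFlatOverAt f' (τ.X a) w₀ := by
    rw [isFlatOverAt_iff]
    exact flat_bottom (((stA f' w₀).mapHomologicalComplex (ComplexShape.up ℤ)).obj τ) hab
      (fun i hi => (stA f' w₀).map_isZero (hv i hi)) (fun i hi => hgtS i hi w₀)
      (DRingKP.amp_of_iso (((stA f' w₀).mapDerivedCategoryFactors.app τ).symm ≪≫
        (stA f' w₀).mapDerivedCategory.mapIso eτ ≪≫ eS).symm hS)
  have hflat : ∀ i, Module.Flat (S.presheaf.stalk (g.base (q.base w)))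
      ((ModuleCat.restrictScalars.{u} φ).obj (T.X i)) := fun i => by
    refine @Module.Flat.of_linearEquiv _ _ _ _ _ _ _ _ ?_ ((stACompIso q' g w₀).app (τ.X i)).symm.toLinearEquiv
    have e : FlatMod.IsFlatOverAt (q' ≫ g) (τ.X i) w₀ := by
      rw [Category.assoc]
      rcases lt_trichotomy i a with hi | rfl | hi
      · exact flatOver_of_isZero f' (hv i (Or.inl hi)) w₀
      · exact hCS
      · exact hgtS i hi w₀
    exact (isFlatOverAt_iff (q' ≫ g) _ w₀).1 e
  obtain ⟨eB⟩ := nonempty_lBaseChange_quot φ (IsLocalRing.maximalIdeal _) T (b := b)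
    (fun i hi => (stA q' w₀).map_isZero (hv i (Or.inr hi))) hflat (Flat.stalkMap g _)
  let ψ := Ideal.Quotient.mk (fibIdeal g (q.base w))
  have hbot := flat_bottom ((DRingKP.bc ψ).obj T) hab
    (fun i hi => (ModuleCat.extendScalars.{u, u, u} ψ).map_isZero ((stA q' w₀).map_isZero (hv i hi)))
    (fun i hi => DRingKP.extendScalars_flat ψ (hgt i hi w₀))
    (DRingKP.amp_of_iso (((DRing.LBaseChange ψ).mapIso eT.symm) ≪≫ eB) hfib)
  -- flatness over `Y`
  have hC : FlatMod.IsFlatOverAt q' (τ.X a) w₀ := by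
    rcases subsingleton_or_nontrivial ((τ.X a).presheaf.stalk w₀) with hs | hnt
    · rw [isFlatOverAt_iff]
      haveI : Subsingleton ((stA q' w₀).obj (τ.X a)) := hs
      infer_instance
    haveI : LocallyOfFinitePresentation (q' ≫ g) := inferInstance
    refine ((S1483.result q' g (τ.X a) hCq hCfp w₀ hnt).1 ⟨?_, ?_⟩).2
    · rw [Category.assoc]; exact hCS
    · letI := FlatMod.moduleStalkOver q' (τ.X a) w₀
      let J := fibIdeal g (q'.base w₀)
      let N : ModuleCat.{u} (Y.presheaf.stalk (q'.base w₀)) := (stA q' w₀).obj (τ.X a)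
      let e0 := TensorProduct.quotTensorEquivQuotSMul N J
      haveI : Module.Flat (Y.presheaf.stalk (q'.base w₀) ⧸ J)
          ((Y.presheaf.stalk (q'.base w₀) ⧸ J) ⊗[Y.presheaf.stalk (q'.base w₀)] N) := hbot
      let e1 : ((Y.presheaf.stalk (q'.base w₀) ⧸ J) ⊗[Y.presheaf.stalk (q'.base w₀)] N) ≃ₗ[Y.presheaf.stalk (q'.base w₀) ⧸ J]
          (N ⧸ J • (⊤ : Submodule (Y.presheaf.stalk (q'.base w₀)) N)) :=
        LinearEquiv.extendScalarsOfSurjective (Ideal.Quotient.mk_surjective) e0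
      exact Module.Flat.of_linearEquiv e1.symm
  have hTf : DRing.TermwiseFlat T := fun i => by
    rcases lt_trichotomy i a with hi | rfl | hi
    · exact flatOver_of_isZero q' (hv i (Or.inl hi)) w₀
    · exact hC
    · exact hgt i hi w₀
  exact ⟨T, fun i hi => (stA q' w₀).map_isZero (hv i hi), hTf, ⟨eT⟩⟩

end Groth.Agent.KSixLib

namespace Groth.Agent.KSixLib

open Groth.Agent.DQCoh
open Groth.Agent.RelPCS (PD pdIso)

variable {X Y S : Scheme.{u}}

lemma fibAmp_congr {f f' : X ⟶ Y} (e : f = f') (g : Y ⟶ S) {a b : ℤ} {K : DCoh.D X} {x : X}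
    (h : FibAmp f g a b K x) : FibAmp f' g a b K x := by
  subst e; exact h

lemma fibAmp_push_iff {W : Scheme.{u}} (i : X ⟶ W) [IsClosedImmersion i] (q : W ⟶ Y) (g : Y ⟶ S) {a b : ℤ}
    (F : CochainComplex X.Modules ℤ) (x : X) :
    FibAmp q g a b (DCoh.toD W ((DerSch.pushCx i).obj F)) (i.base x) ↔
      FibAmp (i ≫ q) g a b (DCoh.toD X F) x := by
  let e : (stA q (i.base x)).mapDerivedCategory.obj (DCoh.toD W ((DerSch.pushCx i).obj F)) ≅
      (stA (i ≫ q) x).mapDerivedCategory.obj (DCoh.toD X F) :=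
    (stA q (i.base x)).mapDerivedCategoryFactors.app _ ≪≫ DerivedCategory.Q.mapIso
      (show ((stA q (i.base x)).mapHomologicalComplex (ComplexShape.up ℤ)).obj ((DerSch.pushCx i).obj F) ≅
          ((stA (i ≫ q) x).mapHomologicalComplex (ComplexShape.up ℤ)).obj F from
        HomologicalComplex.Hom.isoOfComponents (fun n => (stPushIso i q x).app (F.X n))
          (fun p q' _ => ((stPushIso i q x).hom.naturality (F.d p q')).symm)) ≪≫
      ((stA (i ≫ q) x).mapDerivedCategoryFactors.app F).symm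
  constructor
  · intro h inst
    exact DRingKP.amp_of_iso ((DRing.LBaseChange _).mapIso e) (@h inst)
  · intro h inst
    exact DRingKP.amp_of_iso ((DRing.LBaseChange _).mapIso e.symm) (@h inst)

open RelPCS in
/-- the step inside a chart -/
theorem relAmp_of_fibre_chart {W : Scheme.{u}} (f : X ⟶ Y) (g : Y ⟶ S) [Flat g] [LocallyOfFinitePresentation g]
    (F : CochainComplex X.Modules ℤ) {U' : X.Opens} (i : (U' : Scheme.{u}) ⟶ W) [IsClosedImmersion i]
    (q : W ⟶ Y) [Flat q] [LocallyOfFinitePresentation q] (hw : i ≫ q = U'.ι ≫ f) {a b : ℤ} (hab : a ≤ b)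
    (hpc : DerSch.IsPseudoCoherentRel (i ≫ q) (a - 1) (DCoh.toD _ ((DCoh.restrictCx U').obj F)))
    (hvan : ∀ j, j < a ∨ b < j → IsZero (((DCoh.restrictCx U').obj F).homology j))
    (x' : (U' : Scheme.{u})) [DRing.HasLBaseChange (Ideal.Quotient.mk (fibIdeal g (f.base (U'.ι.base x'))))]
    (hS : RelAmpAt (f ≫ g) a b (DCoh.toD X F) (U'.ι.base x'))
    (hfib : FibAmp f g a b (DCoh.toD X F) (U'.ι.base x')) :
    RelAmpAt f a b (DCoh.toD X F) (U'.ι.base x') := by
  let F' := (DCoh.restrictCx U').obj F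
  let G := (DerSch.pushCx i).obj F'
  have hG : DCoh.IsPseudoCoherentD (a - 1) (DCoh.toD _ G) := (rel_closedImm_comp_flat_iff i q _ F').1 hpc
  have hGz : ∀ j, j < a ∨ b < j → IsZero (DCoh.HD (DCoh.toD _ G) j) := fun j hj =>
    (((Scheme.Modules.pushforward i).map_isZero (hvan j hj)).of_iso
      ((F'.sc j).mapHomologyIso (Scheme.Modules.pushforward i))).of_iso (KFlat.hdIso G j)
  have hGS : RelAmpAt (q ≫ g) a b (DCoh.toD _ G) (i.base x') := by
    have h1 : DerSch.HasTorAmplitudeAt (i ≫ q ≫ g) a b F' x' := by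
      rw [← Category.assoc, hw, Category.assoc]
      exact (torAmpAt_iff _ a b F' x').2 ((relAmpAt_restrict_iff U' F a b x').2 hS)
    exact (torAmpAt_iff _ a b G _).1 ((torAmpAt_push i (q ≫ g) F' x').2 h1)
  have hGY : FibAmp q g a b (DCoh.toD _ G) (i.base x') := by
    refine (fibAmp_push_iff i q g F' x').2 (fibAmp_congr hw.symm g ?_)
    exact fibAmp_of_iso _ g (rdIso U'.ι F) ((fibAmp_restrict_iff f g U' _ x').2 hfib)
  have hpt : q.base (i.base x') = f.base (U'.ι.base x') := congrArg (fun t => t.base x') hw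
  haveI : DRing.HasLBaseChange (Ideal.Quotient.mk (fibIdeal g (q.base (i.base x')))) := by
    rw [hpt]; assumption
  have h := relAmp_of_fibre q g hab ((DerivedCategory.isGE_iff _ _).2 fun j hj => hGz j (Or.inl hj))
    (fun j hj => hGz j (Or.inr (by lia))) hG (i.base x') hGS hGY
  have h2 : DerSch.HasTorAmplitudeAt (i ≫ q) a b F' x' :=
    (torAmpAt_push i q F' x').1 ((torAmpAt_iff q a b G _).2 h)
  rw [hw] at h2
  exact (relAmpAt_restrict_iff U' F a b x').1 ((torAmpAt_iff _ a b F' x').1 h2)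

open RelPCS in
/-- **the criterion of relative perfection by fibres** -/
theorem perfAmpRel_comp_fibre_iff (f : X ⟶ Y) (g : Y ⟶ S) [LocallyOfFiniteType f] [Flat g]
    [LocallyOfFinitePresentation g] (x : X) (F : CochainComplex X.Modules ℤ) (a b : ℤ)
    [DRing.HasLBaseChange (Ideal.Quotient.mk (fibIdeal g (f.base x)))] :
    ((∃ U : X.Opens, x ∈ U ∧ DerSch.HasPerfAmplitudeRel (U.ι ≫ f ≫ g) a b ((DCoh.restrictCx U).obj F)) ∧
        DRing.HasTorAmplitudeIn (Y.presheaf.stalk (f.base x) ⧸ fibIdeal g (f.base x)) a b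
          ((DRing.LBaseChange (Ideal.Quotient.mk (fibIdeal g (f.base x)))).obj
            (DRing.toD ((DerSch.stalkCxOver f x).obj F)))) ↔
      ∃ U : X.Opens, x ∈ U ∧ DerSch.HasPerfAmplitudeRel (U.ι ≫ f) a b ((DCoh.restrictCx U).obj F) := by
  constructor
  · rintro ⟨⟨U, hxU, hpc, htor⟩, hfib⟩
    have hvan := isZero_HD_of_relAmp (U.ι ≫ f ≫ g) fun y => (torAmpAt_iff _ a b _ y).1 (htor y)
    have hpcf : DerSch.IsPseudoCoherentRel (U.ι ≫ f) (a - 1) (DCoh.toD _ ((DCoh.restrictCx U).obj F)) := by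
      refine (rel_comp_flat_iff (f := U.ι ≫ f) g _ _).1 ?_
      rw [Category.assoc]; exact hpc _
    refine (perfAmpRel_nhd_iff f F a b x).2 ⟨⟨U, hxU, hpcf, hvan⟩, ?_⟩
    obtain ⟨V, hV, hxV⟩ := QC.exists_affine_mem (f.base x)
    obtain ⟨_, ⟨U₀, hU₀, rfl⟩, hxU', hU'le⟩ := X.isBasis_affineOpens.exists_subset_of_mem_open
      (show x ∈ U ⊓ f ⁻¹ᵁ V from ⟨hxU, hxV⟩) (U ⊓ f ⁻¹ᵁ V).isOpen
    obtain ⟨U', hU₁⟩ : ∃ U' : X.Opens, U₀ = U' := ⟨U₀, rfl⟩
    subst U₀
    have hU' : IsAffineOpen (U' : X.Opens) := hU₀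
    have hUV : U' ≤ f ⁻¹ᵁ V := fun z hz => (hU'le hz).2
    have hUU : U' ≤ U := fun z hz => (hU'le hz).1
    obtain ⟨n, φ, hφ⟩ := exists_chart (f := f) hU' hV hUV
    haveI := closedImm_sp hφ.1
    let q := sp (MvPolynomial.C : Γ(Y, V) →+* MvPolynomial (Fin n) Γ(Y, V)) ≫ hV.fromSpec
    let i := hU'.isoSpec.hom ≫ sp φ
    have hw : i ≫ q = (Scheme.Opens.ι U') ≫ f := by
      show (hU'.isoSpec.hom ≫ sp φ) ≫ sp _ ≫ hV.fromSpec = _
      have e : sp φ ≫ sp MvPolynomial.C = Spec.map (f.appLE V U' hUV) := by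
        rw [← sp_comp, hφ.2]
        rfl
      rw [Category.assoc, ← Category.assoc (sp φ), e, IsAffineOpen.SpecMap_appLE_fromSpec f hV hU' hUV,
        ← Category.assoc, IsAffineOpen.isoSpec_hom_fromSpec]
    haveI : IsClosedImmersion i := MorphismProperty.comp_mem _ _ _ inferInstance inferInstance
    haveI : Smooth (sp (MvPolynomial.C : Γ(Y, V) →+* MvPolynomial (Fin n) Γ(Y, V))) :=
      (HasRingHomProperty.Spec_iff (P := @Smooth)).2 (RingHom.smooth_algebraMap.2
        (⟨inferInstance, inferInstance⟩ : Algebra.Smooth Γ(Y, V) (MvPolynomial (Fin n) Γ(Y, V))))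
    haveI : Smooth q := inferInstance
    let l := X.homOfLE hUU
    have hl : l ≫ U.ι = Scheme.Opens.ι U' := X.homOfLE_ι hUU
    let eR := (RD l).mapIso (rdIso U.ι F).symm ≪≫ ((rdComp l U.ι).app _).symm ≪≫ (rdCongr hl).app _ ≪≫
      rdIso (Scheme.Opens.ι U') F
    have hz : ∀ j, j < a ∨ b < j → IsZero (((DCoh.restrictCx U').obj F).homology j) := fun j hj => by
      have h1 : IsZero (DCoh.HD ((RD l).obj (DCoh.toD _ ((DCoh.restrictCx U).obj F))) j) :=
        ((Scheme.Modules.restrictFunctor l).map_isZero (hvan j hj)).of_iso (PerfGen.hdRD l _ j)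
      exact (h1.of_iso ((DerivedCategory.homologyFunctor _ j).mapIso eR.symm)).of_iso (KFlat.hdIso _ j).symm
    have hpc' : DerSch.IsPseudoCoherentRel (i ≫ q) (a - 1) (DCoh.toD _ ((DCoh.restrictCx U').obj F)) := by
      have h0 := rel_of_iso _ eR (rel_restrict hpcf l)
      have e : l ≫ U.ι ≫ f = i ≫ q := by rw [hw, ← Category.assoc, hl]
      exact e ▸ h0
    let x₀ : (U : Scheme.{u}) := ⟨x, hxU⟩
    have hS : RelAmpAt (f ≫ g) a b (DCoh.toD X F) x :=
      (relAmpAt_restrict_iff U F a b x₀).1 ((torAmpAt_iff (U.ι ≫ f ≫ g) a b _ x₀).1 (htor x₀))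
    have hfib' : FibAmp f g a b (DCoh.toD X F) x := by
      intro inst
      exact DRingKP.amp_of_iso ((DRing.LBaseChange _).mapIso ((stA f x).mapDerivedCategoryFactors.app F).symm) hfib
    let x' : (U' : Scheme.{u}) := ⟨x, hxU'⟩
    haveI : DRing.HasLBaseChange (Ideal.Quotient.mk (fibIdeal g (f.base ((Scheme.Opens.ι U').base x')))) :=
      (inferInstance : DRing.HasLBaseChange (Ideal.Quotient.mk (fibIdeal g (f.base x))))
    have h := relAmp_of_fibre_chart (U' := U') f g F i q hw (le_max_left a b) hpc'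
      (fun j hj => hz j (by lia)) x'
      (relAmpAt_widen le_rfl (le_max_right a b) hS) (fibAmp_widen f g le_rfl (le_max_right a b) hfib')
    refine DRingKP.amp_shrink ((torAmpAt_iff f a (max a b) F x).2 h) fun j hj => ?_
    have h1 : IsZero ((stA ((Scheme.Opens.ι U') ≫ f) x').obj (((DCoh.restrictCx U').obj F).homology j)) :=
      (stA _ x').map_isZero (hz j (Or.inr (by lia)))
    have h2 : IsZero ((stA f x).obj (F.homology j)) :=
      (h1.of_iso ((stA _ x').mapIso ((F.sc j).mapHomologyIso (Scheme.Modules.restrictFunctor U'.ι)).symm)).of_iso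
        ((stARestrictIso (f := f) U' x').app _).symm
    exact (h2.of_iso ((F.sc j).mapHomologyIso (stA f x))).of_iso
      ((DerivedCategory.homologyFunctorFactors _ j).app _)
  · rintro ⟨U, hxU, hpc, htor⟩
    refine ⟨⟨U, hxU, fun m => ?_, fun y => ?_⟩, ?_⟩
    · rw [← Category.assoc]
      exact (rel_comp_flat_iff (f := U.ι ≫ f) g m _).2 (hpc m)
    · have hu : DerSch.HasTorAmplitude g 0 0 (DerSch.unitCx Y) :=
        (torAmp_single_zero_iff g _).2 ((isFlatOver_unit_iff g).2 inferInstance)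
      have h := torAmpAt_comp (U.ι ≫ f) g (n := 0) (by simpa using hu _) (htor y)
      rw [Category.assoc] at h
      simpa using h
    · let x₀ : (U : Scheme.{u}) := ⟨x, hxU⟩
      exact DRingKP.amp_lBaseChange _ _ a b ((torAmpAt_iff f a b F x).2
        ((relAmpAt_restrict_iff U F a b x₀).1 ((torAmpAt_iff (U.ι ≫ f) a b _ x₀).1 (htor x₀))))

end Groth.Agent.KSixLib
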