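import Groth.Agent.KSixLib.JacDescent
import Groth.Agent.KSixLib.RelPerfFibre
import Groth.Agent.CMFlat.RegImm
import Groth.Agent.DerPerf.Local

/-!
# Tor amplitude over the base from tor amplitude over a quotient of the base
-/

set_option backward.isDefEq.respectTransparency false
set_option backward.isDefEq.respectTransparency.types false
set_option linter.style.haveILetI false
set_option autoImplicit false
set_option maxHeartbeats 1000000

universe u

open CategoryTheory Limits AlgebraicGeometry HomologicalComplex TopologicalSpace Opposite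
open scoped TensorProduct

attribute [local instance] HasDerivedCategory.standard

namespace Groth.Agent.KSixLib

open Groth.Agent.DQCoh
open Groth.Agent.ProjForm (qC)

/-- derived pullback of an approximation, as a map -/
lemma exists_mIso_lpull {U X' : Scheme.{u}} (k : X' ⟶ U) [DCoh.HasLpull k] {E : CochainComplex U.Modules ℤ}
    (hE : DCoh.IsKFlat E) {L : DCoh.D U} {n : ℤ} (α : DerivedCategory.Q.obj E ⟶ L) (hα : MIsoD n α) :
    ∃ β : DerivedCategory.Q.obj ((qC k).obj E) ⟶ (DCoh.Lpull k).obj L, MIsoD n β := by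
  obtain ⟨G, hG, -, ⟨eG⟩⟩ := KFlat.exists_isKFlat_rep L
  obtain ⟨E', s, hs, g, hg⟩ := DerivedCategory.right_fac (α ≫ eG.inv)
  haveI := hs
  let t : (KFlat.resF U).obj E' ⟶ E' := (KFlat.resψ U).app E'
  haveI hts : IsIso (DerivedCategory.Q.map (t ≫ s)) := by rw [Functor.map_comp]; infer_instance
  have hg' : DerivedCategory.Q.map (t ≫ g) = DerivedCategory.Q.map (t ≫ s) ≫ α ≫ eG.inv := by
    rw [hg, Functor.map_comp, Functor.map_comp, Category.assoc, IsIso.hom_inv_id_assoc]
  have h₁ : MIsoD n (DerivedCategory.Q.map (t ≫ g)) := by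
    rw [hg']
    exact mIsoD_comp (mIsoD_of_isIso _ _) (mIsoD_comp hα (mIsoD_of_isIso _ _))
  have hc := (DerPerf.mIso_Q_map_iff n (t ≫ g)).1 h₁
  have hC := KFlat.rflat_mappingCone_sch (t ≫ g) (KFlat.isKFlat_resF E') hG
  have h2 := (DerPerf.mIso_Q_map_iff n ((qC k).map (t ≫ g))).2 fun j hj =>
    (DerPerf.isZero_homology_pullback k hC n hc j hj).of_iso
      ((HomologicalComplex.homologyFunctor _ _ j).mapIso
        (CochainComplex.mappingCone.mapHomologicalComplexIso (t ≫ g) (Scheme.Modules.pullback k)).symm)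
  haveI : QuasiIso (t ≫ s) := (DerivedCategory.isIso_Q_map_iff_quasiIso _ _).1 hts
  haveI := KFlat.quasiIso_map_of_kFlat (KFlat.kFlatAcyclic_pullback k) (t ≫ s) (KFlat.isKFlat_resF E') hE
  haveI : IsIso (DerivedCategory.Q.map ((qC k).map (t ≫ s))) :=
    (DerivedCategory.isIso_Q_map_iff_quasiIso _ _).2 inferInstance
  exact ⟨inv (DerivedCategory.Q.map ((qC k).map (t ≫ s))) ≫ DerivedCategory.Q.map ((qC k).map (t ≫ g)) ≫
      ((ProjForm.lpullIso k hG).symm ≪≫ (DCoh.Lpull k).mapIso eG).hom,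
    mIsoD_comp (mIsoD_of_isIso _ _) (mIsoD_comp h2 (mIsoD_of_isIso _ _))⟩

/-- truncation of an approximation of a bounded below object -/
lemma nonempty_truncGE_iso {U : Scheme.{u}} (P : CochainComplex U.Modules ℤ) {M : DCoh.D U} (a : ℤ) (hM : M.IsGE a)
    (β : DerivedCategory.Q.obj P ⟶ M)
    (hβ : ∀ i, a ≤ i → IsIso ((DerivedCategory.homologyFunctor U.Modules i).map β)) :
    Nonempty (DerivedCategory.Q.obj (P.truncGE a) ≅ M) := by
  haveI := hM
  obtain ⟨F, hF, ⟨eF⟩⟩ := DerivedCategory.exists_iso_Q_obj_of_isGE M a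
  obtain ⟨E', s, hs, g, hg⟩ := DerivedCategory.right_fac (β ≫ eF.hom)
  have hqs : QuasiIso s := (DerivedCategory.isIso_Q_map_iff_quasiIso _ s).1 hs
  have hqg : ∀ i, a ≤ i → QuasiIsoAt g i := fun i hi => by
    rw [quasiIsoAt_iff_isIso_homologyMap]
    refine (NatIso.isIso_map_iff (DerivedCategory.homologyFunctorFactors U.Modules i) g).1 ?_
    have h1 : DerivedCategory.Q.map g = DerivedCategory.Q.map s ≫ β ≫ eF.hom := by
      rw [hg, IsIso.hom_inv_id_assoc]
    haveI := hβ i hi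
    change IsIso ((DerivedCategory.homologyFunctor U.Modules i).map (DerivedCategory.Q.map g))
    rw [h1, Functor.map_comp, Functor.map_comp]
    infer_instance
  have q1 : QuasiIso (CochainComplex.truncGEMap s a) :=
    (CochainComplex.quasiIso_truncGEMap_iff s a).2 fun i _ => inferInstance
  have q2 : QuasiIso (CochainComplex.truncGEMap g a) := (CochainComplex.quasiIso_truncGEMap_iff g a).2 hqg
  have q3 : QuasiIso (F.πTruncGE a) := (CochainComplex.quasiIso_πTruncGE_iff F a).2 inferInstance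
  exact ⟨(@asIso _ _ _ _ _ ((DerivedCategory.isIso_Q_map_iff_quasiIso _ _).2 q1)).symm ≪≫
    (@asIso _ _ _ _ _ ((DerivedCategory.isIso_Q_map_iff_quasiIso _ _).2 q2)) ≪≫
    (@asIso _ _ _ _ _ ((DerivedCategory.isIso_Q_map_iff_quasiIso _ _).2 q3)).symm ≪≫ eF.symm⟩

lemma truncGE_facts {U : Scheme.{u}} (P : CochainComplex U.Modules ℤ) (a : ℤ) :
    (∀ i, i < a → IsZero ((P.truncGE a).X i)) ∧ (∀ i, a < i → Nonempty ((P.truncGE a).X i ≅ P.X i)) ∧
      Nonempty (cokernel (P.d (a - 1) a) ≅ (P.truncGE a).X a) := by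
  refine ⟨fun i hi => (P.truncGE a).isZero_of_isStrictlyGE a i hi, fun i hi => ?_, ⟨?_⟩⟩
  · obtain ⟨k, rfl⟩ := Int.le.dest hi.le
    exact ⟨HomologicalComplex.truncGEXIso P (ComplexShape.embeddingUpIntGE a) (i := k) (by simp)
      (fun h' => by have := (ComplexShape.boundaryGE_embeddingUpIntGE_iff a k).1 h'; lia)⟩
  · exact (cokernelIsCokernel (P.d (a - 1) a)).coconePointUniqueUpToIso
        (P.opcyclesIsCokernel (a - 1) a (by simp)) ≪≫
      (HomologicalComplex.truncGEXIsoOpcycles P (ComplexShape.embeddingUpIntGE a)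
        (i := 0) (i' := a) (by simp) ((ComplexShape.boundaryGE_embeddingUpIntGE_iff a 0).2 rfl)).symm

/-- restriction of a derived pullback -/
lemma nonempty_lpull_restrict {X₀ X : Scheme.{u}} (i : X₀ ⟶ X) [DCoh.HasLpull i] (O : X.Opens)
    [DCoh.HasLpull (i ∣_ O)] (K : DCoh.D X) :
    Nonempty ((DCoh.Lpull (i ∣_ O)).obj ((RD O.ι).obj K) ≅ (RD (i ⁻¹ᵁ O).ι).obj ((DCoh.Lpull i).obj K)) := by
  haveI := KFlat.hasLpull ((i ∣_ O) ≫ O.ι)
  haveI := KFlat.hasLpull ((i ⁻¹ᵁ O).ι ≫ i)
  obtain ⟨G, hG, -, ⟨eG⟩⟩ := KFlat.exists_isKFlat_rep K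
  obtain ⟨e1⟩ := nonempty_lpull_rd O (i ∣_ O) _ rfl K
  exact ⟨e1 ≪≫ (DCoh.Lpull _).mapIso eG.symm ≪≫ ProjForm.lpullIso _ hG ≪≫
    DerivedCategory.Q.mapIso ((NatIso.mapHomologicalComplex (Scheme.Modules.pullbackCongr (morphismRestrict_ι i O))
      (ComplexShape.up ℤ)).app G ≪≫
      ((NatIso.mapHomologicalComplex (Scheme.Modules.pullbackComp (i ⁻¹ᵁ O).ι i) (ComplexShape.up ℤ)).symm).app G ≪≫
      ((Functor.mapHomologicalComplexCompIso (Iso.refl _) (ComplexShape.up ℤ)).app G) ≪≫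
      (rCIsoQC (i ⁻¹ᵁ O).ι ((qC i).obj G)).symm) ≪≫
    (rdIso (i ⁻¹ᵁ O).ι _).symm ≪≫
    (RD (i ⁻¹ᵁ O).ι).mapIso ((ProjForm.lpullIso i hG).symm ≪≫ (DCoh.Lpull i).mapIso eG)⟩

section Quot

variable {R : Type u} [CommRing R] (I : Ideal R)

/-- the map to the local rings -/
noncomputable abbrev stAlg {X : Scheme.{u}} (g : X ⟶ Spec (CommRingCat.of R)) (x : X) : R →+* X.presheaf.stalk x :=
  (X.presheaf.germ ⊤ x trivial).hom.comp ((Scheme.ΓSpecIso (CommRingCat.of R)).inv ≫ g.appTop).hom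

/-- the map to sections -/
noncomputable abbrev secAlg {X : Scheme.{u}} (g : X ⟶ Spec (CommRingCat.of R)) (U : X.Opens) : R →+* Γ(X, U) :=
  (X.presheaf.map (homOfLE le_top).op).hom.comp ((Scheme.ΓSpecIso (CommRingCat.of R)).inv ≫ g.appTop).hom

lemma germ_comp_secAlg {X : Scheme.{u}} (g : X ⟶ Spec (CommRingCat.of R)) (U : X.Opens) (x : X) (hx : x ∈ U) :
    (X.presheaf.germ U x hx).hom.comp (secAlg g U) = stAlg g x := RingHom.ext fun c => by
  show (X.presheaf.map _ ≫ X.presheaf.germ U x hx) _ = _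
  rw [X.presheaf.germ_res]
  rfl

lemma secAlg_eq_appLE {X : Scheme.{u}} (g : X ⟶ Spec (CommRingCat.of R)) (U : X.Opens) :
    secAlg g U = (g.appLE ⊤ U le_top).hom.comp (Scheme.ΓSpecIso (CommRingCat.of R)).inv.hom := rfl

variable {X X₀ : Scheme.{u}} {g : X ⟶ Spec (CommRingCat.of R)} {k : X₀ ⟶ X}
  {f₁ : X₀ ⟶ Spec (CommRingCat.of (R ⧸ I))}

lemma appTop_quot (hw : k ≫ g = f₁ ≫ Spec.map (CommRingCat.ofHom (Ideal.Quotient.mk I))) (r : R) :
    k.appTop (((Scheme.ΓSpecIso (CommRingCat.of R)).inv ≫ g.appTop) r) =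
      f₁.appTop ((Scheme.ΓSpecIso (CommRingCat.of (R ⧸ I))).inv (Ideal.Quotient.mk I r)) := by
  show (((Scheme.ΓSpecIso (CommRingCat.of R)).inv ≫ g.appTop) ≫ k.appTop) r = _
  rw [Category.assoc, ← Scheme.Hom.comp_appTop, hw, Scheme.Hom.comp_appTop, ← Category.assoc,
    ← Scheme.ΓSpecIso_inv_naturality]
  rfl

/-- the kernel of the map of local rings of a reduction -/
theorem ker_stalkMap_quot [IsClosedImmersion k]
    (hsq : IsPullback k f₁ g (Spec.map (CommRingCat.ofHom (Ideal.Quotient.mk I)))) (y : X₀) :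
    RingHom.ker (k.stalkMap y).hom = I.map (stAlg g (k.base y)) := by
  obtain ⟨U, hU, hy⟩ := QC.exists_affine_mem (k.base y)
  rw [CMFlat.ker_stalkMap_eq k y ⟨U, hU⟩ hy, ← germ_comp_secAlg g U _ hy, ← Ideal.map_map]
  congr 1
  refine le_antisymm (fun x hx => ?_) (Ideal.map_le_iff_le_comap.2 fun r hr => ?_)
  · let q : Γ(X, U) →+* Γ(X, U) ⧸ I.map (secAlg g U) := Ideal.Quotient.mk _
    have hU0 : k ⁻¹ᵁ U = k ⁻¹ᵁ U ⊓ f₁ ⁻¹ᵁ ⊤ := by simp
    have hP := (isIso_pushoutSection_iff hsq (US := ⊤) (UT := ⊤) (UX := U) (UY := k ⁻¹ᵁ U) le_top le_top hU0).1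
      (isIso_pushoutSection_of_isAffineOpen hsq _ _ _ (isAffineOpen_top _) (isAffineOpen_top _) hU)
    let r : Γ(Spec (CommRingCat.of (R ⧸ I)), ⊤) →+* Γ(X, U) ⧸ I.map (secAlg g U) :=
      (Ideal.Quotient.lift I (q.comp (secAlg g U)) (fun c hc =>
        Ideal.Quotient.eq_zero_iff_mem.2 (Ideal.mem_map_of_mem _ hc))).comp
        (Scheme.ΓSpecIso (CommRingCat.of (R ⧸ I))).hom.hom
    have hw : g.appLE ⊤ U le_top ≫ CommRingCat.ofHom q =
        (Spec.map (CommRingCat.ofHom (Ideal.Quotient.mk I))).appLE ⊤ ⊤ le_top ≫ CommRingCat.ofHom r := by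
      rw [← cancel_epi (Scheme.ΓSpecIso (CommRingCat.of R)).inv]
      have e1 : (Spec.map (CommRingCat.ofHom (Ideal.Quotient.mk I))).appLE ⊤ ⊤ le_top =
          (Spec.map (CommRingCat.ofHom (Ideal.Quotient.mk I))).appTop := by
        rw [Scheme.Hom.appTop, Scheme.Hom.app_eq_appLE]; rfl
      rw [e1, ← Category.assoc, ← Category.assoc, ← Scheme.ΓSpecIso_inv_naturality, Category.assoc,
        Category.assoc]
      ext c
      show q (secAlg g U c) = Ideal.Quotient.lift I (q.comp (secAlg g U))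
        (fun c hc => Ideal.Quotient.eq_zero_iff_mem.2 (Ideal.mem_map_of_mem _ hc))
        ((Scheme.ΓSpecIso (CommRingCat.of (R ⧸ I))).hom
          ((Scheme.ΓSpecIso (CommRingCat.of (R ⧸ I))).inv (Ideal.Quotient.mk I c)))
      rw [← CommRingCat.comp_apply, Iso.inv_hom_id]
      rfl
    have e2 := ConcreteCategory.congr_hom (hP.inl_desc _ _ hw) x
    rw [CommRingCat.comp_apply] at e2
    refine Ideal.Quotient.eq_zero_iff_mem.1 ?_
    change q x = 0
    rw [← show (CommRingCat.ofHom q) x = q x from rfl, ← e2]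
    simp only [← Scheme.Hom.app_eq_appLE]
    rw [show (k.app U) x = 0 from hx, map_zero]
  · rw [Ideal.mem_comap, RingHom.mem_ker]
    show (X.presheaf.map (homOfLE le_top).op ≫ k.app U) (((Scheme.ΓSpecIso (CommRingCat.of R)).inv ≫ g.appTop) r) = 0
    rw [Scheme.Hom.naturality, CommRingCat.comp_apply]
    show X₀.presheaf.map _ (k.appTop _) = 0
    rw [appTop_quot I hsq.w, Ideal.Quotient.eq_zero_iff_mem.2 hr, map_zero, map_zero, map_zero]

/-- compatibility of the maps to the local rings -/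
lemma stAlg_quot (hw : k ≫ g = f₁ ≫ Spec.map (CommRingCat.ofHom (Ideal.Quotient.mk I))) (y : X₀) (r : R) :
    (k.stalkMap y).hom (stAlg g (k.base y) r) = stAlg f₁ y (Ideal.Quotient.mk I r) := by
  show (k.stalkMap y).hom (X.presheaf.germ ⊤ (k.base y) trivial
    (((Scheme.ΓSpecIso (CommRingCat.of R)).inv ≫ g.appTop) r)) = X₀.presheaf.germ ⊤ y trivial _
  refine (Scheme.Hom.germ_stalkMap_apply k ⊤ y trivial _).trans ?_
  exact congrArg _ (appTop_quot I hw r)

/-- the map to the local rings through the local ring of the base -/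
lemma stalkMap_stAlg (r : R) (x : X) :
    (g.stalkMap x).hom (stAlg (𝟙 (Spec (CommRingCat.of R))) (g.base x) r) = stAlg g x r := by
  refine (Scheme.Hom.germ_stalkMap_apply g ⊤ x trivial _).trans ?_
  rfl

lemma isLocalization_stAlg (p : Spec (CommRingCat.of R)) :
    letI := (stAlg (𝟙 (Spec (CommRingCat.of R))) p).toAlgebra
    ∃ S : Submonoid R, IsLocalization S ((Spec (CommRingCat.of R)).presheaf.stalk p) := by
  letI := (stAlg (𝟙 (Spec (CommRingCat.of R))) p).toAlgebra
  let hT := isAffineOpen_top (Spec (CommRingCat.of R))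
  letI := TopCat.Presheaf.algebra_section_stalk (Spec (CommRingCat.of R)).presheaf
    (⟨p, trivial⟩ : (⊤ : (Spec (CommRingCat.of R)).Opens))
  haveI := hT.isLocalization_stalk (⟨p, trivial⟩ : (⊤ : (Spec (CommRingCat.of R)).Opens))
  let e : Γ(Spec (CommRingCat.of R), ⊤) ≃+* R := (Scheme.ΓSpecIso (CommRingCat.of R)).commRingCatIsoToRingEquiv
  exact ⟨_, IsLocalization.isLocalization_of_base_ringEquiv (hT.primeIdealOf ⟨p, trivial⟩).asIdeal.primeCompl _ e⟩

lemma flat_stAlg (p : Spec (CommRingCat.of R)) :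
    (stAlg (𝟙 (Spec (CommRingCat.of R))) p).Flat := by
  obtain ⟨S, hS⟩ := isLocalization_stAlg p
  letI := (stAlg (𝟙 (Spec (CommRingCat.of R))) p).toAlgebra
  exact RingHom.flat_algebraMap_iff.2 (IsLocalization.flat _ S)

/-- **exactness and relative flatness at a point of the reduction** -/
theorem exact_flat_quot [Flat g] [LocallyOfFinitePresentation g] [IsClosedImmersion k]
    (hsq : IsPullback k f₁ g (Spec.map (CommRingCat.ofHom (Ideal.Quotient.mk I))))
    {E : CochainComplex X.Modules ℤ} (hl : ∀ i, FlatMod.IsFinLocFree (E.X i)) {n a : ℤ} (hn : n + 1 < a)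
    (hz : ∀ j, n < j → j < a → IsZero (((qC k).obj E).homology j)) (y : X₀)
    (hfl : FlatMod.IsFlatOverAt f₁ ((Scheme.Modules.pullback k).obj (cokernel (E.d (a - 1) a))) y) :
    (∀ j, n < j → j < a → IsZero ((DerSch.stalkFunctor X (k.base y)).obj (E.homology j))) ∧
      FlatMod.IsFlatOverAt g (cokernel (E.d (a - 1) a)) (k.base y) := by
  let x := k.base y
  let B := X.presheaf.stalk x
  obtain ⟨U, hU, hxU⟩ := QC.exists_affine_mem x
  letI : Algebra R Γ(X, U) := (secAlg g U).toAlgebra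
  haveI : Algebra.FinitePresentation R Γ(X, U) := by
    have h : (secAlg g U).FinitePresentation := by
      rw [secAlg_eq_appLE]
      exact RingHom.FinitePresentation.comp (g.finitePresentation_appLE (isAffineOpen_top _) hU le_top)
        (RingHom.FinitePresentation.of_bijective
          (ConcreteCategory.bijective_of_isIso (Scheme.ΓSpecIso (CommRingCat.of R)).inv))
    exact h
  haveI : Module.Flat R Γ(X, U) := by
    refine RingHom.flat_algebraMap_iff.1 ?_
    change (secAlg g U).Flat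
    rw [secAlg_eq_appLE]
    exact RingHom.Flat.comp (RingHom.Flat.of_bijective
      (ConcreteCategory.bijective_of_isIso (Scheme.ΓSpecIso (CommRingCat.of R)).inv))
        (HasRingHomProperty.appLE (P := @Flat) g inferInstance ⟨⊤, isAffineOpen_top _⟩ ⟨U, hU⟩ le_top)
  let q := (hU.primeIdealOf ⟨x, hxU⟩).asIdeal
  letI := TopCat.Presheaf.algebra_section_stalk X.presheaf (⟨x, hxU⟩ : U)
  haveI : IsLocalization.AtPrime B q := hU.isLocalization_stalk ⟨x, hxU⟩
  letI : Algebra R B := (stAlg g x).toAlgebra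
  haveI : IsScalarTower R Γ(X, U) B := IsScalarTower.of_algebraMap_eq fun r =>
    (RingHom.congr_fun (germ_comp_secAlg g U x hxU) r).symm
  haveI : Module.Flat R B :=
    haveI : Module.Flat Γ(X, U) B := IsLocalization.flat _ q.primeCompl
    Module.Flat.trans R Γ(X, U) B
  let θ := (k.stalkMap y).hom
  have hker : RingHom.ker θ = I.map (algebraMap R B) := ker_stalkMap_quot I hsq y
  have hθ : Function.Surjective θ := k.stalkMap_surjective y
  have hI : I ≤ q.comap (algebraMap R Γ(X, U)) := fun r hr => by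
    rw [Ideal.mem_comap, ← IsLocalization.AtPrime.to_map_mem_maximal_iff B q, ← IsScalarTower.algebraMap_apply]
    exact IsLocalRing.le_maximalIdeal (RingHom.ker_ne_top θ) (hker.ge (Ideal.mem_map_of_mem _ hr))
  have hsmul : ∀ (V : Type u) [AddCommGroup V] [Module B V] [Module R V] [IsScalarTower R B V] (v : V),
      v ∈ RingHom.ker θ • (⊤ : Submodule B V) ↔ v ∈ I • (⊤ : Submodule R V) := fun V _ _ _ _ v => by
    rw [hker, ← Submodule.restrictScalars_mem R, Submodule.restrictScalars_map_smul_eq,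
      Submodule.restrictScalars_top]
  let P := (KFlat.stCx x).obj E
  have hP : ∀ i, Module.Finite B (P.X i) ∧ Module.Free B (P.X i) := fun i => finiteFree_stalk (hl i) x
  letI hmR : ∀ M : ModuleCat.{u} B, Module R M := fun M => Module.compHom M (algebraMap R B)
  haveI htR : ∀ M : ModuleCat.{u} B, IsScalarTower R B M := fun M => IsScalarTower.of_compHom R B M
  -- the reduced cokernel
  let Cm := cokernel (E.d (a - 1) a)
  let Cst : ModuleCat.{u} B := (DerSch.stalkFunctor X x).obj Cm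
  have hflC : Module.Flat (R ⧸ I) (Cst ⧸ I • (⊤ : Submodule R Cst)) := by
    let B' := X₀.presheaf.stalk y
    letI : Algebra B B' := θ.toAlgebra
    let ρ := stAlg (𝟙 (Spec (CommRingCat.of (R ⧸ I)))) (f₁.base y)
    let N := (stA f₁ y).obj ((Scheme.Modules.pullback k).obj Cm)
    letI : Module (R ⧸ I) N := Module.compHom N ρ
    letI : Module R N := Module.compHom N (Ideal.Quotient.mk I)
    haveI : IsScalarTower R (R ⧸ I) N := IsScalarTower.of_compHom R (R ⧸ I) N
    haveI : Module.Flat (R ⧸ I) N := by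
      letI := ρ.toAlgebra
      haveI : IsScalarTower (R ⧸ I) ((Spec (CommRingCat.of (R ⧸ I))).presheaf.stalk (f₁.base y)) N :=
        IsScalarTower.of_compHom _ _ N
      haveI : Module.Flat (R ⧸ I) ((Spec (CommRingCat.of (R ⧸ I))).presheaf.stalk (f₁.base y)) :=
        RingHom.flat_algebraMap_iff.1 (flat_stAlg (R := R ⧸ I) (f₁.base y))
      haveI : Module.Flat ((Spec (CommRingCat.of (R ⧸ I))).presheaf.stalk (f₁.base y)) N := hfl
      exact Module.Flat.trans (R ⧸ I) ((Spec (CommRingCat.of (R ⧸ I))).presheaf.stalk (f₁.base y)) N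
    let ex := ((KFlat.pullStalkIso k y).app Cm).toLinearEquiv
    let Ψ : Cst →ₗ[R] N :=
      { toFun := fun m => ex.symm ((1 : B') ⊗ₜ[B] m)
        map_add' := fun m m' => (congrArg ex.symm (TensorProduct.tmul_add (1 : B') m m')).trans (map_add _ _ _)
        map_smul' := fun r m => by
          have e0 : ((1 : B') ⊗ₜ[B] ((stAlg g x r) • m)) = (θ (stAlg g x r) * 1) ⊗ₜ[B] m :=
            (TensorProduct.smul_tmul (stAlg g x r) (1 : B') m).symm
          have e1 : θ (stAlg g x r) =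
              (f₁.stalkMap y).hom (ρ (Ideal.Quotient.mk I r)) := by
            rw [stAlg_quot I hsq.w y r, ← stalkMap_stAlg (g := f₁)]
          refine (congrArg ex.symm e0).trans
            ((map_smul ex.symm (θ (stAlg g x r)) ((1 : B') ⊗ₜ[B] m)).trans ?_)
          exact congrArg (fun c : X₀.presheaf.stalk y => c • ex.symm ((1 : B') ⊗ₜ[B] m)) e1 }
    obtain ⟨hz1, hz2⟩ := tmul_one_facts θ hθ Cst
    have hΨs : Function.Surjective Ψ := fun z => by
      obtain ⟨m, hm⟩ := hz2 (ex z)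
      exact ⟨m, (congrArg ex.symm hm).trans (ex.symm_apply_apply z)⟩
    have hΨk : LinearMap.ker Ψ = I • (⊤ : Submodule R Cst) := by
      ext m
      rw [LinearMap.mem_ker, ← hsmul Cst m, ← hz1 m]
      exact ⟨fun h => ex.symm.injective (h.trans (map_zero ex.symm).symm),
        fun h => (congrArg ex.symm h).trans (map_zero _)⟩
    let e : (Cst ⧸ I • (⊤ : Submodule R Cst)) ≃ₗ[R] N :=
      (Submodule.quotEquivOfEq _ _ hΨk.symm).trans (Ψ.quotKerEquivOfSurjective hΨs)
    exact Module.Flat.of_linearEquiv (LinearEquiv.extendScalarsOfSurjective Ideal.Quotient.mk_surjective e)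
  have hC : ∀ p p', p = a - 1 → p' = a → Module.Flat (R ⧸ I) ((P.X p' ⧸ LinearMap.range (P.d p p').hom) ⧸
      I • (⊤ : Submodule R (P.X p' ⧸ LinearMap.range (P.d p p').hom))) := by
    rintro p p' rfl rfl
    let e := ((PreservesCokernel.iso (DerSch.stalkFunctor X x) (E.d (p' - 1) p') ≪≫
      ModuleCat.cokernelIsoRangeQuotient _).toLinearEquiv).restrictScalars R
    refine @Module.Flat.of_linearEquiv _ _ _ _ _ _ _ _ hflC
      (LinearEquiv.extendScalarsOfSurjective Ideal.Quotient.mk_surjective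
        (Submodule.Quotient.equiv _ _ e.symm ?_))
    rw [Submodule.map_smul'', Submodule.map_top, LinearEquiv.range]
  -- the homological indexing
  let M : ℕ → ModuleCat.{u} B := fun m => P.X (a - m)
  haveI : ∀ m, Module.Finite B (M m) := fun m => (hP _).1
  haveI : ∀ m, Module.Free B (M m) := fun m => (hP _).2
  let d : ∀ m : ℕ, M (m + 1) →ₗ[B] M m := fun m => (P.d (a - ((m + 1 : ℕ) : ℤ)) (a - m)).hom
  have hmod : ∀ m < (a - n - 1).toNat, ∀ v : M (m + 1), d m v ∈ I • (⊤ : Submodule R (M m)) →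
      ∃ w : M (m + 2), v - d (m + 1) w ∈ I • (⊤ : Submodule R (M (m + 1))) := by
    intro m hm v hv
    obtain ⟨hz1, hz2⟩ := tmul_one_facts θ hθ (M m)
    obtain ⟨hz3, hz4⟩ := tmul_one_facts θ hθ (M (m + 1))
    obtain ⟨-, hz5⟩ := tmul_one_facts θ hθ (M (m + 2))
    let e₁ : ((DerSch.stalkFunctor _ y).mapHomologicalComplex (ComplexShape.up ℤ)).obj ((qC k).obj E) ≅
        (DRingKP.bc θ).obj P :=
      HomologicalComplex.Hom.isoOfComponents (fun i => ((KFlat.pullStalkIso k y).app (E.X i)))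
        (fun p p' _ => ((KFlat.pullStalkIso k y).hom.naturality (E.d p p')).symm)
    have hzero : IsZero (((DRingKP.bc θ).obj P).homology (a - ((m + 1 : ℕ) : ℤ))) :=
      IsZero.of_iso ((DerSch.stalkFunctor _ y).map_isZero (hz _ (by lia) (by lia)))
        ((HomologicalComplex.homologyFunctor _ _ _).mapIso e₁.symm ≪≫
          (((qC k).obj E).sc _).mapHomologyIso (DerSch.stalkFunctor _ y))
    have hex := (exactAt_iff_isZero_homology _ _).2 hzero
    rw [HomologicalComplex.exactAt_iff' _ (a - ((m + 1 + 1 : ℕ) : ℤ)) _ (a - (m : ℤ)) (by simp; lia) (by simp; lia),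
      ShortComplex.moduleCat_exact_iff] at hex
    letI : Algebra B (X₀.presheaf.stalk y) := θ.toAlgebra
    obtain ⟨w', hw'⟩ := hex ((1 : X₀.presheaf.stalk y) ⊗ₜ[B] v)
      ((ModuleCat.ExtendScalars.map_tmul θ (P.d _ _) 1 v).trans ((hz1 _).2 ((hsmul _ _).2 hv)))
    obtain ⟨w, rfl⟩ := hz5 w'
    refine ⟨w, (hsmul _ _).1 ((hz3 _).1 ?_)⟩
    rw [TensorProduct.tmul_sub, sub_eq_zero]
    exact hw'.symm.trans (ModuleCat.ExtendScalars.map_tmul θ (P.d _ _) 1 w)
  obtain ⟨h1, h2⟩ := exact_flat_of_mod (S := Γ(X, U)) q hI (fun m => (M m : Type u)) d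
    (fun m v => LinearMap.congr_fun (congrArg ModuleCat.Hom.hom (P.d_comp_d _ _ _)) v)
    (a - n - 1).toNat (by lia) hmod (hC _ _ (by simp) (by simp))
  refine ⟨fun j hj hja => ?_, ?_⟩
  · obtain ⟨m, rfl⟩ : ∃ m : ℕ, j = a - ((m + 1 : ℕ) : ℤ) := ⟨(a - j - 1).toNat, by lia⟩
    refine IsZero.of_iso ?_ ((E.sc _).mapHomologyIso (DerSch.stalkFunctor X x)).symm
    refine ((exactAt_iff_isZero_homology P _).1 ?_)
    rw [HomologicalComplex.exactAt_iff' P (a - ((m + 1 + 1 : ℕ) : ℤ)) _ (a - (m : ℤ))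
      (by simp; lia) (by simp; lia), ShortComplex.moduleCat_exact_iff]
    exact fun v hv => h1 m (by lia) v hv
  · rw [isFlatOverAt_iff]
    obtain ⟨S₀, hS₀⟩ := isLocalization_stAlg (R := R) (g.base x)
    let ρ := stAlg (𝟙 (Spec (CommRingCat.of R))) (g.base x)
    letI := ρ.toAlgebra
    let N := (stA g x).obj Cm
    letI : Module R N := Module.compHom N ρ
    haveI : IsScalarTower R ((Spec (CommRingCat.of R)).presheaf.stalk (g.base x)) N :=
      IsScalarTower.of_compHom _ _ N
    refine (Module.flat_iff_of_isLocalization ((Spec (CommRingCat.of R)).presheaf.stalk (g.base x)) S₀ (M := N)).2 ?_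
    have h3 : ∀ p p', p = a - 1 → p' = a → Module.Flat R (P.X p' ⧸ LinearMap.range (P.d p p').hom) →
        Module.Flat R N := by
      rintro p p' rfl rfl h
      let e := ((PreservesCokernel.iso (DerSch.stalkFunctor X x) (E.d (p' - 1) p') ≪≫
        ModuleCat.cokernelIsoRangeQuotient _).toLinearEquiv).restrictScalars R
      refine @Module.Flat.of_linearEquiv _ _ _ _ _ _ _ _ h (LinearEquiv.trans (?_ : N ≃ₗ[R] Cst) e)
      exact
        { toFun := fun v => v
          invFun := fun v => v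
          map_add' := fun _ _ => rfl
          map_smul' := fun r v => congrArg (fun c : B => c • (show ↥Cst from v)) (stalkMap_stAlg (g := g) r x)
          left_inv := fun _ => rfl
          right_inv := fun _ => rfl }
    exact h3 _ _ (by simp) (by simp) h2

end Quot

end Groth.Agent.KSixLib
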