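import Groth.Agent.KSixLib.Rel
import Groth.Agent.RelPCS.FlatFP
import Groth.Agent.KoszulLib.SchStalk
import Groth.Agent.S7070
import Groth.Prelude.Def_RegImm

/-!
# Koszul-regular immersions have finite perfect dimension
-/

set_option backward.isDefEq.respectTransparency false
set_option backward.isDefEq.respectTransparency.types false
set_option linter.style.haveILetI false
set_option autoImplicit false

universe u

open CategoryTheory Limits AlgebraicGeometry HomologicalComplex
open scoped TensorProduct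

attribute [local instance] HasDerivedCategory.standard

namespace Groth.Agent.KSixLib

section Ring

open Groth.Agent.DRingKP

variable {R : Type u} [CommRing R]

lemma amp_koszul (l : List R) :
    DRing.HasTorAmplitudeIn R (-(l.length : ℤ)) 0 (DRing.toD (Koszul.koszul R l)) := by
  induction l with
  | nil =>
    exact amp_of_iso ((DerivedCategory.singleFunctorIsoCompQ (ModuleCat.{u} R) 0).app _)
      (by simpa using (amp_zero_iff_flat (A := R) R).2 inferInstance)
  | cons f l ih =>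
    have h1 := amp_widen (a' := -((f :: l).length : ℤ) + 1) (b' := (1 : ℤ) + 1) (by simp) (by lia) ih
    have h2 := amp_widen (a' := -((f :: l).length : ℤ)) (b' := (1 : ℤ)) (by simp) (by lia) ih
    exact amp_shrink (amp_obj₃ _ (DerivedCategory.mappingCone_triangle_distinguished (f • 𝟙 (Koszul.koszul R l))) h1 h2)
      fun i hi => (S7070.koszul_top (f :: l)).1 i (by lia)

lemma amp_quot_koszul (l : List R) (h : LCI.IsKoszulRegularSeq R l) :
    DRing.HasTorAmplitudeIn R (-(l.length : ℤ)) 0 (Dual.inD R (R ⧸ Ideal.ofList l)) := by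
  let K := DRing.toD (Koszul.koszul R l)
  have hz : ∀ i : ℤ, i ≠ 0 → IsZero ((S7070.HR R i).obj K) := fun i hi =>
    (h i hi).of_iso ((DerivedCategory.homologyFunctorFactors (ModuleCat.{u} R) i).app _)
  haveI : K.IsLE 0 := (DerivedCategory.isLE_iff K 0).2 fun i hi => hz i (by lia)
  haveI : K.IsGE 0 := (DerivedCategory.isGE_iff K 0).2 fun i hi => hz i (by lia)
  obtain ⟨Y, ⟨eY⟩⟩ := DerivedCategory.exists_iso_singleFunctor_obj_of_isGE_of_isLE K 0
  obtain ⟨e⟩ := (S7070.koszul_top l).2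
  exact amp_of_iso (eY ≪≫ (DerivedCategory.singleFunctor (ModuleCat.{u} R) 0).mapIso
    (((hdInD Y).symm ≪≫ (S7070.HR R 0).mapIso eY.symm) ≪≫ e)) (amp_koszul l)

/-- quotients as algebras -/
noncomputable def quotKerEquiv {S : Type u} [CommRing S] [Algebra R S]
    (hs : Function.Surjective (algebraMap R S)) {I : Ideal R} (hI : RingHom.ker (algebraMap R S) = I) :
    (R ⧸ I) ≃ₗ[R] S :=
  (Ideal.quotientEquivAlgOfEq R hI.symm).toLinearEquiv.trans
    (Ideal.quotientKerAlgEquivOfSurjective (f := Algebra.ofId R S) hs).toLinearEquiv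

/-- surjections with Koszul-regular kernel are pseudo-coherent -/
lemma pcHom_of_koszul {S : Type u} [CommRing S] (ψ : R →+* S) (hψ : Function.Surjective ψ) (l : List R)
    (h : LCI.IsKoszulRegularSeq R l) (hI : RingHom.ker ψ = Ideal.ofList l) : RelPC.PCHom ψ := by
  letI := ψ.toAlgebra
  exact pc'_of_isPerfect (PerfLocal.isPerfect_of_iso
    ((DerivedCategory.singleFunctor (ModuleCat.{u} R) 0).mapIso (quotKerEquiv hψ hI).toModuleIso ≪≫
      (RelPC.algebraIso R S).symm) (S7070.isPerfectModule_of_koszul l h))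

end Ring

variable {Z X : Scheme.{u}} (i : Z ⟶ X)

/-- the tor amplitude at a point -/
theorem torAmpAt_koszul [IsImmersion i] (z : Z) {U : X.affineOpens} (hc : IsClosedImmersion (i ∣_ U.1))
    (hz : i z ∈ U.1) (rs : List Γ(X, U.1)) (hrs : LCI.IsKoszulRegularSeq Γ(X, U.1) rs)
    (hker : RingHom.ker (i.app U.1).hom = Ideal.ofList rs) :
    DerSch.HasTorAmplitudeAt i (-(rs.length : ℤ)) 0 (DerSch.unitCx Z) z := by
  let R := Γ(X, U.1)
  let A := X.presheaf.stalk (i.base z)
  let B := Z.presheaf.stalk z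
  letI : Algebra R A := (X.presheaf.germ U.1 (i.base z) hz).hom.toAlgebra
  letI : Algebra A B := (i.stalkMap z).hom.toAlgebra
  haveI : IsLocalization (U.2.primeIdealOf ⟨_, hz⟩).asIdeal.primeCompl A := U.2.isLocalization_stalk ⟨_, hz⟩
  haveI : Module.Flat R A := IsLocalization.flat A (U.2.primeIdealOf ⟨_, hz⟩).asIdeal.primeCompl
  let I := Ideal.ofList rs
  have h0 := S7066.amp_baseChange (P := A) _ _ (R ⧸ I) (amp_quot_koszul rs hrs)
  let e1 : A ⊗[R] (R ⧸ I) ≃ₗ[A] A ⧸ I.map (algebraMap R A) :=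
    LinearEquiv.extendScalarsOfIsLocalization (U.2.primeIdealOf ⟨_, hz⟩).asIdeal.primeCompl A
      ((TensorProduct.tensorQuotEquivQuotSMul A I).trans
        ((Submodule.quotEquivOfEq _ _ (Ideal.smul_top_eq_map I)).trans
          (Submodule.Quotient.restrictScalarsEquiv R (I.map (algebraMap R A)))))
  have hk : RingHom.ker (algebraMap A B) = I.map (algebraMap R A) := by
    refine (KoszulLib.ker_stalkMap_eq i z U hc hz).trans ?_
    rw [hker]
    rfl
  let e2 : (A ⧸ I.map (algebraMap R A)) ≃ₗ[A] B := quotKerEquiv (i.stalkMap_surjective z) hk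
  let eI : ((ModuleCat.restrictScalars.{u} (i.stalkMap z).hom).obj (ModuleCat.of B B)) ≃ₗ[A] B :=
    { toFun := fun t => t
      invFun := fun t => t
      map_add' := fun _ _ => rfl
      map_smul' := fun _ _ => rfl
      left_inv := fun _ => rfl
      right_inv := fun _ => rfl }
  let e3 : ModuleCat.of A (A ⊗[R] (R ⧸ I)) ≅ (DQCoh.stA i z).obj (Coh.structureModule Z) :=
    ((e1.trans e2).trans eI.symm).toModuleIso ≪≫
      (ModuleCat.restrictScalars.{u} (i.stalkMap z).hom).mapIso (stOneIso z)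
  exact DRingKP.amp_of_iso ((DerivedCategory.singleFunctor (ModuleCat.{u} A) 0).mapIso e3 ≪≫
    (DerivedCategory.singleFunctorIsoCompQ _ 0).app _ ≪≫
    DerivedCategory.Q.mapIso
      ((HomologicalComplex.singleMapHomologicalComplex (DQCoh.stA i z) (ComplexShape.up ℤ) 0).app _).symm) h0

/-- pseudo-coherence of a closed immersion into an affine scheme -/
theorem rel_unit_of_pcHom {W W' : Scheme.{u}} (j : W' ⟶ W) [IsClosedImmersion j] [IsAffine W]
    (hpc : RelPC.PCHom (j.appLE ⊤ ⊤ le_rfl).hom) (m : ℤ) : DerSch.IsNPseudoCoherent j m := by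
  haveI : IsAffine W' := isAffine_of_isAffineHom j
  refine ⟨inferInstance, {⟨⊤, isAffineOpen_top W⟩}, iSup_singleton.trans rfl, fun V hV => ?_⟩
  obtain rfl := hV
  refine ⟨{⟨⊤, isAffineOpen_top W'⟩}, iSup_singleton.trans rfl, fun U hU hle => ?_⟩
  obtain rfl := hU
  let σ := (j.appLE (⊤ : W.Opens) (⊤ : W'.Opens) le_rfl).hom
  let e := MvPolynomial.isEmptyRingEquiv Γ(W, ⊤) (Fin 0)
  have hσ : Function.Surjective σ := by
    have := j.app_surjective ⊤ (isAffineOpen_top W)
    rwa [Scheme.Hom.app_eq_appLE] at this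
  refine ⟨0, σ.comp e.toRingHom, ⟨hσ.comp e.surjective, RingHom.ext fun r =>
    congrArg σ (e.apply_symm_apply r)⟩, (RelPCS.chartPC_iff (isAffineOpen_top W') _ _ (hσ.comp e.surjective)).2 ?_⟩
  exact (RelPCS.qpc_comp_iff (ψ := e.toRingHom) e.surjective (RelPC.pcHom_of_ringEquiv e) hσ).2
    (RelPCS.qpc_unit_of_pcHom (isAffineOpen_top W') hσ hpc m)

/-- **Koszul-regular immersions** -/
theorem perfDim_koszul (d : ℕ) (hi : RegImm.IsRegularImmersionOfCodim RegImm.Kind.koszul d i) :
    DerSch.HasPerfDimLE i d := by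
  haveI := hi.1
  choose U hzU hc rs hlen hseq hker using hi.2
  refine ⟨fun m => ?_, fun z => ?_⟩
  swap
  · exact hlen z ▸ torAmpAt_koszul i z (hc z) (hzU z) (rs z) (hseq z) (hker z)
  refine RelPCS.rel_of_cover (Xi := fun z : Z => (↑(i ⁻¹ᵁ (U z).1) : Scheme.{u}))
    (fun z => (i ⁻¹ᵁ (U z).1).ι) (fun z => ⟨z, ⟨z, hzU z⟩, rfl⟩) fun z => ?_
  let V := (U z).1
  haveI : IsAffine V := (U z).2
  haveI := hc z
  rw [← morphismRestrict_ι i V, RelPCS.rel_comp_flat_iff]
  have key : ∀ (U₂ : X.Opens) (W₂ : Z.Opens) (_ : U₂ = V) (_ : W₂ = i ⁻¹ᵁ V) (e : W₂ ≤ i ⁻¹ᵁ U₂),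
      RelPC.PCHom (i.appLE U₂ W₂ e).hom := by
    intro U₂ W₂ h1 h2 e
    subst h1 h2
    rw [← Scheme.Hom.app_eq_appLE]
    exact pcHom_of_koszul _ (KoszulLib.app_surjective i (hc z)) (rs z) (hseq z) (hker z)
  have hpc : RelPC.PCHom ((i ∣_ V).appLE ⊤ ⊤ le_rfl).hom := by
    rw [morphismRestrict_appLE]
    exact key _ _ (by simp) (by simp) _
  refine rel_of_iso _ ?_ (rel_unit_of_pcHom (i ∣_ V) hpc m)
  exact DerivedCategory.Q.mapIso
      ((HomologicalComplex.single _ (ComplexShape.up ℤ) 0).mapIso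
        (Scheme.Modules.restrictUnitIso (i ⁻¹ᵁ V).ι).symm ≪≫
      ((HomologicalComplex.singleMapHomologicalComplex (Scheme.Modules.restrictFunctor (i ⁻¹ᵁ V).ι)
        (ComplexShape.up ℤ) 0).app _).symm) ≪≫
    (DQCoh.rdIso (i ⁻¹ᵁ V).ι (DerSch.unitCx Z)).symm

end Groth.Agent.KSixLib
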