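import Groth.Agent.KSixLib.Open
import Groth.Agent.KSixLib.Abs
import Groth.Agent.KSixLib.Tensor
import Groth.Agent.DRingKP.TorMore
import Groth.Agent.DRingKP.Fibre2

/-!
# Perfectness near a point from the amplitude of the stalk
-/

set_option backward.isDefEq.respectTransparency false
set_option backward.isDefEq.respectTransparency.types false
set_option linter.style.haveILetI false
set_option autoImplicit false

universe u

open CategoryTheory Limits AlgebraicGeometry HomologicalComplex Pretriangulated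

attribute [local instance] HasDerivedCategory.standard

namespace Groth.Agent.KSixLib

section Ring

open Groth.Agent.DRingKP

variable {A : Type u} [CommRing A]

/-- the bottom term of a complex of the right amplitude is flat -/
theorem flat_bottom (T : DRing.Cx A) {a b : ℤ} (hab : a ≤ b) (hT : DRing.VanishesOutside T a b)
    (hTf : ∀ i, a < i → Module.Flat A (T.X i)) (h : DRing.HasTorAmplitudeIn A a b (DRing.toD T)) :
    Module.Flat A (T.X a) := by
  let σ := σGE T (a + 1)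
  have hσ : DRing.VanishesOutside σ (a + 1) b := σGE_vanishesOutside T (a + 1) b fun i hi => hT i (Or.inr hi)
  have hσf : DRing.TermwiseFlat σ := fun i => by
    by_cases hi : a + 1 ≤ i
    · haveI := isIso_σι_f T (a + 1) i hi
      haveI := hTf i (by lia)
      exact Module.Flat.of_linearEquiv (asIso ((σι T (a + 1)).f i)).toLinearEquiv
    · haveI := ModuleCat.subsingleton_of_isZero (hσ i (Or.inl (not_le.1 hi)))
      infer_instance
  have h1 : DRing.HasTorAmplitudeIn A (a + 1) (b + 1) (DRing.toD σ) :=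
    amp_widen le_rfl (by lia) ⟨σ, hσ, hσf, ⟨Iso.refl _⟩⟩
  let S := σSeq T (a + 1)
  have h3 : DRing.HasTorAmplitudeIn A a b (DRing.toD S.X₃) :=
    amp_obj₃ _ (DerivedCategory.triangleOfSES_distinguished (σSeq_shortExact T (a + 1))) h1 h
  have hQz : ∀ i, i ≠ a → IsZero (S.X₃.X i) := fun i hi => by
    rcases lt_or_gt_of_ne hi with hi | hi
    · haveI := isIso_σπ_f T (a + 1) i (by lia)
      exact (hT i (Or.inl hi)).of_iso (asIso (S.g.f i)).symm
    · exact isZero_σQuot T (a + 1) i (by lia)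
  haveI : S.X₃.IsStrictlyGE a := (CochainComplex.isStrictlyGE_iff _ a).2 fun i hi => hQz i (by lia)
  haveI : S.X₃.IsStrictlyLE a := (CochainComplex.isStrictlyLE_iff _ a).2 fun i hi => hQz i (by lia)
  obtain ⟨M, ⟨eM⟩⟩ := CochainComplex.exists_iso_single S.X₃ a
  haveI := isIso_σπ_f T (a + 1) a (by lia)
  let eMT : M ≅ T.X a := (singleObjXSelf (ComplexShape.up ℤ) a M).symm ≪≫
    ((HomologicalComplex.eval _ _ a).mapIso eM).symm ≪≫ (asIso (S.g.f a)).symm
  have h0 : DRing.HasTorAmplitudeIn A 0 (b - a) (Dual.inD A M) := by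
    have hs := amp_shift h3 a
    rw [sub_self] at hs
    exact amp_of_iso ((shiftFunctor (Dual.D A) a).mapIso (DerivedCategory.Q.mapIso eM ≪≫
        ((DerivedCategory.singleFunctorIsoCompQ (ModuleCat.{u} A) a).app M).symm) ≪≫
      ((DerivedCategory.singleFunctors (ModuleCat.{u} A)).shiftIso a 0 a (by lia)).app M) hs
  have hM : Module.Flat A M := (amp_zero_iff_flat (A := A) M).1
    (amp_shrink h0 (isAbove_single M 0))
  exact Module.Flat.of_linearEquiv eMT.toLinearEquiv.symm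

end Ring

open Groth.Agent.DQCoh

variable {X : Scheme.{u}}

/-- **perfect amplitude near a point** -/
theorem exists_perfAmp_nhd {K : DCoh.D X} {a b : ℤ} (hab : a ≤ b) (hGE : K.IsGE a) (hK : IsAboveD (b + 1) K)
    (hp : DCoh.IsPseudoCoherentD (a - 1) K) {x : X} (hx : RelAmpAt (𝟙 X) a b K x) :
    ∃ (V : X.Opens) (E : CochainComplex (V : Scheme.{u}).Modules ℤ), x ∈ V ∧ DCoh.VanishesOutside E a b ∧
      (∀ i : ℤ, FlatMod.IsFinLocFree (E.X i)) ∧ Nonempty ((RD V.ι).obj K ≅ DerivedCategory.Q.obj E) := by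
  haveI := hGE
  obtain ⟨F₀, hF₀, ⟨eF₀⟩⟩ := DerivedCategory.exists_iso_Q_obj_of_isGE K a
  obtain ⟨O, E, α, hxO, hE, hEb, hα⟩ := RelPCS.exists_approx_le (n := a - 1) (b := b) (by lia) hK hp x
  let F := (rC O.ι).obj F₀
  haveI : F.IsStrictlyGE a := (CochainComplex.isStrictlyGE_iff F a).2 fun i hi =>
    (Scheme.Modules.restrictFunctor O.ι).map_isZero (F₀.isZero_of_isStrictlyGE a i hi)
  let eF : DerivedCategory.Q.obj F ≅ (RD O.ι).obj K := (rdIso O.ι F₀).symm ≪≫ (RD O.ι).mapIso eF₀.symm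
  obtain ⟨E', s, hs, g, hg⟩ := DerivedCategory.right_fac (α ≫ eF.inv)
  have hqs : QuasiIso s := (DerivedCategory.isIso_Q_map_iff_quasiIso _ s).1 hs
  have hqg : ∀ i, a ≤ i → QuasiIsoAt g i := fun i hi => by
    rw [quasiIsoAt_iff_isIso_homologyMap]
    refine (NatIso.isIso_map_iff (DerivedCategory.homologyFunctorFactors (O : Scheme.{u}).Modules i) g).1 ?_
    have h1 : DerivedCategory.Q.map g = DerivedCategory.Q.map s ≫ α ≫ eF.inv := by
      rw [hg, IsIso.hom_inv_id_assoc]
    haveI := hα.1 i (by lia)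
    change IsIso ((DerivedCategory.homologyFunctor (O : Scheme.{u}).Modules i).map (DerivedCategory.Q.map g))
    rw [h1, Functor.map_comp, Functor.map_comp]
    infer_instance
  have q1 : QuasiIso (CochainComplex.truncGEMap s a) :=
    (CochainComplex.quasiIso_truncGEMap_iff s a).2 fun i _ => inferInstance
  have q2 : QuasiIso (CochainComplex.truncGEMap g a) := (CochainComplex.quasiIso_truncGEMap_iff g a).2 hqg
  have q3 : QuasiIso (F.πTruncGE a) := (CochainComplex.quasiIso_πTruncGE_iff F a).2 inferInstance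
  let τ := E.truncGE a
  let eτ : DCoh.toD (O : Scheme.{u}) τ ≅ (RD O.ι).obj K :=
    (@asIso _ _ _ _ _ ((DerivedCategory.isIso_Q_map_iff_quasiIso _ _).2 q1)).symm ≪≫
      (@asIso _ _ _ _ _ ((DerivedCategory.isIso_Q_map_iff_quasiIso _ _).2 q2)) ≪≫
      (@asIso _ _ _ _ _ ((DerivedCategory.isIso_Q_map_iff_quasiIso _ _).2 q3)).symm ≪≫ eF
  obtain ⟨-, hl⟩ := hE
  have hXgt : ∀ i, a < i → Nonempty (τ.X i ≅ E.X i) := fun i hi => by
    obtain ⟨k, rfl⟩ := Int.le.dest hi.le
    exact ⟨HomologicalComplex.truncGEXIso E (ComplexShape.embeddingUpIntGE a) (i := k) (by simp)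
      (fun h' => by have := (ComplexShape.boundaryGE_embeddingUpIntGE_iff a k).1 h'; lia)⟩
  have hv : DCoh.VanishesOutside τ a b := fun i hi => by
    rcases hi with hi | hi
    · exact τ.isZero_of_isStrictlyGE a i hi
    · obtain ⟨e⟩ := hXgt i (by lia)
      exact (hEb i hi).of_iso e
  let C := E.opcycles a
  let eC : τ.X a ≅ C := HomologicalComplex.truncGEXIsoOpcycles E (ComplexShape.embeddingUpIntGE a)
    (i := 0) (i' := a) (by simp) ((ComplexShape.boundaryGE_embeddingUpIntGE_iff a 0).2 rfl)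
  let eC' : cokernel (E.d (a - 1) a) ≅ C := (cokernelIsCokernel (E.d (a - 1) a)).coconePointUniqueUpToIso
    (E.opcyclesIsCokernel (a - 1) a (by simp))
  let x₀ : (O : Scheme.{u}) := ⟨x, hxO⟩
  have hamp : DRing.HasTorAmplitudeIn ((O : Scheme.{u}).presheaf.stalk x₀) a b
      (DRing.toD ((KFlat.stCx x₀).obj τ)) := by
    have h1 : RelAmpAt (O.ι ≫ 𝟙 X) a b (DerivedCategory.Q.obj ((DCoh.restrictCx O).obj F₀)) x₀ :=
      (relAmpAt_restrict_iff O F₀ a b x₀).2 (relAmpAt_of_iso eF₀ hx)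
    have h2 : DerSch.HasTorAmplitudeAt (O.ι ≫ 𝟙 X) a b τ x₀ :=
      (torAmpAt_iff _ a b τ x₀).2 (relAmpAt_of_iso (eF ≪≫ eτ.symm) h1)
    have h3 : DerSch.HasTorAmplitudeAt (𝟙 (O : Scheme.{u})) a b τ x₀ := by
      refine torAmpAt_of_openImm (𝟙 _) (O.ι ≫ 𝟙 X) τ x₀ ?_
      have key : ∀ (g' : (O : Scheme.{u}) ⟶ X), g' = O.ι ≫ 𝟙 X → DerSch.HasTorAmplitudeAt g' a b τ x₀ :=
        fun g' e => by subst e; exact h2
      exact key _ (Category.id_comp _)
    have hid : ((𝟙 (O : Scheme.{u}) : (O : Scheme.{u}) ⟶ _).stalkMap x₀).hom = RingHom.id _ :=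
      congrArg CommRingCat.Hom.hom (Scheme.Hom.stalkMap_id _ x₀)
    let i : DerSch.stalkFunctor (O : Scheme.{u}) x₀ ≅ stA (𝟙 _) x₀ :=
      (Functor.rightUnitor _).symm ≪≫ Functor.isoWhiskerLeft _ (ModuleCat.restrictScalarsId' _ hid).symm
    exact DRingKP.amp_of_iso (DerivedCategory.Q.mapIso
      (HomologicalComplex.Hom.isoOfComponents (fun n => i.app (τ.X n))
        (fun p q _ => (i.hom.naturality (τ.d p q)).symm)).symm) h3
  have hCflat : Module.Flat ((O : Scheme.{u}).presheaf.stalk x₀) ((cokernel (E.d (a - 1) a)).presheaf.stalk x₀) := by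
    have hfl := flat_bottom ((KFlat.stCx x₀).obj τ) hab
      (fun i hi => (DerSch.stalkFunctor _ x₀).map_isZero (hv i hi))
      (fun i hi => by
        obtain ⟨e⟩ := hXgt i hi
        exact @Module.Flat.of_linearEquiv _ _ _ _ _ _ _ _ (DerPerf.isFlat_of_isFinLocFree (hl i) x₀)
          ((DerSch.stalkFunctor _ x₀).mapIso e).toLinearEquiv) hamp
    exact @Module.Flat.of_linearEquiv _ _ _ _ _ _ _ _ hfl
      ((DerSch.stalkFunctor _ x₀).mapIso (eC' ≪≫ eC.symm)).toLinearEquiv
  obtain ⟨V, hxV, hV⟩ := exists_flat_nhd_cokernel (E.d (a - 1) a) (hl _) (hl _) x₀ hCflat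
  have hfree : ∀ i, FlatMod.IsFinLocFree ((Scheme.Modules.restrictFunctor V.ι).obj (τ.X i)) := fun i => by
    rcases lt_trichotomy i a with hi | rfl | hi
    · exact isFinLocFree_of_isZero ((Scheme.Modules.restrictFunctor V.ι).map_isZero (hv i (Or.inl hi)))
    · refine isFinLocFree_of_iso' ((Scheme.Modules.restrictFunctor V.ι).mapIso (eC' ≪≫ eC.symm)) ?_
      refine isFinLocFree_of_iso' (PreservesCokernel.iso (Scheme.Modules.restrictFunctor V.ι) _).symm ?_
      exact isFinLocFree_cokernel _ (isFinLocFree_restrict _ (hl _)) (isFinLocFree_restrict _ (hl _))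
        (KFlat.isFlat_of_iso (PreservesCokernel.iso (Scheme.Modules.restrictFunctor V.ι) _) hV)
    · obtain ⟨e⟩ := hXgt i hi
      exact isFinLocFree_of_iso' ((Scheme.Modules.restrictFunctor V.ι).mapIso e).symm
        (isFinLocFree_restrict _ (hl i))
  obtain ⟨k, hk, hkj⟩ := exists_opens (V.ι ≫ O.ι)
  refine ⟨(V.ι ≫ O.ι).opensRange, (rC k).obj ((rC V.ι).obj τ), ⟨⟨x₀, hxV⟩, rfl⟩,
    fun i hi => (Scheme.Modules.restrictFunctor k).map_isZero ((Scheme.Modules.restrictFunctor V.ι).map_isZero (hv i hi)),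
    fun i => isFinLocFree_restrict k (hfree i), ⟨?_⟩⟩
  exact (rdCongr hkj).symm.app K ≪≫ (rdComp k _).app K ≪≫
    (RD k).mapIso ((rdComp V.ι O.ι).app K ≪≫ (RD V.ι).mapIso eτ.symm ≪≫ rdIso V.ι τ) ≪≫
    rdIso k _

end Groth.Agent.KSixLib
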