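import Groth.Agent.CohProperPush.Basic

/-!
# A bound for `Rf_*` from a bound on quasi-coherent modules
-/

set_option autoImplicit false
set_option backward.isDefEq.respectTransparency false
set_option backward.isDefEq.respectTransparency.types false
set_option linter.style.haveILetI false

universe u

open CategoryTheory Limits AlgebraicGeometry Pretriangulated DerivedCategory DerivedCategory.TStructure

attribute [local instance] HasDerivedCategory.standard

namespace Groth.Agent.KSixLib

variable {X S : Scheme.{u}} (f : X ⟶ S) [DCoh.HasRpush f]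

/-- `Rf_*` of a bounded complex with quasi-coherent cohomology in degrees `≤ b` lives in degrees `≤ b + N` -/
theorem isZero_rpush_of_module_bound (N : ℕ)
    (hN : ∀ M : X.Modules, Coh.IsQCoh M → ∀ j : ℤ, (N : ℤ) < j →
      IsZero (DCoh.HD ((DCoh.Rpush f).obj (DCoh.inD X M)) j)) :
    ∀ (d : ℕ) (E : DCoh.D X) (a b : ℤ), E.IsGE a → E.IsLE b → b < a + d → DCoh.IsQCohD E →
      ∀ i, b + N < i → IsZero (DCoh.HD ((DCoh.Rpush f).obj E) i)
  | 0, E, a, b, hge, hle, hd, _, i, _ => by
    haveI : SiteCmp.HasRpushD (ModSite.RMor.ofScheme f) := ‹DCoh.HasRpush f›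
    have hz : IsZero E := DerivedCategory.TStructure.t.isZero E b a (by omega)
    exact (DerivedCategory.homologyFunctor S.Modules i).map_isZero
      ((SiteCmp.RpushD (ModSite.RMor.ofScheme f)).map_isZero hz)
  | d + 1, E, a, b, hge, hle, hd, hq, i, hi => by
    rcases lt_or_ge b a with hab | hab
    · exact isZero_rpush_of_module_bound N hN 0 E a b hge hle (by simpa using hab) hq i hi
    haveI : SiteCmp.HasRpushD (ModSite.RMor.ofScheme f) := ‹DCoh.HasRpush f›
    haveI : HasInjectiveResolutions X.Modules := DQPush.hasInj X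
    let E' := (t.truncGE (a + 1)).obj E
    have hE' : E'.IsGE (a + 1) := HDU.isGE_truncGE E _
    have hf : ∀ j, a + 1 ≤ j →
        IsIso ((DerivedCategory.homologyFunctor X.Modules j).map ((t.truncGEπ (a + 1)).app E)) :=
      fun j hj => HDU.isIso_H_truncGEπ E _ j hj
    have hle' : E'.IsLE b := (DerivedCategory.isLE_iff _ _).2 fun j hj =>
      haveI := hf j (by omega)
      (isZero_of_isLE E b j hj).of_iso
        (asIso ((DerivedCategory.homologyFunctor X.Modules j).map ((t.truncGEπ (a + 1)).app E))).symm
    have hq' : DCoh.IsQCohD E' := fun j => by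
      rcases le_or_gt (a + 1) j with hj | hj
      · haveI := hf j hj
        exact QC.isQCoh_of_iso (asIso ((DerivedCategory.homologyFunctor X.Modules j).map
          ((t.truncGEπ (a + 1)).app E))) (hq j)
      · exact DQCoh.isQCoh_of_isZero (isZero_of_isGE E' (a + 1) j hj)
    obtain ⟨F, g, h, hT, ⟨e⟩⟩ := HDU.exists_fibre ((t.truncGEπ (a + 1)).app E) a hge hE' hf
    obtain ⟨c, hT'⟩ := RPushSite.exists_rpush_triangle (ModSite.RMor.ofScheme f) _ _ _ hT
    refine (HomologySequence.exact₂ _ hT' i).isZero_of_both_zeros (IsZero.eq_of_src ?_ _ _)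
      (IsZero.eq_of_tgt (isZero_rpush_of_module_bound N hN d E' (a + 1) b hE' hle' (by omega) hq' i hi) _ _)
    refine (hN (DCoh.HD E a) (hq a) (i - a) (by omega)).of_iso ?_
    exact (((DerivedCategory.homologyFunctor S.Modules 0).shiftIso a (i - a) i (by omega)).app _).symm ≪≫
      (DerivedCategory.homologyFunctor S.Modules (i - a)).mapIso
        (((RPushSite.shiftIso (ModSite.RMor.ofScheme f) a).app F).symm ≪≫ (DCoh.Rpush f).mapIso e)

end Groth.Agent.KSixLib
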