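import Groth.Agent.KSixLib.ExchProj
import Groth.Agent.KSixLib.PushBound
import Groth.Agent.CohQC.Relative
import Groth.Agent.S9576

/-!
# Amplitude of direct images along `P^r_Y → Y`, `Y` affine
-/

set_option backward.isDefEq.respectTransparency false
set_option backward.isDefEq.respectTransparency.types false
set_option linter.style.haveILetI false
set_option autoImplicit false

universe u

open CategoryTheory Limits AlgebraicGeometry

attribute [local instance] HasDerivedCategory.standard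

namespace Groth.Agent.KSixLib

/-- quasi-coherent cohomology of `P^r_Y` vanishes above `r` -/
theorem subsingleton_hh_projSpaceOver (r : ℕ) (Y : Scheme.{u}) [IsAffine Y]
    (M : (CohB1.ProjSpaceOver r Y).Modules) (hM : Coh.IsQCoh M) (p : ℕ) (hp : r < p) :
    Subsingleton (Coh.HH (CohB1.ProjSpaceOver r Y) M p) := by
  let π := CohB1.ProjSpaceOver.toBase r Y
  obtain ⟨_, _, _⟩ := Exch.toBase_proper_flat_lfp r Y
  haveI : IsAffine (Spec (CommRingCat.of (ULift.{u} ℤ))) := inferInstance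
  haveI : IsAffineHom (specULiftZIsTerminal.from Y) := inferInstance
  let q : CohB1.ProjSpaceOver r Y ⟶ CohB1.ProjSpace r (ULift.{u} ℤ) := pullback.fst _ _
  haveI : IsAffineHom q := MorphismProperty.pullback_fst _ _ ‹_›
  let U : Fin (r + 1) → (CohB1.ProjSpaceOver r Y).Opens := fun j =>
    q ⁻¹ᵁ Proj.basicOpen (CohB1.polyGrading r (ULift.{u} ℤ)) (MvPolynomial.X j)
  have hU : ∀ j, IsAffineOpen (U j) := fun j =>
    (ProjLib.isAffineOpen_basicOpen _ (MvPolynomial.isHomogeneous_X _ j) one_pos).preimage q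
  haveI : (CohB1.ProjSpaceOver r Y).IsSeparated :=
    ⟨by rw [← terminal.comp_from π]; infer_instance⟩
  haveI : M.IsQuasicoherent := hM
  have h := CohQC.hu_affine_cover_vanish M (r + 1) U hU (fun V W hV hW => hV.inf hW) p hp
  have hcov : iSup U = ⊤ := by
    rw [show iSup U = q ⁻¹ᵁ (iSup fun j => Proj.basicOpen (CohB1.polyGrading r (ULift.{u} ℤ)) (MvPolynomial.X j))
      from (Scheme.Hom.preimage_iSup _ _).symm, (S9576.result r (ULift.{u} ℤ)).1]
    rfl
  rw [hcov] at h
  exact (SiteCoh.huTerminalEquiv _ (T := (⊤ : TopologicalSpace.Opens _)) isTerminalTop (Coh.toAb M) p).toEquiv.subsingleton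

/-- `Rπ_*` of a quasi-coherent module lives in degrees `≤ r` -/
theorem isZero_rpush_projSpaceOver (r : ℕ) (Y : Scheme.{u}) [IsAffine Y]
    [DCoh.HasRpush (CohB1.ProjSpaceOver.toBase r Y)] (M : (CohB1.ProjSpaceOver r Y).Modules) (hM : Coh.IsQCoh M)
    (i : ℤ) (hi : (r : ℤ) < i) :
    IsZero (DCoh.HD ((DCoh.Rpush (CohB1.ProjSpaceOver.toBase r Y)).obj (DCoh.inD _ M)) i) := by
  let π := CohB1.ProjSpaceOver.toBase r Y
  obtain ⟨_, _, _⟩ := Exch.toBase_proper_flat_lfp r Y
  haveI := DQPush.hasInj (CohB1.ProjSpaceOver r Y)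
  haveI : HasInjectiveResolutions (ModSite.Mod (CohB1.ProjSpaceOver r Y).sheaf) := DQPush.hasInj (CohB1.ProjSpaceOver r Y)
  haveI : SiteCmp.HasRpushD (ModSite.RMor.ofScheme π) := ‹DCoh.HasRpush _›
  obtain ⟨p, rfl⟩ := Int.eq_ofNat_of_zero_le (show (0 : ℤ) ≤ i by lia)
  obtain ⟨a⟩ := RPushSite.nonempty_homology_single (ModSite.RMor.ofScheme π) M p
  exact IsZero.of_iso (PerfGen.isZero_rpush_of_subsingleton_hh π _ hM p
    (subsingleton_hh_projSpaceOver r Y M hM p (by lia))) a

/-- amplitude of `Rπ_*` -/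
theorem isLE_rpush_projSpaceOver (r : ℕ) (Y : Scheme.{u}) [IsAffine Y]
    [DCoh.HasRpush (CohB1.ProjSpaceOver.toBase r Y)] (E : DCoh.D (CohB1.ProjSpaceOver r Y)) (hq : DCoh.IsQCohD E)
    (a b : ℤ) [E.IsGE b] [E.IsLE a] :
    ((DCoh.Rpush (CohB1.ProjSpaceOver.toBase r Y)).obj E).IsLE (a + r) := by
  obtain ⟨_, _, _⟩ := Exch.toBase_proper_flat_lfp r Y
  exact (DerivedCategory.isLE_iff _ _).2 fun i hi => isZero_rpush_of_module_bound
    (CohB1.ProjSpaceOver.toBase r Y) r (fun M hM j hj => isZero_rpush_projSpaceOver r Y M hM j hj)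
    ((a - b).toNat + 1) E b a ‹_› ‹_› (by lia) hq i hi

end Groth.Agent.KSixLib
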