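import Groth.Agent.KSixLib.TorPushLoc
import Groth.Agent.KSixLib.Abs
import Groth.Agent.KFlat.TorAmp

/-!
# Absolute tor amplitude of direct images
-/

set_option backward.isDefEq.respectTransparency false
set_option backward.isDefEq.respectTransparency.types false
set_option linter.style.haveILetI false
set_option autoImplicit false

universe u

open CategoryTheory Limits AlgebraicGeometry

attribute [local instance] HasDerivedCategory.standard

namespace Groth.Agent.KSixLib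

variable {X Y : Scheme.{u}} (f : X ⟶ Y) [DCoh.HasRpush f] [QuasiCompact f] [QuasiSeparated f]

theorem torAmpIn_push (N : ℕ)
    (hN : ∀ M : X.Modules, Coh.IsQCoh M → ∀ j : ℤ, (N : ℤ) < j →
      IsZero (DCoh.HD ((DCoh.Rpush f).obj (DCoh.inD X M)) j))
    (E : DCoh.D X) (hqc : DCoh.IsQCohD E) (c : ℤ) [E.IsGE c] {a b : ℤ}
    (hE : DCoh.HasRelFlatAmplitudeIn f a b E) :
    DCoh.HasTorAmplitudeIn a (b + N) ((DCoh.Rpush f).obj E) := by
  obtain ⟨F, -, -, ⟨eF⟩⟩ := KFlat.exists_isKFlat_rep E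
  obtain ⟨R, -, -, ⟨e⟩⟩ := KFlat.exists_isKFlat_rep ((DCoh.Rpush f).obj (DCoh.toD X F))
  have hF : DerSch.HasTorAmplitude (f ≫ 𝟙 Y) a b F := by
    rw [Category.comp_id]
    exact fun x => (torAmpAt_iff f a b F x).2 (DQCoh.relAmpAt_of_iso eF.symm (DQCoh.relAmpAt_of_rel hE x))
  haveI : (DCoh.toD X F).IsGE c := DerivedCategory.TStructure.t.isGE_of_iso eF.symm c
  have h := torAmpD_push_bound f (𝟙 Y) N hN F c hF
    (fun i => QC.isQCoh_of_iso ((DerivedCategory.homologyFunctor _ i).mapIso eF).symm (hqc i)) R ⟨e⟩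
  refine KFlat.hasTorAmplitudeIn_of_torRep (KFlat.torRep_of_flatAmplitude ?_)
  exact flatAmp_iff.2 fun y => DQCoh.relAmpAt_of_iso (e ≪≫ (DCoh.Rpush f).mapIso eF)
    ((torAmpAt_iff _ _ _ R y).1 (h y))

end Groth.Agent.KSixLib
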