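import Groth.Agent.KSixLib.PnAmp
import Groth.Agent.KSixLib.TorPushFlat
import Groth.Agent.KSixLib.Ascend
import Groth.Agent.KSixLib.Abs

/-!
# Perfect amplitude of direct images along `P^r_Y → Y`
-/

set_option backward.isDefEq.respectTransparency false
set_option backward.isDefEq.respectTransparency.types false
set_option linter.style.haveILetI false
set_option autoImplicit false

universe u

open CategoryTheory Limits AlgebraicGeometry ZeroObject

attribute [local instance] HasDerivedCategory.standard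

namespace Groth.Agent.KSixLib

lemma perfAmp_of_isZero {X : Scheme.{u}} {K : DCoh.D X} (h : IsZero K) (a b : ℤ) :
    KSix.HasPerfectAmplitudeIn a b K := fun x => ⟨⊤, trivial, fun F ⟨e⟩ => ⟨0,
  fun i _ => (HomologicalComplex.eval _ _ i).map_isZero (isZero_zero _),
  fun i => DQCoh.isFinLocFree_of_isZero ((HomologicalComplex.eval _ _ i).map_isZero (isZero_zero _)),
  ⟨(DQCoh.rdIso (⊤ : X.Opens).ι F).symm ≪≫
    ((DQCoh.RD (⊤ : X.Opens).ι).map_isZero (h.of_iso e)).iso (DerivedCategory.Q.map_isZero (isZero_zero _))⟩⟩⟩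

/-- **perfect amplitude of `Rπ_*`** -/
theorem perfAmp_rpush_projSpaceOver (r : ℕ) (Y : Scheme.{u}) [IsAffine Y]
    [DCoh.HasRpush (CohB1.ProjSpaceOver.toBase r Y)] (G : DCoh.D (CohB1.ProjSpaceOver r Y)) {a b : ℤ}
    (hG : KSix.HasPerfectAmplitudeIn a b G) :
    KSix.HasPerfectAmplitudeIn a (b + r) ((DCoh.Rpush (CohB1.ProjSpaceOver.toBase r Y)).obj G) := by
  let π := CohB1.ProjSpaceOver.toBase r Y
  obtain ⟨_, _, _⟩ := Exch.toBase_proper_flat_lfp r Y
  by_cases hab : b < a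
  · obtain ⟨E, hE, -, ⟨e⟩⟩ := amp_of_perfAmp hG
    have hz : IsZero G := (DerivedCategory.Q.map_isZero ((IsZero.iff_id_eq_zero _).2 (HomologicalComplex.Hom.ext
      (funext fun i => (hE i (by lia)).eq_of_src _ _)))).of_iso e.symm
    haveI : SiteCmp.HasRpushD (ModSite.RMor.ofScheme π) := ‹DCoh.HasRpush _›
    exact perfAmp_of_isZero ((SiteCmp.RpushD (ModSite.RMor.ofScheme π)).map_isZero hz) _ _
  have hflat := amp_of_perfAmp hG
  have hpc := fun m => DQCoh.pc_of_perfect (perfect_of_perfAmp hG) m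
  have hq : DCoh.IsQCohD G := fun i =>
    (DQCoh.isQCoh_cohomology_of_pseudoCoherent (i - 1) _ (hpc _)).1 i (by lia)
  obtain ⟨E₀, hE₀, hE₀f, ⟨e₀⟩⟩ := id hflat
  haveI : G.IsGE a := (DerivedCategory.isGE_iff _ _).2 fun i hi =>
    ((ShortComplex.isZero_homology_of_isZero_X₂ _ (hE₀ i (Or.inl hi))).of_iso (KFlat.hdIso E₀ i)).of_iso
      ((DerivedCategory.homologyFunctor _ i).mapIso e₀.symm)
  obtain ⟨R, -, -, ⟨e⟩⟩ := KFlat.exists_isKFlat_rep ((DCoh.Rpush π).obj G)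
  have hrel : DerSch.HasTorAmplitude (π ≫ 𝟙 Y) a b E₀ := by
    rw [Category.comp_id]
    exact fun x => torAmpAt_of_id π ((torAmpAt_iff _ a b E₀ x).2 ((flatAmp_iff.1 ⟨E₀, hE₀, hE₀f, ⟨Iso.refl _⟩⟩) x))
  haveI : (DCoh.toD _ E₀).IsGE a := DerivedCategory.TStructure.t.isGE_of_iso e₀.symm a
  have h := torAmpD_push_bound π (𝟙 Y) r (fun M hM j hj => isZero_rpush_projSpaceOver r Y M hM j hj) E₀ a hrel
    (fun i => QC.isQCoh_of_iso ((DerivedCategory.homologyFunctor _ i).mapIso e₀).symm (hq i)) R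
    ⟨e ≪≫ ((DCoh.Rpush π).mapIso e₀).symm⟩
  exact (perfAmp_iff (by lia) _).2 ⟨S1106.result π G hpc _,
    flatAmp_iff.2 fun y => DQCoh.relAmpAt_of_iso e ((torAmpAt_iff _ _ _ R y).1 (h y))⟩

end Groth.Agent.KSixLib
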