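import Groth.Agent.KSixLib.Rel
import Groth.Agent.KSixLib.Abs
import Groth.Agent.KFlat.ClosedImm
import Groth.Agent.RelPCS.FlatFP

/-!
# Relative amplitude and closed immersions into flat schemes
-/

set_option backward.isDefEq.respectTransparency false
set_option backward.isDefEq.respectTransparency.types false
set_option linter.style.haveILetI false
set_option autoImplicit false

universe u

open CategoryTheory Limits AlgebraicGeometry HomologicalComplex

attribute [local instance] HasDerivedCategory.standard

namespace Groth.Agent.KSixLib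

open Groth.Agent.DQCoh

variable {X Y S : Scheme.{u}} (i : X ⟶ Y) [IsClosedImmersion i] (g : Y ⟶ S)

/-- stalks of direct images over a base -/
noncomputable def stPushIso (x : X) :
    Scheme.Modules.pushforward i ⋙ stA g (i.base x) ≅ stA (i ≫ g) x :=
  NatIso.ofComponents
    (fun M =>
      let e := AddEquiv.ofBijective (KFlat.pushStalk i x M) (KFlat.pushStalk_bijective i x M)
      LinearEquiv.toModuleIso
        ({ toFun := fun m => e m
           invFun := fun m => e.symm m
           map_add' := fun a b => e.map_add a b
           map_smul' := fun r m => by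
             refine (KFlat.pushStalk_smul i x M ((g.stalkMap (i.base x)).hom r) m).trans ?_
             exact congrArg (fun c => c • (show M.presheaf.stalk x from e m))
               (RingHom.congr_fun (congrArg CommRingCat.Hom.hom (Scheme.Hom.stalkMap_comp i g x)) r).symm
           left_inv := fun m => e.symm_apply_apply m
           right_inv := fun m => e.apply_symm_apply m } :
          (stA g (i.base x)).obj ((Scheme.Modules.pushforward i).obj M) ≃ₗ[S.presheaf.stalk (g.base (i.base x))]
            (stA (i ≫ g) x).obj M))
    (fun φ => ModuleCat.hom_ext (LinearMap.ext fun m => KFlat.pushStalk_natural i x φ m))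

/-- amplitude of the direct image, read on the closed subscheme -/
theorem torAmpAt_push {a b : ℤ} (F : CochainComplex X.Modules ℤ) (x : X) :
    DerSch.HasTorAmplitudeAt g a b (((Scheme.Modules.pushforward i).mapHomologicalComplex (ComplexShape.up ℤ)).obj F)
      (i.base x) ↔ DerSch.HasTorAmplitudeAt (i ≫ g) a b F x := by
  let e : (DerSch.stalkCxOver g (i.base x)).obj
      (((Scheme.Modules.pushforward i).mapHomologicalComplex (ComplexShape.up ℤ)).obj F) ≅
      (DerSch.stalkCxOver (i ≫ g) x).obj F :=
    HomologicalComplex.Hom.isoOfComponents (fun n => (stPushIso i g x).app (F.X n))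
    (fun p q _ => ((stPushIso i g x).hom.naturality (F.d p q)).symm)
  exact ⟨fun h => DRingKP.amp_of_iso (DerivedCategory.Q.mapIso e) h,
    fun h => DRingKP.amp_of_iso (DerivedCategory.Q.mapIso e).symm h⟩

/-- absolute amplitude gives amplitude over the base of a flat morphism -/
theorem torAmp_of_flatAmp [Flat g] {a b : ℤ} {G : CochainComplex Y.Modules ℤ}
    (h : DCoh.HasFlatAmplitudeIn a b (DCoh.toD Y G)) : DerSch.HasTorAmplitude g a b G := fun y =>
  (torAmpAt_iff g a b G y).2 (relAmpAt_of_rel
    (let ⟨E, hE, hEf, e⟩ := h; ⟨E, hE, fun n => flatOver_of_flat g (hEf n), e⟩) y)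

theorem torAmp_of_push_flatAmp [Flat g] {a b : ℤ} {F : CochainComplex X.Modules ℤ}
    (h : DCoh.HasFlatAmplitudeIn a b
      (DCoh.toD Y (((Scheme.Modules.pushforward i).mapHomologicalComplex (ComplexShape.up ℤ)).obj F))) :
    DerSch.HasTorAmplitude (i ≫ g) a b F := fun x =>
  (torAmpAt_push i g F x).1 (torAmp_of_flatAmp g h _)

theorem perfAmp_of_push [Flat g] [LocallyOfFinitePresentation g] {a b : ℤ} (F : CochainComplex X.Modules ℤ)
    (h : KSix.HasPerfectAmplitudeIn a b
      (DCoh.toD Y (((Scheme.Modules.pushforward i).mapHomologicalComplex (ComplexShape.up ℤ)).obj F))) :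
    DerSch.HasPerfAmplitudeRel (i ≫ g) a b F :=
  ⟨fun m => (RelPCS.rel_closedImm_comp_flat_iff i g m F).2 (pc_of_perfect (perfect_of_perfAmp h) m),
    torAmp_of_push_flatAmp i g (amp_of_perfAmp h)⟩

end Groth.Agent.KSixLib
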