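import Groth.Agent.KSixLib.Rel
import Groth.Agent.RelPCS.Comp
import Groth.Agent.RelPCS.FlatBase
import Groth.Agent.DQCoh.PCTensor
import Groth.Agent.DQCoh.RelTensor
import Groth.Agent.KFlat.ClosedImm
import Groth.Agent.ResPerf.Cone

/-!
# Relative pseudo-coherence of derived tensor products with pullbacks
-/

set_option backward.isDefEq.respectTransparency false
set_option backward.isDefEq.respectTransparency.types false
set_option linter.style.haveILetI false
set_option autoImplicit false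
set_option maxHeartbeats 1000000

universe u

open CategoryTheory Limits AlgebraicGeometry HomologicalComplex Pretriangulated

attribute [local instance] HasDerivedCategory.standard

namespace Groth.Agent.KSixLib

open Groth.Agent.DQCoh (RD rdIso rCIsoQC pc_of_iso pc_mono cxDatum IsAboveD)
open Groth.Agent.RelPCS (PD pdIso sp QPC)
open Groth.Agent.ProjForm (qC)

variable {X Y : Scheme.{u}}

/-- a strictly perfect complex exact above `b` has a strictly perfect model vanishing above `b` -/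
lemma exists_sp_le {S : CochainComplex X.Modules ℤ} (hS : DCoh.IsStrictlyPerfect S) (b : ℤ)
    (hz : ∀ i, b < i → IsZero (S.homology i)) :
    ∃ S' : CochainComplex X.Modules ℤ, DCoh.IsStrictlyPerfect S' ∧ (∀ i, b < i → IsZero (S'.X i)) ∧
      Nonempty (DCoh.toD X S' ≅ DCoh.toD X S) := by
  obtain ⟨⟨lo, hi, hv⟩, hl⟩ := id hS
  haveI : S.IsLE b := (CochainComplex.isLE_iff S b).2 fun i hi => (exactAt_iff_isZero_homology _ _).2 (hz i hi)
  haveI : QuasiIso (S.ιTruncLE b) := (CochainComplex.quasiIso_ιTruncLE_iff S _).2 inferInstance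
  refine ⟨S.truncLE b, ⟨⟨min lo b, b, fun i hib => ?_⟩, fun i => ?_⟩,
    fun i hi => CochainComplex.isZero_of_isStrictlyLE _ b i hi, ⟨asIso (DerivedCategory.Q.map (S.ιTruncLE b))⟩⟩
  · rcases hib with h | h
    · exact (hv i (Or.inl (by lia))).of_iso (S.truncLEXIso b i (by lia))
    · exact CochainComplex.isZero_of_isStrictlyLE _ b i h
  · rcases lt_trichotomy i b with h | rfl | h
    · exact DQCoh.isFinLocFree_of_iso' (S.truncLEXIso b i h).symm (hl i)
    · exact DQCoh.isFinLocFree_of_iso' (S.truncLEXIsoCycles i).symm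
        (ResPerf.isFinLocFree_cycles hS i hz i le_rfl)
    · exact DQCoh.isFinLocFree_of_isZero (CochainComplex.isZero_of_isStrictlyLE _ b i h)

/-- restriction of a tensor product of complexes -/
noncomputable def restrTens {U : Scheme.{u}} (j : U ⟶ X) [IsOpenImmersion j] (A B : CochainComplex X.Modules ℤ) :
    (RD j).obj (DCoh.toD X ((DCoh.tensorCx.obj A).obj B)) ≅
      DCoh.toD U ((DCoh.tensorCx.obj ((qC j).obj A)).obj ((qC j).obj B)) :=
  (DerivedCategory.Q.mapIso (KFlat.pullTotIso j A B ≪≫ (rCIsoQC j _).symm) ≪≫ (rdIso j _).symm).symm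

section Devissage

variable (i : X ⟶ Y) [IsClosedImmersion i] (M : CochainComplex X.Modules ℤ)

/-- `i_* (M ⊗ E)` is `m`-pseudo-coherent -/
def PT (m : ℤ) (E : CochainComplex X.Modules ℤ) : Prop :=
  DCoh.IsPseudoCoherentD m ((PD i).obj (DerivedCategory.Q.obj ((cxDatum M).Φ.obj E)))

variable {i M}

lemma pt_of_iso {m : ℤ} {E E' : CochainComplex X.Modules ℤ} (e : E ≅ E') (h : PT i M m E) : PT i M m E' :=
  pc_of_iso ((PD i).mapIso (DerivedCategory.Q.mapIso ((cxDatum M).Φ.mapIso e))) h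

lemma pt_of_isZero {m : ℤ} {E : CochainComplex X.Modules ℤ} (h : IsZero E) : PT i M m E :=
  DQCoh.pc_of_isAbove (RelPCS.isAboveD_of_isZero
    ((PD i).map_isZero ((DerivedCategory.Q).map_isZero ((cxDatum M).Φ.map_isZero h))) m)

lemma pt_of_split {m : ℤ} (Sq : ShortComplex (CochainComplex X.Modules ℤ))
    (σ : ∀ n, (Sq.map (eval X.Modules (ComplexShape.up ℤ) n)).Splitting) (h₁ : PT i M m Sq.X₁)
    (h₃ : PT i M m Sq.X₃) : PT i M m Sq.X₂ :=
  DQCoh.pc_obj₂ _ ((PD i).map_distinguished _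
    (DerivedCategory.triangleOfSES_distinguished ((cxDatum M).shortExact Sq σ))) m h₁ h₃

lemma pt_shift {m : ℤ} {E : CochainComplex X.Modules ℤ} (h : PT i M m E) (n : ℤ) : PT i M (m - n) (E⟦n⟧) := by
  obtain ⟨e⟩ := (cxDatum M).shift E n
  exact pc_of_iso ((((PD i).commShiftIso n).app _).symm ≪≫ (PD i).mapIso
    (((DerivedCategory.Q.commShiftIso n).app _).symm ≪≫ (DerivedCategory.Q.mapIso e).symm))
    (DQCoh.pc_shift h n)

variable (i M) in
/-- `i_* (M ⊗ F[-a])` is `(c + a)`-pseudo-coherent for all `a` -/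
def PTMod (c : ℤ) (F : X.Modules) : Prop :=
  ∀ a : ℤ, PT i M (c + a) ((HomologicalComplex.single X.Modules (ComplexShape.up ℤ) a).obj F)

lemma ptMod_of_iso {c : ℤ} {F F' : X.Modules} (e : F ≅ F') (h : PTMod i M c F) : PTMod i M c F' := fun a =>
  pt_of_iso ((HomologicalComplex.single X.Modules (ComplexShape.up ℤ) a).mapIso e) (h a)

lemma ptMod_free {c : ℤ} (hM : DCoh.IsPseudoCoherentD c ((PD i).obj (DCoh.toD X M))) :
    ∀ n : ℕ, PTMod i M c (FlatMod.freeMod X n) := by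
  intro n
  induction n with
  | zero =>
    refine fun a => pt_of_isZero ((HomologicalComplex.single X.Modules (ComplexShape.up ℤ) a).map_isZero ?_)
    rw [IsZero.iff_id_eq_zero]
    exact Sigma.hom_ext _ _ fun i => i.elim0
  | succ n ih =>
    intro a
    have h0 : PT i M c ((HomologicalComplex.single X.Modules (ComplexShape.up ℤ) 0).obj (Coh.structureModule X)) :=
      pc_of_iso ((PD i).mapIso (DerivedCategory.Q.mapIso
        (((Functor.mapHomologicalComplexIdIso X.Modules (ComplexShape.up ℤ)).app M).symm ≪≫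
          ((NatIso.mapHomologicalComplex (DQCoh.tensUnitNat X) (ComplexShape.up ℤ)).app M).symm ≪≫
          KFlat.tensSingleIso (KFlat.schB X) M (Coh.structureModule X)))) hM
    have h1 := pt_shift h0 (-a)
    rw [sub_neg_eq_add] at h1
    have h2 : PT i M (c + a) ((HomologicalComplex.single X.Modules (ComplexShape.up ℤ) a).obj (Coh.structureModule X)) :=
      pt_of_iso (((CochainComplex.singleFunctors X.Modules).shiftIso (-a) a 0 (by lia)).app
        (Coh.structureModule X)) h1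
    refine pt_of_iso ((HomologicalComplex.single X.Modules (ComplexShape.up ℤ) a).mapIso
      (DQCoh.sigmaSuccIso fun _ : Fin (n + 1) => Coh.structureModule X).symm) ?_
    exact pt_of_split ((ShortComplex.mk (biprod.inl : Coh.structureModule X ⟶
        Coh.structureModule X ⊞ FlatMod.freeMod X n) biprod.snd biprod.inl_snd).map
        (HomologicalComplex.single X.Modules (ComplexShape.up ℤ) a))
      (fun k => (ShortComplex.Splitting.ofHasBinaryBiproduct _ _).map
        (HomologicalComplex.single X.Modules (ComplexShape.up ℤ) a ⋙ eval X.Modules (ComplexShape.up ℤ) k))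
      h2 (ih a)

lemma pt_of_bounded {m c : ℤ} : ∀ (k : ℕ) (a : ℤ) (E : CochainComplex X.Modules ℤ),
    DCoh.VanishesOutside E a (a + k - 1) → (∀ j, IsZero (E.X j) ∨ (c + j ≤ m ∧ PTMod i M c (E.X j))) →
    PT i M m E := by
  intro k
  induction k with
  | zero =>
    intro a E hE _
    exact pt_of_isZero ((IsZero.iff_id_eq_zero _).2 (HomologicalComplex.Hom.ext
      (funext fun j => (hE j (by lia)).eq_of_src _ _)))
  | succ k ih =>
    intro a E hE ht
    by_cases hza : IsZero (E.X a)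
    · refine ih (a + 1) E (fun j hj => ?_) ht
      by_cases hja : j = a
      · rw [hja]; exact hza
      · exact hE j (by lia)
    have h1 : PT i M m (DQCoh.σGE E (a + 1)) := by
      refine ih (a + 1) _ (fun j hj => ?_) fun j => ?_
      · by_cases h : a + 1 ≤ j
        · exact IsZero.of_mono ((DQCoh.σι E (a + 1)).f j) (hE j (by lia))
        · exact DQCoh.isZero_σGE_X E (a + 1) j (not_le.1 h)
      · by_cases h : a + 1 ≤ j
        · haveI := DQCoh.isIso_σι_f E (a + 1) j h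
          let e := asIso ((DQCoh.σι E (a + 1)).f j)
          exact (ht j).imp (fun h => h.of_iso e) fun h => ⟨h.1, ptMod_of_iso e.symm h.2⟩
        · exact Or.inl (DQCoh.isZero_σGE_X E (a + 1) j (not_le.1 h))
    let Sq := DQCoh.σSeq E (a + 1)
    have hS := DQCoh.σSeq_shortExact E (a + 1)
    have σ : ∀ n, (Sq.map (eval X.Modules (ComplexShape.up ℤ) n)).Splitting := fun n =>
      if h : a + 1 ≤ n then
        ShortComplex.Splitting.ofIsIsoOfIsZero _ (DQCoh.isIso_σι_f E (a + 1) n h) (DQCoh.isZero_σQuot E (a + 1) n h)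
      else
        ShortComplex.Splitting.ofIsZeroOfIsIso _ (DQCoh.isZero_σGE_X E (a + 1) n (not_le.1 h))
          (((hS.map_of_exact (eval X.Modules (ComplexShape.up ℤ) n))).isIso_g_iff.2
            (DQCoh.isZero_σGE_X E (a + 1) n (not_le.1 h)))
    have hQz : ∀ j, j ≠ a → IsZero (Sq.X₃.X j) := fun j hj => by
      by_cases h : a + 1 ≤ j
      · exact DQCoh.isZero_σQuot E (a + 1) j h
      · haveI : IsIso ((Sq.map (eval X.Modules (ComplexShape.up ℤ) j)).g) :=
          ((hS.map_of_exact (eval X.Modules (ComplexShape.up ℤ) j))).isIso_g_iff.2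
            (DQCoh.isZero_σGE_X E (a + 1) j (not_le.1 h))
        exact (hE j (by lia)).of_iso (asIso (Sq.map (eval X.Modules (ComplexShape.up ℤ) j)).g).symm
    haveI : Sq.X₃.IsStrictlyGE a := (CochainComplex.isStrictlyGE_iff _ a).2 fun j hj => hQz j (by lia)
    haveI : Sq.X₃.IsStrictlyLE a := (CochainComplex.isStrictlyLE_iff _ a).2 fun j hj => hQz j (by lia)
    obtain ⟨N, ⟨eN⟩⟩ := CochainComplex.exists_iso_single Sq.X₃ a
    haveI : IsIso ((Sq.map (eval X.Modules (ComplexShape.up ℤ) a)).g) :=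
      ((hS.map_of_exact (eval X.Modules (ComplexShape.up ℤ) a))).isIso_g_iff.2
        (DQCoh.isZero_σGE_X E (a + 1) a (by lia))
    obtain ⟨hle, hmod⟩ := (ht a).resolve_left hza
    have h3 : PT i M m Sq.X₃ := pt_of_iso eN.symm (pc_mono hle (ptMod_of_iso
      (asIso (Sq.map (eval X.Modules (ComplexShape.up ℤ) a)).g ≪≫
        (eval X.Modules (ComplexShape.up ℤ) a).mapIso eN ≪≫ singleObjXSelf (ComplexShape.up ℤ) a N) hmod a))
    exact pt_of_split Sq σ h1 h3

end Devissage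

variable {i : X ⟶ Y} [IsClosedImmersion i]

/-- restriction of the hypothesis on the second factor -/
lemma pc_push_qC (V : Y.Opens) {G : CochainComplex X.Modules ℤ} {c : ℤ}
    (hG : DCoh.IsPseudoCoherentD c ((PD i).obj (DCoh.toD X G))) :
    DCoh.IsPseudoCoherentD c ((PD (i ∣_ V)).obj (DCoh.toD _ ((qC (i ⁻¹ᵁ V).ι).obj G))) :=
  pc_of_iso ((RelPCS.pdRestrIso i V).app (DCoh.toD X G) ≪≫ (PD (i ∣_ V)).mapIso
    (rdIso (i ⁻¹ᵁ V).ι G ≪≫ DerivedCategory.Q.mapIso (rCIsoQC (i ⁻¹ᵁ V).ι G)))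
    (DQCoh.pc_restrict V.ι hG)

/-- direct image of the tensor product with a strictly perfect complex -/
theorem pc_push_tens_perfect {G : CochainComplex X.Modules ℤ} {b c : ℤ}
    (hG : DCoh.IsPseudoCoherentD c ((PD i).obj (DCoh.toD X G)))
    {S : CochainComplex X.Modules ℤ} (hS : DCoh.IsStrictlyPerfect S) (hSb : ∀ j, b < j → IsZero (S.X j)) :
    DCoh.IsPseudoCoherentD (b + c) ((PD i).obj (DCoh.toD X ((DCoh.tensorCx.obj G).obj S))) := by
  refine RelPCS.pc_push_of_locally i fun x => ?_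
  obtain ⟨⟨lo, hi, hv⟩, hl⟩ := id hS
  obtain ⟨W, hW, hfree⟩ := DerPerf.exists_common_free (Finset.Icc lo hi) S.X (fun j _ => hl j) x
  obtain ⟨V, rfl⟩ := RelPCS.exists_preimage_eq i W
  refine ⟨V, hW, pc_of_iso ((PD (i ∣_ V)).mapIso (restrTens (i ⁻¹ᵁ V).ι G S).symm) ?_⟩
  refine pt_of_bounded (c := c) (hi + 1 - lo).toNat lo ((qC (i ⁻¹ᵁ V).ι).obj S) (fun j hj =>
    (Scheme.Modules.pullback _).map_isZero (hv j (by lia))) fun j => ?_
  by_cases hj : b < j
  · exact Or.inl ((Scheme.Modules.pullback _).map_isZero (hSb j hj))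
  by_cases hj' : lo ≤ j ∧ j ≤ hi
  · obtain ⟨n, ⟨e⟩⟩ := hfree j (Finset.mem_Icc.2 hj')
    exact Or.inr ⟨by lia, ptMod_of_iso e.symm (ptMod_free (pc_push_qC V hG) n)⟩
  · exact Or.inl ((Scheme.Modules.pullback _).map_isZero (hv j (by lia)))

/-- direct image of the tensor product of a pseudo-coherent complex with a K-flat complex -/
theorem pc_push_tens {P G : CochainComplex X.Modules ℤ} (hP : DCoh.IsKFlat P) (hG : DCoh.IsKFlat G) {a b c d : ℤ}
    (hPc : DCoh.IsPseudoCoherentD a (DCoh.toD X P)) (hPb : ∀ j, b < j → IsZero (P.homology j))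
    (hGd : ∀ j, d < j → IsZero (G.homology j))
    (hGc : DCoh.IsPseudoCoherentD c ((PD i).obj (DCoh.toD X G))) :
    DCoh.IsPseudoCoherentD (max (a + d) (b + c)) ((PD i).obj (DCoh.toD X ((DCoh.tensorCx.obj P).obj G))) := by
  by_cases hab : b < a
  · refine DQCoh.pc_of_isAbove (DQCoh.isAboveD_map _ fun j hj => ?_)
    exact (DQCoh.isZero_homology_tens hP a (d + 1) (fun k hk => hPb k (by lia)) (fun k hk => hGd k (by lia)) j
      (by have := le_max_left (a + d) (b + c); lia)).of_iso (KFlat.hdIso _ j)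
  refine RelPCS.pc_push_of_locally i fun x => ?_
  obtain ⟨U, j, hj, u, hu, hp⟩ := (DQCoh.pc_iff_near a _).1 hPc x
  haveI := hj
  obtain ⟨k, hk, hkj⟩ := DQCoh.exists_opens j
  have hp' := DQCoh.pcOn_congr hkj (DQCoh.pcOn_comp k j hp)
  obtain ⟨V, hV⟩ := RelPCS.exists_preimage_eq i j.opensRange
  rw [← hV] at hp'
  refine ⟨V, ?_, ?_⟩
  · show x ∈ i ⁻¹ᵁ V
    rw [hV]; exact ⟨u, hu⟩
  let l := (i ⁻¹ᵁ V).ι
  obtain ⟨S, E, g, hS, hE, ⟨eS⟩, hc, hEb⟩ :=
    DQCoh.exists_approx l hP a (b + 1) (by lia) (fun k hk => hPb k (by lia)) hp'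
  have hSb : ∀ k, b < k → IsZero (S.homology k) := fun k hk =>
    (hEb k (by lia)).of_iso ((KFlat.hdIso S k).symm ≪≫
      (DerivedCategory.homologyFunctor _ k).mapIso eS ≪≫ KFlat.hdIso E k)
  obtain ⟨S', hS', hS'b, ⟨eS'⟩⟩ := exists_sp_le hS b hSb
  let G' := (qC l).obj G
  have hG' : DCoh.IsKFlat G' := KFlat.isKFlat_pullback l hG
  have hS'K := DerPerf.isKFlat_of_isStrictlyPerfect hS'
  have hP' : DCoh.IsKFlat ((qC l).obj P) := KFlat.isKFlat_pullback l hP
  haveI := KFlat.hasLTensorCx G'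
  let eE : DCoh.toD _ ((DCoh.tensorCx.obj G').obj S') ≅ DCoh.toD _ ((DCoh.tensorCx.obj E).obj G') :=
    DerivedCategory.Q.mapIso (KFlat.swapIso (KFlat.braid _) G' S') ≪≫ (KFlat.ltIso G' hS'K).symm ≪≫
      (DCoh.LTensorCx G').mapIso (eS' ≪≫ eS) ≪≫ KFlat.ltIso G' hE
  have hA : DCoh.IsPseudoCoherentD (b + c) ((PD (i ∣_ V)).obj (DCoh.toD _ ((DCoh.tensorCx.obj E).obj G'))) :=
    pc_of_iso ((PD (i ∣_ V)).mapIso eE) (pc_push_tens_perfect (pc_push_qC V hGc) hS' hS'b)
  have hG'd : ∀ k, d + 1 ≤ k → IsZero (G'.homology k) := fun k hk =>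
    DerPerf.isZero_homology_pullback l hG (d + 1) (fun k hk => hGd k (by lia)) k hk
  have hα := DQCoh.mIso_tens_left g hE hP' a (d + 1) hc hG'd
  rw [show a + (d + 1) - 1 = a + d by lia] at hα
  obtain ⟨Cn, v, w, hT⟩ := Pretriangulated.distinguished_cocone_triangle
    ((PD (i ∣_ V)).map (DerivedCategory.Q.map ((DCoh.tensorCx.map g).app G')))
  refine pc_of_iso ((PD (i ∣_ V)).mapIso (restrTens l P G).symm) (DQCoh.pc_obj₂ _ hT _ (pc_mono (le_max_right _ _) hA)
    (pc_mono (le_max_left _ _) (DQCoh.pc_of_isAbove ((DQCoh.mIsoD_iff (a + d) _ hT).1 (DQCoh.mIsoD_map _ hα)))))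

variable {S : Scheme.{u}}

/-- restriction of a pullback along compatible maps -/
noncomputable def qCSquare {U V W : Scheme.{u}} (j : U ⟶ X) (f : X ⟶ Y) (a : U ⟶ V) (c : V ⟶ Y)
    (w : a ≫ c = j ≫ f) (K : CochainComplex Y.Modules ℤ) :
    (qC j).obj ((qC f).obj K) ≅ (qC a).obj ((qC c).obj K) :=
  HomologicalComplex.Hom.isoOfComponents
    (fun n => ((Scheme.Modules.pullbackComp j f) ≪≫ Scheme.Modules.pullbackCongr w.symm ≪≫
      (Scheme.Modules.pullbackComp a c).symm).app (K.X n))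
    (fun p q _ => (((Scheme.Modules.pullbackComp j f) ≪≫ Scheme.Modules.pullbackCongr w.symm ≪≫
      (Scheme.Modules.pullbackComp a c).symm).hom.naturality (K.d p q)).symm)

/-- **the derived tensor product with a pullback is relatively pseudo-coherent** -/
theorem rel_tens_Lpull {Z : Scheme.{u}} (f : X ⟶ Y) (g : Y ⟶ Z) [LocallyOfFiniteType f] [LocallyOfFiniteType g]
    [DCoh.HasLpull f] (E : CochainComplex X.Modules ℤ) [DCoh.HasLTensorCx E] {a b c d : ℤ}
    (hE : DerSch.IsPseudoCoherentRel f a (DCoh.toD X E)) [(DCoh.toD X E).IsLE b]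
    (F : DCoh.D Y) (hF : DerSch.IsPseudoCoherentRel g c F) [F.IsLE d] :
    DerSch.IsPseudoCoherentRel (f ≫ g) (max (a + d) (b + c)) ((DCoh.LTensorCx E).obj ((DCoh.Lpull f).obj F)) ∧
      ((DCoh.LTensorCx E).obj ((DCoh.Lpull f).obj F)).IsLE (b + d) := by
  obtain ⟨K, hK, -, ⟨eK⟩⟩ := KFlat.exists_isKFlat_rep F
  have hKd : ∀ k, d + 1 ≤ k → IsZero (K.homology k) := fun k hk =>
    (DerivedCategory.isZero_of_isLE F d k (by lia)).of_iso
      ((KFlat.hdIso K k).symm ≪≫ (DerivedCategory.homologyFunctor _ k).mapIso eK)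
  have hEb : ∀ k, b + 1 ≤ k → IsZero (E.homology k) := fun k hk =>
    (DerivedCategory.isZero_of_isLE (DCoh.toD X E) b k (by lia)).of_iso (KFlat.hdIso E k).symm
  have hK' : DCoh.IsKFlat ((qC f).obj K) := KFlat.isKFlat_pullback f hK
  let eT : (DCoh.LTensorCx E).obj ((DCoh.Lpull f).obj F) ≅
      DCoh.toD X ((DCoh.tensorCx.obj ((qC f).obj K)).obj E) :=
    (DCoh.LTensorCx E).mapIso ((DCoh.Lpull f).mapIso eK.symm ≪≫ ProjForm.lpullIso f hK) ≪≫ KFlat.ltIso E hK'
  refine ⟨?_, (DerivedCategory.isLE_iff _ _).2 fun k hk => ?_⟩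
  swap
  · exact (DQCoh.isZero_homology_tens hK' (d + 1) (b + 1)
      (fun j hj => DerPerf.isZero_homology_pullback f hK (d + 1) hKd j hj) hEb k (by lia)).of_iso
      ((DerivedCategory.homologyFunctor _ k).mapIso eT ≪≫ KFlat.hdIso _ k)
  have key : ∀ (U : X.affineOpens) (V : Y.affineOpens) (W : Z.affineOpens),
      (U : X.Opens) ≤ f ⁻¹ᵁ (V : Y.Opens) → (V : Y.Opens) ≤ g ⁻¹ᵁ (W : Z.Opens) →
      RelPCS.QA (f ≫ g) (max (a + d) (b + c)) ((DCoh.LTensorCx E).obj ((DCoh.Lpull f).obj F)) U W := by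
    intro U V W hUV hVW
    obtain ⟨q, φ, hφ⟩ := RelPCS.exists_chart U.2 V.2 hUV
    obtain ⟨n, ψ, hψ⟩ := RelPCS.exists_chart V.2 W.2 hVW
    obtain ⟨θ, e, hθ, rfl⟩ := RelPCS.exists_chart_comp hUV hVW hφ hψ
    obtain ⟨hs, hpa⟩ := RelPCS.qpc_of_qa U.2 hUV ((RelPCS.rel_iff_qa a _).1 hE U V) hφ
    obtain ⟨hs', hpc⟩ := RelPCS.qpc_of_qa V.2 hVW ((RelPCS.rel_iff_qa c _).1 hF V W) hψ
    have hm : Function.Surjective (MvPolynomial.map (σ := Fin q) ψ) := MvPolynomial.map_surjective ψ hψ.1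
    refine RelPCS.qa_of_qpc U.2 (hUV.trans (f.preimage_mono hVW)) hθ
      ((RelPCS.qpc_comp_iff (ψ := e.toRingHom) e.surjective (RelPC.pcHom_of_ringEquiv e) (hφ.1.comp hm)).2
        ⟨hφ.1.comp hm, ?_⟩)
    haveI := RelPCS.closedImm_sp hφ.1
    haveI := RelPCS.closedImm_sp hψ.1
    haveI := RelPCS.closedImm_sp hm
    let j := U.2.fromSpec
    let jV := V.2.fromSpec
    let π : Spec (CommRingCat.of (MvPolynomial (Fin q) Γ(Y, (V : Y.Opens)))) ⟶ Spec (CommRingCat.of Γ(Y, (V : Y.Opens))) :=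
      sp MvPolynomial.C
    haveI : Flat π := HasRingHomProperty.Spec_iff.2 (RingHom.flat_algebraMap_iff.2
      (inferInstance : Module.Flat Γ(Y, (V : Y.Opens)) (MvPolynomial (Fin q) Γ(Y, (V : Y.Opens)))))
    haveI : Flat (sp (MvPolynomial.C : MvPolynomial (Fin n) Γ(Z, (W : Z.Opens)) →+*
        MvPolynomial (Fin q) (MvPolynomial (Fin n) Γ(Z, (W : Z.Opens))))) :=
      HasRingHomProperty.Spec_iff.2 (RingHom.flat_algebraMap_iff.2
        (inferInstance : Module.Flat (MvPolynomial (Fin n) Γ(Z, (W : Z.Opens)))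
          (MvPolynomial (Fin q) (MvPolynomial (Fin n) Γ(Z, (W : Z.Opens))))))
    have hw : sp φ ≫ (π ≫ jV) = j ≫ f := by
      rw [← IsAffineOpen.SpecMap_appLE_fromSpec f V.2 U.2 hUV]
      refine (Category.assoc _ _ _).symm.trans (congrArg (· ≫ jV) ?_)
      exact (Spec.map_comp _ _).symm.trans (congrArg Spec.map (CommRingCat.hom_ext hφ.2))
    let G := (qC (π ≫ jV)).obj K
    have hGK : DCoh.IsKFlat G := KFlat.isKFlat_pullback _ hK
    let E' := (qC j).obj E
    let P₀ := (DerSch.pushCx (sp φ)).obj E'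
    let P := (KFlat.resF _).obj P₀
    have hPK : DCoh.IsKFlat P := KFlat.isKFlat_resF P₀
    haveI := KFlat.quasiIso_map_app_sch G hGK ((KFlat.resψ _).app P₀)
    let eP : DCoh.toD _ P ≅ (PD (sp φ)).obj ((RD j).obj (DCoh.toD X E)) :=
      asIso (DerivedCategory.Q.map ((KFlat.resψ _).app P₀)) ≪≫ (pdIso (sp φ) E').symm ≪≫
        (PD (sp φ)).mapIso (rdIso j E ≪≫ DerivedCategory.Q.mapIso (rCIsoQC j E)).symm
    have hPb : ∀ k, b < k → IsZero (P.homology k) := fun k hk => by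
      refine ((DQCoh.isAboveD_map (Scheme.Modules.pushforward (sp φ))
        (DQCoh.isAboveD_map (Scheme.Modules.restrictFunctor j)
          (fun l hl => ?_) : IsAboveD (b + 1) ((RD j).obj (DCoh.toD X E)))) k (by lia)).of_iso
        ((KFlat.hdIso P k).symm ≪≫ (DerivedCategory.homologyFunctor _ k).mapIso eP)
      exact DerivedCategory.isZero_of_isLE (DCoh.toD X E) b l hl
    let eG : (RelPCS.PB π).obj ((RD jV).obj F) ≅ DCoh.toD _ G :=
      (RelPCS.PB π).mapIso ((RD jV).mapIso eK.symm ≪≫ rdIso jV K ≪≫ DerivedCategory.Q.mapIso (rCIsoQC jV K)) ≪≫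
        (Scheme.Modules.pullback π).mapDerivedCategoryFactors.app _ ≪≫
        DerivedCategory.Q.mapIso (HomologicalComplex.Hom.isoOfComponents
          (fun k => (Scheme.Modules.pullbackComp π jV).app (K.X k))
          (fun p q _ => ((Scheme.Modules.pullbackComp π jV).hom.naturality (K.d p q)).symm))
    have hGc : DCoh.IsPseudoCoherentD c ((PD (sp (MvPolynomial.map (σ := Fin q) ψ))).obj (DCoh.toD _ G)) := by
      refine pc_of_iso ?_ (RelPCS.pc_pb (sp (MvPolynomial.C : MvPolynomial (Fin n) Γ(Z, (W : Z.Opens)) →+*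
        MvPolynomial (Fin q) (MvPolynomial (Fin n) Γ(Z, (W : Z.Opens))))) hpc)
      exact (RelPCS.pdBaseIso hψ.1 hm (le_of_eq (MvPolynomial.ker_map ψ))
        (RelPCS.map_C_comp ψ)).app ((RD jV).obj F) ≪≫ (PD _).mapIso eG
    have hmain := pc_push_tens (i := sp (MvPolynomial.map (σ := Fin q) ψ)) (a := a) (b := b) (c := c) (d := d) hPK hGK
      (pc_of_iso eP.symm hpa) hPb
      (fun k hk => DerPerf.isZero_homology_pullback (π ≫ jV) hK (d + 1) hKd k (by lia)) hGc
    refine pc_of_iso ?_ hmain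
    let A := (qC (sp φ)).obj G
    haveI := RelPCS.closedImm_sp (φ := φ.comp (MvPolynomial.map ψ)) (hφ.1.comp hm)
    exact (PD _).mapIso (asIso (DerivedCategory.Q.map ((DCoh.tensorCx.map ((KFlat.resψ _).app P₀)).app G)) ≪≫
        DerivedCategory.Q.mapIso (KFlat.projFormulaTotIso (sp φ) E' G) ≪≫ (pdIso (sp φ) _).symm) ≪≫
      ((RelPCS.pdCongr (RelPCS.sp_comp (MvPolynomial.map ψ) φ)).app _ ≪≫
        (RelPCS.pdComp (sp φ) (sp (MvPolynomial.map ψ))).app _).symm ≪≫
      (PD _).mapIso (DerivedCategory.Q.mapIso (KFlat.swapIso (KFlat.braid _) E' A ≪≫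
        (DCoh.tensorCx.mapIso (qCSquare (W := Y) j f (sp φ) (π ≫ jV) hw K).symm).app E') ≪≫
        (restrTens j ((qC f).obj K) E).symm ≪≫ (RD j).mapIso eT.symm)
  refine ⟨inferInstance, Set.univ, ?_, fun W _ => ⟨{U | ∃ V : Y.affineOpens,
    (U : X.Opens) ≤ f ⁻¹ᵁ (V : Y.Opens) ∧ (V : Y.Opens) ≤ g ⁻¹ᵁ (W : Z.Opens)}, ?_, ?_⟩⟩
  · simpa using iSup_affineOpens_eq_top Z
  · refine le_antisymm (iSup₂_le fun U ⟨V, hUV, hVW⟩ => hUV.trans (f.preimage_mono hVW)) fun x hx => ?_
    obtain ⟨U, V, hxU, hUV, hVW⟩ := RelPCS.exists_pair_le f (O := g ⁻¹ᵁ (W : Z.Opens)) hx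
    exact TopologicalSpace.Opens.mem_iSup.2 ⟨U, TopologicalSpace.Opens.mem_iSup.2 ⟨⟨V, hUV, hVW⟩, hxU⟩⟩
  · rintro U ⟨V, hUV, hVW⟩ hle
    exact key U V W hUV hVW hle

end Groth.Agent.KSixLib
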