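import Groth.Agent.RelPCS.FlatPiece
import Groth.Agent.RelPCS.Transfer
import Groth.Agent.RelPC.TorBC
import Groth.Agent.TildeKFlat.Lpull
import Groth.Agent.TorFlatBC.Basic
import Groth.Agent.FMTool.BC
import Groth.Agent.KSixLib.RelTens

/-!
# Relative pseudo-coherence under tor-independent base change
-/

set_option backward.isDefEq.respectTransparency false
set_option backward.isDefEq.respectTransparency.types false
set_option linter.style.haveILetI false
set_option autoImplicit false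
set_option maxHeartbeats 1000000

universe u

open CategoryTheory Limits AlgebraicGeometry Opposite TopologicalSpace
open scoped TensorProduct

attribute [local instance] HasDerivedCategory.standard

namespace Groth.Agent.KSixLib

open Groth.Agent.DQCoh (RD rdIso rCIsoQC pc_of_iso)
open Groth.Agent.RelPCS (PD sp QPC)
open Groth.Agent.ProjForm (qC)

/-- `Tor` vanishes in the squares over a common base with both sides flat -/
lemma subsingleton_tor_sq {R₀ R A C R' : Type u} [CommRing R₀] [CommRing R] [CommRing A] [CommRing C] [CommRing R']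
    [Algebra R₀ R] [Algebra R₀ A] [Algebra R A] [IsScalarTower R₀ R A] [Algebra R₀ C] [Algebra R₀ R'] [Algebra R R']
    [Algebra C R'] [IsScalarTower R₀ R R'] [IsScalarTower R₀ C R'] [Algebra.IsPushout R₀ R C R']
    [Module.Flat R₀ R] [Module.Flat R₀ A] {p : ℕ} (hp : 0 < p) : Subsingleton (DRing.Tor R p A R') := by
  obtain ⟨t, ht⟩ := TorFlatBC.exists_tor_bc (A := R₀) (A' := R) (P' := A) (ModuleCat.of R₀ C) p
  haveI := FMTool.subsingleton_tor_flat (A := R₀) (M := A) C hp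
  have h : Subsingleton (DRing.Tor R p A (R ⊗[R₀] C)) := ⟨fun x y => by
    obtain ⟨x, rfl⟩ := ht.2 x
    obtain ⟨y, rfl⟩ := ht.2 y
    exact congrArg t (Subsingleton.elim x y)⟩
  let e := ((CategoryTheory.Tor (ModuleCat.{u} R) p).obj (ModuleCat.of R A)).mapIso
    (Algebra.IsPushout.equiv R₀ R C R').toLinearEquiv.toModuleIso
  exact e.toLinearEquiv.toEquiv.subsingleton_congr.1 h

variable {X X' Y Y' S T : Scheme.{u}} {f : X ⟶ Y} {p : X' ⟶ X} {g : X' ⟶ Y'} {h : Y' ⟶ Y}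
  {q : Y ⟶ S} {t : T ⟶ S} {t' : Y' ⟶ T}

/-- **tor-independent base change**: base change along the projection of a fibre product over `S` of `S`-flat data -/
theorem rel_bc_indep [LocallyOfFiniteType f] (H : IsPullback p g f h) (H₀ : IsPullback h t' q t)
    [Flat q] [Flat (f ≫ q)] [DCoh.HasLpull p] {m : ℤ} {E : DCoh.D X} (hEq : DCoh.IsQCohD E)
    (hE : DerSch.IsPseudoCoherentRel f m E) :
    DerSch.IsPseudoCoherentRel g m ((DCoh.Lpull p).obj E) := by
  haveI : LocallyOfFiniteType g := MorphismProperty.of_isPullback H inferInstance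
  refine ⟨inferInstance, {V' | ∃ (W : S.affineOpens) (V : Y.affineOpens) (T₀ : T.affineOpens),
    (V : Y.Opens) ≤ q ⁻¹ᵁ (W : S.Opens) ∧ (T₀ : T.Opens) ≤ t ⁻¹ᵁ (W : S.Opens) ∧
      (V' : Y'.Opens) = h ⁻¹ᵁ (V : Y.Opens) ⊓ t' ⁻¹ᵁ (T₀ : T.Opens)}, ?_, ?_⟩
  · refine eq_top_iff.2 fun y _ => ?_
    obtain ⟨T₀, W, hyT, hTW, -⟩ := RelPCS.exists_pair_le t (O := ⊤) (x := t'.base y) trivial
    have hyW : q.base (h.base y) ∈ (W : S.Opens) := by
      have := congrArg (fun k => k.base y) H₀.w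
      simp only [Scheme.Hom.comp_base, TopCat.comp_app] at this
      rw [this]
      exact hTW hyT
    obtain ⟨_, ⟨V, hV, rfl⟩, hyV, hVW⟩ :=
      Y.isBasis_affineOpens.exists_subset_of_mem_open (show h.base y ∈ q ⁻¹ᵁ (W : S.Opens) from hyW)
        (q ⁻¹ᵁ (W : S.Opens)).isOpen
    replace hV : IsAffineOpen V := hV
    haveI : IsAffine _ := hV
    haveI : IsAffine _ := W.2
    haveI : IsAffine _ := T₀.2
    have hV' : IsAffineOpen (h ⁻¹ᵁ V ⊓ t' ⁻¹ᵁ (T₀ : T.Opens)) :=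
      .of_isIso (Scheme.Hom.isPullback_resLE H₀ hTW hVW rfl).isoPullback.hom
    exact Opens.mem_iSup.2 ⟨⟨_, hV'⟩, Opens.mem_iSup.2 ⟨⟨W, ⟨V, hV⟩, T₀, hVW, hTW, rfl⟩, hyV, hyT⟩⟩
  rintro V' ⟨W, V, T₀, hVW, hTW, hV'e⟩
  have hVV : (V' : Y'.Opens) ≤ h ⁻¹ᵁ (V : Y.Opens) := hV'e.le.trans inf_le_left
  have hVT : (V' : Y'.Opens) ≤ t' ⁻¹ᵁ (T₀ : T.Opens) := hV'e.le.trans inf_le_right
  refine ⟨{U' | ∃ U : X.affineOpens, (U : X.Opens) ≤ f ⁻¹ᵁ (V : Y.Opens) ∧
      (U' : X'.Opens) = p ⁻¹ᵁ (U : X.Opens) ⊓ g ⁻¹ᵁ (V' : Y'.Opens)}, ?_, ?_⟩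
  · refine le_antisymm (iSup₂_le fun U' ⟨U, _, e⟩ => e.le.trans inf_le_right) fun x hx => ?_
    have hxV : f.base (p.base x) ∈ (V : Y.Opens) := by
      have := congrArg (fun k => k.base x) H.w
      simp only [Scheme.Hom.comp_base, TopCat.comp_app] at this
      rw [this]
      exact hVV hx
    obtain ⟨_, ⟨U, hU, rfl⟩, hxU, hUV⟩ :=
      X.isBasis_affineOpens.exists_subset_of_mem_open (show p.base x ∈ f ⁻¹ᵁ (V : Y.Opens) from hxV)
        (f ⁻¹ᵁ (V : Y.Opens)).isOpen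
    replace hU : IsAffineOpen U := hU
    haveI : IsAffine _ := hU
    haveI : IsAffine _ := V.2
    haveI : IsAffine _ := V'.2
    have hU' : IsAffineOpen (p ⁻¹ᵁ U ⊓ g ⁻¹ᵁ (V' : Y'.Opens)) :=
      .of_isIso (Scheme.Hom.isPullback_resLE H hVV hUV rfl).isoPullback.hom
    exact Opens.mem_iSup.2 ⟨⟨_, hU'⟩, Opens.mem_iSup.2 ⟨⟨⟨U, hU⟩, hUV, rfl⟩, hxU, hx⟩⟩
  rintro U' ⟨U, hUV, hU'e⟩ hle
  obtain ⟨n, φ, hφ⟩ := RelPCS.exists_chart U.2 V.2 hUV
  obtain ⟨hs, hpc⟩ := RelPCS.qpc_of_rel hE U.2 V.2 hUV hφ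
  have hUp : (U' : X'.Opens) ≤ p ⁻¹ᵁ (U : X.Opens) := hU'e.le.trans inf_le_left
  have sq₀ : IsPushout (q.appLE (W : S.Opens) V hVW) (t.appLE (W : S.Opens) T₀ hTW) (h.appLE (V : Y.Opens) V' hVV)
      (t'.appLE (T₀ : T.Opens) V' hVT) := by
    have := isIso_pushoutSection_of_isAffineOpen H₀ hTW hVW hV'e W.2 T₀.2 V.2
    exact (isIso_pushoutSection_iff H₀ hTW hVW hV'e).1 this
  have sq : IsPushout (f.appLE (V : Y.Opens) U hUV) (h.appLE (V : Y.Opens) V' hVV) (p.appLE (U : X.Opens) U' hUp)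
      (g.appLE (V' : Y'.Opens) U' (hU'e.le.trans inf_le_right)) := by
    have := isIso_pushoutSection_of_isAffineOpen H hVV hUV hU'e V.2 V'.2 U.2
    exact (isIso_pushoutSection_iff H hVV hUV hU'e).1 this
  let R₀ := Γ(S, (W : S.Opens))
  let R := Γ(Y, (V : Y.Opens))
  let A := Γ(X, (U : X.Opens))
  let C := Γ(T, (T₀ : T.Opens))
  let R' := Γ(Y', (V' : Y'.Opens))
  let A' := Γ(X', (U' : X'.Opens))
  letI : Algebra R₀ R := (q.appLE (W : S.Opens) V hVW).hom.toAlgebra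
  letI : Algebra R A := (f.appLE (V : Y.Opens) U hUV).hom.toAlgebra
  letI : Algebra R₀ A := ((f ≫ q).appLE (W : S.Opens) U (hUV.trans (f.preimage_mono hVW))).hom.toAlgebra
  letI : Algebra R₀ C := (t.appLE (W : S.Opens) T₀ hTW).hom.toAlgebra
  letI : Algebra R R' := (h.appLE (V : Y.Opens) V' hVV).hom.toAlgebra
  letI : Algebra C R' := (t'.appLE (T₀ : T.Opens) V' hVT).hom.toAlgebra
  letI : Algebra R₀ R' := (q.appLE (W : S.Opens) V hVW ≫ h.appLE (V : Y.Opens) V' hVV).hom.toAlgebra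
  letI : Algebra A A' := (p.appLE (U : X.Opens) U' hUp).hom.toAlgebra
  letI : Algebra R' A' := (g.appLE (V' : Y'.Opens) U' (hU'e.le.trans inf_le_right)).hom.toAlgebra
  letI : Algebra R A' := (f.appLE (V : Y.Opens) U hUV ≫ p.appLE (U : X.Opens) U' hUp).hom.toAlgebra
  haveI : IsScalarTower R₀ R A := IsScalarTower.of_algebraMap_eq' (congrArg CommRingCat.Hom.hom
    (Scheme.Hom.appLE_comp_appLE f q _ _ _ hVW hUV).symm)
  haveI : IsScalarTower R₀ R R' := IsScalarTower.of_algebraMap_eq' rfl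
  haveI : IsScalarTower R₀ C R' := IsScalarTower.of_algebraMap_eq' (congrArg CommRingCat.Hom.hom sq₀.w)
  haveI : IsScalarTower R A A' := IsScalarTower.of_algebraMap_eq' rfl
  haveI : IsScalarTower R R' A' := IsScalarTower.of_algebraMap_eq' (congrArg CommRingCat.Hom.hom sq.w)
  haveI : Algebra.IsPushout R₀ R C R' := CommRingCat.isPushout_iff_isPushout.mp sq₀
  haveI : Algebra.IsPushout R R' A A' := (CommRingCat.isPushout_iff_isPushout.mp sq).symm
  haveI : Module.Flat R₀ R := q.flat_appLE W.2 V.2 hVW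
  haveI : Module.Flat R₀ A := (f ≫ q).flat_appLE W.2 U.2 _
  haveI : Algebra.FiniteType R A := LocallyOfFiniteType.finiteType_appLE f V.2 U.2 hUV
  have htor : ∀ i : ℕ, 0 < i → Subsingleton (DRing.Tor R i A R') := fun i hi =>
    subsingleton_tor_sq (R₀ := R₀) (C := C) hi
  haveI : ∀ B : CommRingCat.{u}, PreservesFiniteLimits (tilde.functor B) := inferInstance
  let j := U.2.fromSpec
  let j' := U'.2.fromSpec
  haveI := RelPCS.closedImm_sp hs
  have hjq : DCoh.IsQCohD ((RD j).obj E) := fun i => QC.isQCoh_of_iso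
    ((DQCoh.homologyDerIso (Scheme.Modules.restrictFunctor j) i).app E).symm (QC.isQCoh_restrict j (hEq i))
  obtain ⟨M, ⟨eM⟩⟩ := (DQCoh.tildeD_affine (R := CommRingCat.of A)).2.2 _ |>.1 hjq
  have hM : DerCA.IsRelPseudoCoherent R A m M :=
    ⟨n, { toRingHom := φ, commutes' := fun r => RingHom.congr_fun hφ.2 r }, hφ.1,
      (DQCoh.pseudoCoherent_tilde_iff _ m).1
        (pc_of_iso ((PD (sp φ)).mapIso eM.symm ≪≫ (RelPCS.pdTildeIso φ).app M) hpc)⟩
  let B := R' ⊗[R] A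
  let incR : A →+* B := (Algebra.TensorProduct.includeRight : A →ₐ[R] B).toRingHom
  haveI := DRingKP.hasLBaseChange incR
  obtain ⟨k, β, hβ, hβpc⟩ := RelPC.rel_tor_bc (R := R) (A := A) (R' := R') htor M m hM
  let e : B ≃ₐ[R'] A' := Algebra.IsPushout.equiv R R' A A'
  letI : Algebra A' B := e.symm.toRingEquiv.toRingHom.toAlgebra
  have hb : Function.Bijective (algebraMap A' B) := e.symm.bijective
  haveI : IsOpenImmersion (sp (algebraMap A' B)) := by
    haveI : IsIso (CommRingCat.ofHom (algebraMap A' B)) :=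
      ((RingEquiv.ofBijective _ hb).toCommRingCatIso).isIso_hom
    infer_instance
  let φ' : MvPolynomial (Fin k) R' →+* A' := (e.toAlgHom.comp β).toRingHom
  have hφ's : Function.Surjective φ' := e.surjective.comp hβ
  have hch : DerSch.IsChart g (U' : X'.Opens) V' hle φ' :=
    ⟨hφ's, RingHom.ext fun r => (e.toAlgHom.comp β).commutes r⟩
  have hC : (β : MvPolynomial (Fin k) R' →+* B).comp MvPolynomial.C =
      (algebraMap A' B).comp (φ'.comp MvPolynomial.C) := RingHom.ext fun r => (e.symm_apply_apply _).symm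
  refine ⟨k, φ', hch, (RelPCS.chartPC_iff U'.2 _ _ hφ's).2
    ((RelPCS.qpc_equiv hb φ' hφ's (β : MvPolynomial (Fin k) R' →+* B) hβ hC).2 ⟨hβ, ?_⟩)⟩
  haveI := RelPCS.closedImm_sp (φ := (β : MvPolynomial (Fin k) R' →+* B)) hβ
  have hw : sp incR ≫ j = (sp (algebraMap A' B) ≫ j') ≫ p := by
    rw [Category.assoc, ← IsAffineOpen.SpecMap_appLE_fromSpec p U.2 U'.2 hUp]
    refine (congrArg (· ≫ j) ?_).trans (Category.assoc _ _ _)
    refine (congrArg Spec.map (CommRingCat.hom_ext (RingHom.ext fun a => ?_))).trans (Spec.map_comp _ _)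
    refine e.injective ?_
    show e ((1 : R') ⊗ₜ[R] a) = e (e.symm (algebraMap A A' a))
    rw [e.apply_symm_apply, Algebra.IsPushout.equiv_tmul, map_one, one_mul]
  obtain ⟨K, hK, -, ⟨eK⟩⟩ := KFlat.exists_isKFlat_rep E
  haveI := KFlat.hasLpull (sp incR)
  haveI := KFlat.hasLpull (Spec.map (CommRingCat.ofHom incR))
  obtain ⟨eT⟩ := TildeKFlat.nonempty_lpull_tildeD incR
  let j'' := sp (algebraMap A' B) ≫ j'
  let e₁ : (RD j'').obj ((DCoh.Lpull p).obj E) ≅ (DCoh.tildeD (CommRingCat.of B)).obj ((DRing.LBaseChange incR).obj M) :=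
    (RD j'').mapIso ((DCoh.Lpull p).mapIso eK.symm ≪≫ ProjForm.lpullIso p hK) ≪≫ rdIso j'' _ ≪≫
      DerivedCategory.Q.mapIso (rCIsoQC j'' _ ≪≫ qCSquare (W := X) j'' p (sp incR) j hw K) ≪≫
      (ProjForm.lpullIso (sp incR) (KFlat.isKFlat_pullback j hK)).symm ≪≫
      (DCoh.Lpull (sp incR)).mapIso (DerivedCategory.Q.mapIso (rCIsoQC j K).symm ≪≫ (rdIso j K).symm ≪≫
        (RD j).mapIso eK ≪≫ eM.symm) ≪≫ (eT.app M).symm
  exact pc_of_iso ((PD (sp (β : MvPolynomial (Fin k) R' →+* B))).mapIso e₁ ≪≫ (RelPCS.pdTildeIso _).app _).symm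
    ((DQCoh.pseudoCoherent_tilde_iff _ m).2 hβpc)

end Groth.Agent.KSixLib
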