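import Groth.Agent.KSixLib.Tensor
import Groth.Agent.CohProperPush.TorPush
import Groth.Agent.TorQC.Main
import Groth.Agent.DQPush.Restrict

/-!
# Tor amplitude of direct images relative to a third scheme
-/

set_option backward.isDefEq.respectTransparency false
set_option backward.isDefEq.respectTransparency.types false
set_option linter.style.haveILetI false
set_option autoImplicit false
set_option maxHeartbeats 1000000

universe u

open CategoryTheory Limits AlgebraicGeometry HomologicalComplex MonoidalCategory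

attribute [local instance] HasDerivedCategory.standard

namespace Groth.Agent.KSixLib

section Ring

open Groth.Agent.DRingKP

variable {A : Type u} [CommRing A]

/-- amplitude from vanishing after derived tensor products with modules -/
theorem amp_of_tens_vanish {a b : ℤ} (L : DRing.Cx A) (hL : ∀ i, b < i → IsZero (L.homology i))
    (h : ∀ Q : ModuleCat.{u} A, ∃ (P : DRing.Cx A) (u : P ⟶ (single _ (ComplexShape.up ℤ) 0).obj Q),
      DRingKP.IsKFlat P ∧ QuasiIso u ∧ ∀ i, i < a → IsZero ((L ⊗ P).homology i)) :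
    DRing.HasTorAmplitudeIn A a b (DRing.toD L) := by
  haveI : L.IsLE b :=
    (CochainComplex.isLE_iff L b).2 fun i hi => (exactAt_iff_isZero_homology _ _).2 (hL i hi)
  let L' := L.truncLE b
  haveI : QuasiIso (L.ιTruncLE b) := inferInstance
  obtain ⟨G, c, hGb, hG, ⟨e⟩⟩ := exists_proj_rep_le (DRing.toD L')
    ⟨b + 1, fun i hi => ((exactAt_iff_isZero_homology _ _).1
      (ExactAt.of_isZero (CochainComplex.isZero_of_isStrictlyLE L' b i (by lia)))).of_iso
        ((DerivedCategory.homologyFunctorFactors _ i).app _)⟩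
  haveI := isKProjective_of_vanishesAbove hGb hG
  obtain ⟨g, hg⟩ := PerfLocal.exists_lift e.hom
  haveI : IsIso (DerivedCategory.Q.map g) := by rw [hg]; infer_instance
  haveI : QuasiIso g := (DerivedCategory.isIso_Q_map_iff_quasiIso _ g).1 inferInstance
  have hGk : DRingKP.IsKFlat G := isKFlat_of_bounded hGb (flat_of_projective hG)
  refine amp_iff_torVan.2 ⟨G, c, hGb, flat_of_projective hG,
    ⟨e ≪≫ asIso (DerivedCategory.Q.map (L.ιTruncLE b))⟩, fun Q i hi => ?_⟩
  have key : ∀ (P : DRing.Cx A) (u : P ⟶ (single _ (ComplexShape.up ℤ) 0).obj Q), DRingKP.IsKFlat P →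
      QuasiIso u → IsZero ((L' ⊗ P).homology i) → IsZero (((tR Q).obj G).homology i) := fun P u hP hu h0 => by
    haveI := CohProperPush.quasiIso_whiskerRight g hP
    haveI := CohProperPush.quasiIso_whiskerRight u hGk
    exact h0.of_iso ((homologyFunctor _ _ i).mapIso ((DRingKP.tensSingleIso G Q).symm ≪≫
        KFlat.swapIso (DRingKP.tBraid A) G _) ≪≫
      (@asIso _ _ _ _ (homologyMap (u ▷ G) i) inferInstance).symm ≪≫
      (homologyFunctor _ _ i).mapIso (KFlat.swapIso (DRingKP.tBraid A) P G) ≪≫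
      @asIso _ _ _ _ (homologyMap (g ▷ P) i) inferInstance)
  rcases hi with hi | hi
  · obtain ⟨P, u, hP, hu, hz⟩ := h Q
    haveI := CohProperPush.quasiIso_whiskerRight (L.ιTruncLE b) hP
    exact key P u hP hu ((hz i hi).of_iso
      (@asIso _ _ _ _ (homologyMap ((L.ιTruncLE b) ▷ P) i) inferInstance))
  · let R := projectiveResolution Q
    refine key R.cochainComplex (resToSingle R) ((rflat_iff _).1 (isKFlat_res R)) inferInstance ?_
    refine ShortComplex.isZero_homology_of_isZero_X₂ _ ?_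
    refine (IsZero.iff_id_eq_zero _).2 (HomologicalComplex.mapBifunctor.hom_ext fun p q hpq => ?_)
    refine IsZero.eq_of_src ?_ _ _
    have hpq' : p + q = i := hpq
    rcases (show b < p ∨ 0 < q by lia) with hp | hq
    · exact Functor.map_isZero ((curriedTensor (ModuleCat.{u} A)).flip.obj _)
        (CochainComplex.isZero_of_isStrictlyLE L' b p hp)
    · exact Functor.map_isZero ((curriedTensor (ModuleCat.{u} A)).obj _)
        (CochainComplex.isZero_of_isStrictlyLE R.cochainComplex 0 q hq)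

end Ring

variable {X Y S : Scheme.{u}}

/-- the affine case -/
theorem torAmp_push_affine [IsAffine S] (f : X ⟶ Y) [QuasiCompact f] [QuasiSeparated f] [DCoh.HasRpush f]
    (q : Y ⟶ S) (F : CochainComplex X.Modules ℤ) (hq : DCoh.IsQCohD (DCoh.toD X F)) {a b b' : ℤ}
    (hF : DerSch.HasTorAmplitude (f ≫ q) a b F) (R : CochainComplex Y.Modules ℤ)
    (e : DCoh.toD Y R ≅ (DCoh.Rpush f).obj (DCoh.toD X F)) (hb : ∀ i, b' < i → IsZero (R.homology i)) :
    DerSch.HasTorAmplitude q a b' R := fun y => by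
  refine amp_of_tens_vanish _ (fun i hi => ?_) fun Q => ?_
  · let T := DQCoh.stA q y
    exact (T.map_isZero (hb i hi)).of_iso ((R.sc i).mapHomologyIso T)
  obtain ⟨G, hG, ⟨γ⟩⟩ := TorQC.exists_qcoh_stalk (q.base y) Q
  let sG : CochainComplex S.Modules ℤ := (single S.Modules (ComplexShape.up ℤ) 0).obj G
  haveI : sG.IsStrictlyLE 0 := (CochainComplex.isStrictlyLE_iff sG 0).2 fun i hi =>
    isZero_single_obj_X (ComplexShape.up ℤ) 0 G i (by omega)
  obtain ⟨P, pr, hP, -, hpr, -⟩ := KFlat.exists_resolution_le_sch sG 0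
  haveI := hpr
  have hPq : DCoh.IsQCohD (DCoh.toD S P) := fun j => by
    let e' : DCoh.HD (DCoh.toD S P) j ≅ sG.homology j :=
      KFlat.hdIso P j ≪≫ @asIso _ _ _ _ (homologyMap pr j) inferInstance
    rcases eq_or_ne j 0 with rfl | hj
    · exact QC.isQCoh_of_iso ((singleObjHomologySelfIso (ComplexShape.up ℤ) 0 G).symm ≪≫ e'.symm) hG
    · exact DQCoh.isQCoh_of_isZero (((exactAt_iff_isZero_homology _ _).1
        (exactAt_single_obj (ComplexShape.up ℤ) 0 G j hj)).of_iso e')
  let Ps : DRing.Cx (S.presheaf.stalk (q.base y)) := (KFlat.stCx (q.base y)).obj P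
  let u : Ps ⟶ (single _ (ComplexShape.up ℤ) 0).obj Q := (KFlat.stCx (q.base y)).map pr ≫
    ((singleMapHomologicalComplex (DerSch.stalkFunctor S (q.base y)) (ComplexShape.up ℤ) 0).app G).hom ≫
    (single _ (ComplexShape.up ℤ) 0).map γ.hom
  haveI : QuasiIso u := by
    haveI : QuasiIso ((KFlat.stCx (q.base y)).map pr) := inferInstance
    infer_instance
  refine ⟨Ps, u, (KFlat.isKFlat_iff_stalks P).1 hP _, inferInstance, fun i hi => ?_⟩
  let M := ((Scheme.Modules.pullback q).mapHomologicalComplex (ComplexShape.up ℤ)).obj P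
  let N := ((Scheme.Modules.pullback f).mapHomologicalComplex (ComplexShape.up ℤ)).obj M
  have hM : DCoh.IsKFlat M := KFlat.isKFlat_pullback q hP
  have hN : DCoh.IsKFlat N := KFlat.isKFlat_pullback f hM
  haveI := KFlat.hasLpull f
  haveI := KFlat.hasLpull q
  haveI := KFlat.hasLTensorCx M
  haveI := KFlat.hasLTensorCx N
  let eM : DCoh.toD Y M ≅ (DCoh.Lpull q).obj (DCoh.toD S P) :=
    (KFlat.evalIso (KFlat.kFlatAcyclic_pullback q) (DCoh.Lpull q)
      ((DCoh.pullKh q).totalLeftDerivedCounit DerivedCategory.Qh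
        (HomotopyCategory.quasiIso S.Modules (ComplexShape.up ℤ))) hP).symm
  have hMq : DCoh.IsQCohD (DCoh.toD Y M) := fun j =>
    QC.isQCoh_of_iso ((DerivedCategory.homologyFunctor Y.Modules j).mapIso eM).symm (DQCoh.isQCohD_Lpull q _ hPq j)
  let eN : DCoh.toD X N ≅ (DCoh.Lpull f).obj (DCoh.toD Y M) :=
    (KFlat.evalIso (KFlat.kFlatAcyclic_pullback f) (DCoh.Lpull f)
      ((DCoh.pullKh f).totalLeftDerivedCounit DerivedCategory.Qh
        (HomotopyCategory.quasiIso Y.Modules (ComplexShape.up ℤ))) hM).symm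
  obtain ⟨pf⟩ := S1118.result f (DCoh.toD X F) hq M hMq N ⟨eN⟩
  let D : DCoh.D X := (DCoh.LTensorCx N).obj (DCoh.toD X F)
  let eP : N ≅ ((Scheme.Modules.pullback (f ≫ q)).mapHomologicalComplex (ComplexShape.up ℤ)).obj P :=
    Hom.isoOfComponents (fun n => (Scheme.Modules.pullbackComp f q).app (P.X n))
      fun i j _ => ((Scheme.Modules.pullbackComp f q).hom.naturality (P.d i j)).symm
  haveI : D.IsGE a := (DerivedCategory.isGE_iff D a).2 fun j hj =>
    (CohProperPush.isZero_homology_tens_pullback (f ≫ q) hF hP pr j (Or.inl hj)).of_iso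
      ((DerivedCategory.homologyFunctor X.Modules j).mapIso (KFlat.ltIsoOfKFlat hN F) ≪≫ KFlat.hdIso _ j ≪≫
        (homologyFunctor _ _ j).mapIso ((DCoh.tensorCx.obj F).mapIso eP))
  haveI := DQPush.isGE_rpush f D a
  let C := (DCoh.tensorCx.obj R).obj M
  have hC : IsZero (C.homology i) :=
    (DerivedCategory.isZero_of_isGE ((DCoh.Rpush f).obj D) a i hi).of_iso
      ((KFlat.hdIso C i).symm ≪≫ (DerivedCategory.homologyFunctor Y.Modules i).mapIso
        ((KFlat.ltIsoOfKFlat hM R).symm ≪≫ (DCoh.LTensorCx M).mapIso e ≪≫ pf))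
  let φ := (q.stalkMap y).hom
  let Res := ModuleCat.restrictScalars.{u} φ
  let eC : (DerSch.stalkCxOver q y).obj R ⊗ Ps ≅ (Res.mapHomologicalComplex (ComplexShape.up ℤ)).obj ((KFlat.stCx y).obj C) :=
    KFlat.projTotIso φ ((KFlat.stCx y).obj R) Ps ≪≫
      (Res.mapHomologicalComplex (ComplexShape.up ℤ)).mapIso
        (tensorIso (Iso.refl _) (CohProperPush.pullStCxIso q y P).symm ≪≫ KFlat.stTotIso y R _)
  exact (Res.map_isZero (((DerSch.stalkFunctor Y y).map_isZero hC).of_iso
      ((C.sc i).mapHomologyIso (DerSch.stalkFunctor Y y)))).of_iso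
    ((homologyFunctor _ _ i).mapIso eC ≪≫ (((KFlat.stCx y).obj C).sc i).mapHomologyIso Res)

/-- **tor amplitude of `Rf_*` over a base** -/
theorem torAmp_push (f : X ⟶ Y) [QuasiCompact f] [QuasiSeparated f] [DCoh.HasRpush f]
    (q : Y ⟶ S) (F : CochainComplex X.Modules ℤ) (hq : DCoh.IsQCohD (DCoh.toD X F)) {a b b' : ℤ}
    (hF : DerSch.HasTorAmplitude (f ≫ q) a b F) (R : CochainComplex Y.Modules ℤ)
    (e : DCoh.toD Y R ≅ (DCoh.Rpush f).obj (DCoh.toD X F)) (hb : ∀ i, b' < i → IsZero (R.homology i)) :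
    DerSch.HasTorAmplitude q a b' R := fun y => by
  obtain ⟨V, hV, hy⟩ := QC.exists_affine_mem (q.base y)
  haveI : IsAffine (V : Scheme.{u}) := hV
  let Y' := q ⁻¹ᵁ V
  let X' := f ⁻¹ᵁ Y'
  let f' := f ∣_ Y'
  let q' := q ∣_ V
  haveI := DerPush.hasRpush_sch f'
  obtain ⟨re⟩ := DQPush.nonempty_rpushRestrIso f Y'
  let F' := (DCoh.restrictCx X').obj F
  let R' := (DCoh.restrictCx Y').obj R
  have hq' : DCoh.IsQCohD (DCoh.toD X' F') := fun j => QC.isQCoh_of_iso
    (((DQCoh.homologyDerIso (Scheme.Modules.restrictFunctor X'.ι) j).app _).symm ≪≫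
      (DerivedCategory.homologyFunctor _ j).mapIso (DQCoh.rdIso X'.ι F))
    (QC.isQCoh_restrict _ (hq j))
  have hF' : DerSch.HasTorAmplitude (f' ≫ q') a b F' := fun v => by
    have key : ∀ (h' : ↑X' ⟶ S), h' = X'.ι ≫ (f ≫ q) → DerSch.HasTorAmplitudeAt h' a b F' v := fun h' e' => by
      subst e'
      exact (torAmpAt_iff _ a b _ v).2 ((DQCoh.relAmpAt_restrict_iff X' F a b v).2
        ((torAmpAt_iff _ a b F _).1 (hF _)))
    refine torAmpAt_of_openImm (f' ≫ q') V.ι _ v (key _ ?_)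
    rw [Category.assoc, morphismRestrict_ι, ← Category.assoc, morphismRestrict_ι, Category.assoc]
  have hb' : ∀ i, b' < i → IsZero (R'.homology i) := fun i hi =>
    ((Scheme.Modules.restrictFunctor Y'.ι).map_isZero (hb i hi)).of_iso
      ((R.sc i).mapHomologyIso (Scheme.Modules.restrictFunctor Y'.ι))
  have h := torAmp_push_affine f' q' F' hq' hF' R'
    ((DQCoh.rdIso Y'.ι R).symm ≪≫ (DQCoh.RD Y'.ι).mapIso e ≪≫ re.app _ ≪≫
      (DCoh.Rpush f').mapIso (DQCoh.rdIso X'.ι F)) hb' ⟨y, hy⟩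
  have hu : DerSch.HasTorAmplitude V.ι 0 0 (DerSch.unitCx (V : Scheme.{u})) :=
    (torAmp_single_zero_iff V.ι _).2 ((isFlatOver_unit_iff V.ι).2 inferInstance)
  have h2 := torAmpAt_comp q' V.ι (n := 0) (by simpa using hu _) h
  have key : ∀ (h' : ↑Y' ⟶ S), h' = Y'.ι ≫ q → DerSch.HasTorAmplitudeAt h' (a - (0 : ℕ)) b' R' ⟨y, hy⟩ →
      DerSch.HasTorAmplitudeAt q a b' R y := fun h' e' ht => by
    subst e'
    have := (torAmpAt_iff _ a b' _ _).1 (by simpa using ht)
    exact (torAmpAt_iff q a b' R y).2 ((DQCoh.relAmpAt_restrict_iff Y' R a b' ⟨y, hy⟩).1 this)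
  exact key _ (morphismRestrict_ι q V) h2

end Groth.Agent.KSixLib
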