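import Groth.Agent.KSixLib.RelPushNoeth
import Groth.Agent.KSixLib.TorPush
import Groth.Agent.KSixLib.PushBound

/-!
# Relative perfection of direct images
-/

set_option backward.isDefEq.respectTransparency false
set_option backward.isDefEq.respectTransparency.types false
set_option linter.style.haveILetI false
set_option autoImplicit false

universe u

open CategoryTheory Limits AlgebraicGeometry

attribute [local instance] HasDerivedCategory.standard

namespace Groth.Agent.KSixLib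

variable {X Y S : Scheme.{u}}

/-- relatively pseudo-coherent complexes have quasi-coherent cohomology -/
theorem isQCohD_of_relAll (p : X ⟶ S) [LocallyOfFiniteType p] {E : DCoh.D X}
    (h : DerSch.IsPseudoCoherentRelAll p E) : DCoh.IsQCohD E := fun i =>
  QC.isQCoh_of_local fun x => by
    obtain ⟨V, hV, hfx⟩ := QC.exists_affine_mem (p.base x)
    obtain ⟨U, hU, hx, hle⟩ := exists_isAffineOpen_mem_and_subset (X := X) (x := x) (U := p ⁻¹ᵁ V) hfx
    obtain ⟨n, φ, hφ⟩ := RelPCS.exists_chart hU hV hle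
    exact ⟨_, hU.fromSpec, inferInstance, hU.range_fromSpec.symm ▸ hx,
      RelPCS.qcoh_of_qpc (RelPCS.qpc_of_rel (h (i - 1)) hU hV hle hφ) i (by lia)⟩

variable (f : X ⟶ Y) [DCoh.HasRpush f] (q : Y ⟶ S)

lemma relAll_of_iso {E E' : DCoh.D Y} (e : E ≅ E') (h : DerSch.IsPseudoCoherentRelAll q E) :
    DerSch.IsPseudoCoherentRelAll q E' := fun m => rel_of_iso q e (h m)

/-- amplitude of `Rf_*` from a bound on modules -/
theorem perfAmp_push [QuasiCompact f] [QuasiSeparated f] (N : ℕ)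
    (hN : ∀ M : X.Modules, Coh.IsQCoh M → ∀ j : ℤ, (N : ℤ) < j →
      IsZero (DCoh.HD ((DCoh.Rpush f).obj (DCoh.inD X M)) j))
    (F : CochainComplex X.Modules ℤ) (c : ℤ) [(DCoh.toD X F).IsGE c] {a b : ℤ}
    (hF : DerSch.HasTorAmplitude (f ≫ q) a b F) (hq : DCoh.IsQCohD (DCoh.toD X F))
    (hrel : DerSch.IsPseudoCoherentRelAll q ((DCoh.Rpush f).obj (DCoh.toD X F)))
    (R : CochainComplex Y.Modules ℤ) (e : DCoh.toD Y R ≅ (DCoh.Rpush f).obj (DCoh.toD X F)) :
    DerSch.HasPerfAmplitudeRel q a (b + N) R := by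
  haveI : (DCoh.toD X F).IsLE b := (DerivedCategory.isLE_iff _ b).2 fun i hi =>
    DQCoh.isZero_homology_of_relAmp (f := f ≫ q) (a := a) (b := b) (fun x => (torAmpAt_iff _ a b F x).1 (hF x)) i hi
  refine ⟨relAll_of_iso q e.symm hrel, torAmp_push f q F hq hF R e fun i hi => ?_⟩
  exact (isZero_rpush_of_module_bound f N hN ((b - c).toNat + 1) (DCoh.toD X F) c b ‹_› inferInstance (by lia) hq i hi).of_iso
    ((KFlat.hdIso R i).symm ≪≫ (DerivedCategory.homologyFunctor Y.Modules i).mapIso e)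

/-- `Rf_*` of a relatively perfect complex has locally finite amplitude -/
theorem perfRel_push [IsProper f] (F : CochainComplex X.Modules ℤ)
    (hF : DerSch.LocFiniteTorAmplitude (f ≫ q) F) (hq : DCoh.IsQCohD (DCoh.toD X F))
    (hrel : DerSch.IsPseudoCoherentRelAll q ((DCoh.Rpush f).obj (DCoh.toD X F)))
    (R : CochainComplex Y.Modules ℤ) (e : DCoh.toD Y R ≅ (DCoh.Rpush f).obj (DCoh.toD X F)) :
    DerSch.IsPerfectRel q R := by
  refine ⟨relAll_of_iso q e.symm hrel, fun y => ?_⟩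
  obtain ⟨U, hU, hy⟩ := QC.exists_affine_mem y
  haveI : IsAffine (U : Scheme.{u}) := hU
  let X' := f ⁻¹ᵁ U
  let f' := f ∣_ U
  haveI : IsProper f' := MorphismProperty.of_isPullback (isPullback_morphismRestrict f U).flip ‹_›
  haveI : CompactSpace (X' : Scheme.{u}) := QuasiCompact.compactSpace_of_compactSpace f'
  haveI := DerPush.hasRpush_sch f'
  obtain ⟨re⟩ := DQPush.nonempty_rpushRestrIso f U
  let F' := (DCoh.restrictCx X').obj F
  let R' := (DCoh.restrictCx U).obj R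
  have hq' : DCoh.IsQCohD (DCoh.toD X' F') := fun j => QC.isQCoh_of_iso
    (((DQCoh.homologyDerIso (Scheme.Modules.restrictFunctor X'.ι) j).app _).symm ≪≫
      (DerivedCategory.homologyFunctor _ j).mapIso (DQCoh.rdIso X'.ι F))
    (QC.isQCoh_restrict _ (hq j))
  obtain ⟨a, b, hab⟩ : ∃ a b : ℤ, DerSch.HasTorAmplitude (f' ≫ (U.ι ≫ q)) a b F' := by
    choose V a b hx hV using hF
    obtain ⟨t, ht⟩ := isCompact_univ.elim_finite_subcover (fun v : ↑(X' : Scheme.{u}) => ((X'.ι ⁻¹ᵁ V (X'.ι.base v) : (X' : Scheme.{u}).Opens) : Set (X' : Scheme.{u})))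
      (fun v => (X'.ι ⁻¹ᵁ V (X'.ι.base v)).isOpen) (fun v _ => Set.mem_iUnion.2 ⟨v, hx (X'.ι.base v)⟩)
    obtain ⟨A, hA⟩ := (t.image fun v => a (X'.ι.base v)).bddBelow
    obtain ⟨B, hB⟩ := (t.image fun v => b (X'.ι.base v)).bddAbove
    refine ⟨A, B, fun v => ?_⟩
    obtain ⟨w, hw, hv⟩ := Set.mem_iUnion₂.1 (ht (Set.mem_univ v))
    have key : ∀ (h' : ↑X' ⟶ S), h' = X'.ι ≫ (f ≫ q) → DerSch.HasTorAmplitudeAt h' A B F' v := fun h' e' => by
      subst e'
      exact (torAmpAt_iff _ A B _ v).2 ((DQCoh.relAmpAt_restrict_iff X' F A B v).2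
        ((torAmpAt_iff _ A B F _).1 (DRingKP.amp_widen
          (hA (Finset.mem_coe.2 (Finset.mem_image_of_mem _ hw)))
          (hB (Finset.mem_coe.2 (Finset.mem_image_of_mem _ hw))) (hV _ _ hv))))
    exact key _ (by rw [← Category.assoc, morphismRestrict_ι, Category.assoc])
  obtain ⟨N, hN⟩ := DQPush.exists_amplitude f'
  haveI : (DCoh.toD X' F').IsLE b := (DerivedCategory.isLE_iff _ b).2 fun i hi =>
    DQCoh.isZero_homology_of_relAmp (f := f' ≫ (U.ι ≫ q)) (a := a) (b := b) (fun x => (torAmpAt_iff _ a b F' x).1 (hab x)) i hi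
  let e' : DCoh.toD U R' ≅ (DCoh.Rpush f').obj (DCoh.toD X' F') :=
    (DQCoh.rdIso U.ι R).symm ≪≫ (DQCoh.RD U.ι).mapIso e ≪≫ re.app _ ≪≫
      (DCoh.Rpush f').mapIso (DQCoh.rdIso X'.ι F)
  have h := torAmp_push f' (U.ι ≫ q) F' hq' hab R' e' (b' := b + N) fun i hi =>
    (hN _ hq' b inferInstance i (by lia)).of_iso
      ((KFlat.hdIso R' i).symm ≪≫ (DerivedCategory.homologyFunctor _ i).mapIso e')
  exact ⟨U, a, b + N, hy, fun v hv => (torAmpAt_iff q a (b + N) R v).2
    ((DQCoh.relAmpAt_restrict_iff U R a (b + N) ⟨v, hv⟩).1 ((torAmpAt_iff _ a (b + N) R' _).1 (h ⟨v, hv⟩)))⟩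

end Groth.Agent.KSixLib
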