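import Groth.Agent.KSixLib.TorProd
import Groth.Agent.TorBC.Core

/-!
# Bounds for external products with a flat first factor
-/

set_option backward.isDefEq.respectTransparency false
set_option backward.isDefEq.respectTransparency.types false
set_option linter.style.haveILetI false
set_option autoImplicit false

universe u

open CategoryTheory Limits AlgebraicGeometry HomologicalComplex MonoidalCategory

attribute [local instance] HasDerivedCategory.standard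

namespace Groth.Agent.KSixLib

variable {S X₁ Y₁ X₂ X : Scheme.{u}} {f₁ : X₁ ⟶ Y₁} {q₁ : Y₁ ⟶ S} {g₂ : X₂ ⟶ S}
  {pX₁ : X ⟶ X₁} {pX₂ : X ⟶ X₂}

/-- `E₁ ⊠ E₂` with `X₁`, `Y₁` flat over `S` -/
theorem isZero_external (hX : IsPullback pX₁ pX₂ (f₁ ≫ q₁) g₂) [Flat q₁] [Flat (f₁ ≫ q₁)]
    (E₁ : CochainComplex X₁.Modules ℤ) {a₁ b₁ : ℤ} (h₁ : DerSch.HasTorAmplitude f₁ a₁ b₁ E₁)
    (E₂ : CochainComplex X₂.Modules ℤ) (a₂ b₂ : ℤ) [(DCoh.toD X₂ E₂).IsGE a₂] [(DCoh.toD X₂ E₂).IsLE b₂]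
    [DCoh.HasLpull pX₁] [DCoh.HasLpull pX₂] (K₂ : CochainComplex X.Modules ℤ) [DCoh.HasLTensorCx K₂]
    (e₂ : DCoh.toD X K₂ ≅ (DCoh.Lpull pX₂).obj (DCoh.toD X₂ E₂)) (i : ℤ) (hi : i < a₁ + a₂ ∨ b₁ + b₂ < i) :
    IsZero (DCoh.HD ((DCoh.LTensorCx K₂).obj ((DCoh.Lpull pX₁).obj (DCoh.toD X₁ E₁))) i) := by
  let W := pullback q₁ g₂
  let u : W ⟶ Y₁ := pullback.fst q₁ g₂
  let v : W ⟶ X₂ := pullback.snd q₁ g₂
  let a : X ⟶ W := pullback.lift (pX₁ ≫ f₁) pX₂ (by rw [Category.assoc]; exact hX.w)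
  have ha₁ : a ≫ u = pX₁ ≫ f₁ := pullback.lift_fst _ _ _
  have ha₂ : a ≫ v = pX₂ := pullback.lift_snd _ _ _
  have Ha : IsPullback pX₁ a f₁ u := IsPullback.of_bot (by rw [ha₂]; exact hX) ha₁.symm (IsPullback.of_hasPullback q₁ g₂)
  haveI : Flat v := MorphismProperty.pullback_snd _ _ ‹_›
  obtain ⟨F₁, hF₁, hF₁b, hF₁f, ⟨eF⟩, hF₁a⟩ := exists_flat_model f₁ E₁ h₁
  let P := ((Scheme.Modules.pullback pX₁).mapHomologicalComplex (ComplexShape.up ℤ)).obj F₁
  have hP : DCoh.IsKFlat P := KFlat.isKFlat_pullback pX₁ hF₁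
  have hPa : DerSch.HasTorAmplitude a a₁ b₁ P := fun z =>
    torAmpAt_sq_indep Ha (IsPullback.of_hasPullback q₁ g₂) F₁ hF₁b hF₁f z (hF₁a _)
  haveI := KFlat.hasLpull a
  haveI := KFlat.hasLpull v
  haveI := KFlat.hasLpull (a ≫ v)
  obtain ⟨c⟩ := KFlat.Lpull_comp_sch a v
  let G₀ := ((Scheme.Modules.pullback v).mapHomologicalComplex (ComplexShape.up ℤ)).obj E₂
  obtain ⟨G, hG, -, ⟨eG⟩⟩ := KFlat.exists_isKFlat_rep (DCoh.toD W G₀)
  let M := ((Scheme.Modules.pullback a).mapHomologicalComplex (ComplexShape.up ℤ)).obj G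
  let eG₀ : DCoh.toD W G₀ ≅ (DCoh.Lpull v).obj (DCoh.toD X₂ E₂) :=
    ((Scheme.Modules.pullback v).mapDerivedCategoryFactors.app E₂).symm ≪≫
      (RelPCS.nonempty_lpullFlat v _).some.symm
  let eM : DCoh.toD X K₂ ≅ DCoh.toD X M :=
    e₂ ≪≫ eqToIso (by simp only [ha₂]) ≪≫ (c.app _).symm ≪≫ (DCoh.Lpull a).mapIso (eG₀.symm ≪≫ eG.symm) ≪≫ KFlat.lpullIso a hG
  obtain ⟨Z, s, hs, g, hfac⟩ := DerivedCategory.right_fac eM.hom
  haveI : IsIso (DerivedCategory.Q.map g) := by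
    have : DerivedCategory.Q.map g = DerivedCategory.Q.map s ≫ eM.hom := by rw [hfac]; simp
    rw [this]; infer_instance
  haveI : QuasiIso s := (DerivedCategory.isIso_Q_map_iff_quasiIso _ s).1 hs
  haveI : QuasiIso g := (DerivedCategory.isIso_Q_map_iff_quasiIso _ g).1 inferInstance
  haveI : QuasiIso ((DCoh.tensorCx.obj P).map s) := TorBC.quasiIso_tens_of_kFlat hP s
  haveI : QuasiIso ((DCoh.tensorCx.obj P).map g) := TorBC.quasiIso_tens_of_kFlat hP g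
  let T := (DCoh.tensorCx.obj M).obj P
  let eT : (DCoh.LTensorCx K₂).obj ((DCoh.Lpull pX₁).obj (DCoh.toD X₁ E₁)) ≅ DCoh.toD X T :=
    (DCoh.LTensorCx K₂).mapIso ((DCoh.Lpull pX₁).mapIso eF.symm ≪≫ KFlat.lpullIso pX₁ hF₁) ≪≫
      KFlat.ltIso K₂ hP ≪≫
      (asIso (DerivedCategory.Q.map ((DCoh.tensorCx.obj P).map s))).symm ≪≫
      asIso (DerivedCategory.Q.map ((DCoh.tensorCx.obj P).map g)) ≪≫
      DerivedCategory.Q.mapIso (KFlat.swapIso (KFlat.braid X.sheaf) P M)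
  have hGz : ∀ j, j < a₂ ∨ b₂ < j → IsZero (G.homology j) := fun j hj => by
    have h0 : IsZero (E₂.homology j) := by
      refine IsZero.of_iso ?_ (KFlat.hdIso E₂ j).symm
      rcases hj with hj | hj
      · exact DerivedCategory.isZero_of_isGE _ a₂ j hj
      · exact DerivedCategory.isZero_of_isLE _ b₂ j hj
    exact ((Scheme.Modules.pullback (pullback.snd q₁ g₂)).map_isZero h0).of_iso
      ((KFlat.hdIso G j).symm ≪≫ (DerivedCategory.homologyFunctor W.Modules j).mapIso eG ≪≫ KFlat.hdIso G₀ j ≪≫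
        (E₂.sc j).mapHomologyIso (Scheme.Modules.pullback (pullback.snd q₁ g₂)))
  have key : ∀ x, ((KFlat.stCx x).obj T).ExactAt i := fun x =>
    (exactAt_bc_tensor (a.stalkMap x).hom (P := (KFlat.stCx (a.base x)).obj G)
      ((KFlat.isKFlat_iff_stalks G).1 hG _) ((KFlat.stCx x).obj P) (c := a₂) (d := b₂) (hPa x)
      (fun j hj => by
        rw [exactAt_iff]
        exact ((exactAt_iff_isZero_homology _ _).2 (hGz j hj)).map (DerSch.stalkFunctor W (a.base x)))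
      i hi).of_iso ((tensorIso (pullStalkCx a x G).symm (Iso.refl _)) ≪≫ KFlat.stTotIso x _ P)
  have hz : IsZero (T.homology i) := KFlat.isZero_of_stalks _ fun x =>
    ((exactAt_iff_isZero_homology _ _).1 (key x)).of_iso
      ((T.sc i).mapHomologyIso (DerSch.stalkFunctor X x)).symm
  exact hz.of_iso ((DerivedCategory.homologyFunctor X.Modules i).mapIso eT ≪≫ KFlat.hdIso T i)

end Groth.Agent.KSixLib
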