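import Groth.Agent.KSixLib.RelExternal
import Groth.Agent.KSixLib.RelPerfPushMain
import Groth.Agent.KSixLib.TorProdBound

/-!
# Perfection of external products
-/

set_option backward.isDefEq.respectTransparency false
set_option backward.isDefEq.respectTransparency.types false
set_option linter.style.haveILetI false
set_option autoImplicit false

universe u

open CategoryTheory Limits AlgebraicGeometry

attribute [local instance] HasDerivedCategory.standard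

namespace Groth.Agent.KSixLib

variable {S X₁ Y₁ X₂ Y₂ X Y : Scheme.{u}} {f₁ : X₁ ⟶ Y₁} {q₁ : Y₁ ⟶ S} {f₂ : X₂ ⟶ Y₂} {q₂ : Y₂ ⟶ S}
  {pX₁ : X ⟶ X₁} {pX₂ : X ⟶ X₂} (hX : IsPullback pX₁ pX₂ (f₁ ≫ q₁) (f₂ ≫ q₂))
  {pY₁ : Y ⟶ Y₁} {pY₂ : Y ⟶ Y₂} (hY : IsPullback pY₁ pY₂ q₁ q₂)
  {f : X ⟶ Y} (hf₁ : f ≫ pY₁ = pX₁ ≫ f₁) (hf₂ : f ≫ pY₂ = pX₂ ≫ f₂)
  [LocallyOfFiniteType f₁] [LocallyOfFiniteType f₂]

include hX hY hf₁ hf₂ in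
/-- external products of relatively perfect complexes -/
theorem perfRel_external [Flat q₂] [Flat (f₂ ≫ q₂)] (E₁ : CochainComplex X₁.Modules ℤ) {a₁ b₁ : ℤ}
    (h₁ : DerSch.HasPerfAmplitudeRel f₁ a₁ b₁ E₁) (E₂ : CochainComplex X₂.Modules ℤ) {a₂ b₂ : ℤ}
    (h₂ : DerSch.HasPerfAmplitudeRel f₂ a₂ b₂ E₂) [DCoh.HasLpull pX₁] [DCoh.HasLpull pX₂]
    (K₂ : CochainComplex X.Modules ℤ) [DCoh.HasLTensorCx K₂]
    (e₂ : DCoh.toD X K₂ ≅ (DCoh.Lpull pX₂).obj (DCoh.toD X₂ E₂)) (K : CochainComplex X.Modules ℤ)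
    (eK : DCoh.toD X K ≅ (DCoh.LTensorCx K₂).obj ((DCoh.Lpull pX₁).obj (DCoh.toD X₁ E₁))) :
    DerSch.HasPerfAmplitudeRel f (a₁ + a₂) (b₁ + b₂) K := by
  haveI := isLE_of_torAmp f₁ E₁ h₁.2
  haveI := isLE_of_torAmp f₂ E₂ h₂.2
  refine ⟨fun m => ?_, torAmp_external hX hY hf₁ hf₂ E₁ h₁.2 E₂ h₂.2 K₂ e₂ K ⟨eK⟩⟩
  have h := (rel_external hX hY hf₁ hf₂ _ (h₁.1 (m - b₂)) _ (isQCohD_of_relAll f₂ h₂.1) (h₂.1 (m - b₁))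
    (b₁ := b₁) (b₂ := b₂) K₂ e₂).1
  rw [show max (m - b₂ + b₂) (m - b₁ + b₁) = m by simp] at h
  exact rel_of_iso _ eK.symm h

include hX hY hf₁ hf₂ in
/-- external products with a flat first factor -/
theorem relAll_external [Flat q₁] [Flat (f₁ ≫ q₁)] (E₁ : CochainComplex X₁.Modules ℤ) {a₁ b₁ : ℤ}
    (h₁ : DerSch.HasPerfAmplitudeRel f₁ a₁ b₁ E₁) (E₂ : DCoh.D X₂) {b₂ : ℤ}
    (h₂ : DerSch.IsPseudoCoherentRelAll f₂ E₂) [E₂.IsLE b₂] [DCoh.HasLpull pX₁] [DCoh.HasLpull pX₂]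
    (K₂ : CochainComplex X.Modules ℤ) [DCoh.HasLTensorCx K₂] (e₂ : DCoh.toD X K₂ ≅ (DCoh.Lpull pX₂).obj E₂) :
    DerSch.IsPseudoCoherentRelAll f ((DCoh.LTensorCx K₂).obj ((DCoh.Lpull pX₁).obj (DCoh.toD X₁ E₁))) := by
  intro m
  haveI := isLE_of_torAmp f₁ E₁ h₁.2
  obtain ⟨P, hP, -, ⟨eP⟩⟩ := KFlat.exists_isKFlat_rep ((DCoh.Lpull pX₁).obj (DCoh.toD X₁ E₁))
  haveI := KFlat.hasLTensorCx P
  have h := (rel_external hX.flip hY.flip hf₂ hf₁ _ (h₂ (m - b₁)) _ (isQCohD_of_relAll f₁ h₁.1) (h₁.1 (m - b₂))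
    (b₁ := b₂) (b₂ := b₁) P eP).1
  rw [show max (m - b₁ + b₁) (m - b₂ + b₂) = m by simp] at h
  refine rel_of_iso _ ?_ h
  exact (DCoh.LTensorCx P).mapIso e₂.symm ≪≫ KFlat.ltIsoOfKFlat hP K₂ ≪≫
    DerivedCategory.Q.mapIso (KFlat.swapIso (KFlat.braid X.sheaf) K₂ P) ≪≫ (KFlat.ltIso K₂ hP).symm ≪≫
    (DCoh.LTensorCx K₂).mapIso eP

end Groth.Agent.KSixLib
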