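import Groth.Agent.KSixLib.PerfFibre
import Groth.Agent.KSixLib.Ascend
import Groth.Agent.RelPCS.FlatFP
import Groth.Agent.RelPCS.FlatTerms
import Groth.Agent.CokStage.Stage
import Groth.Agent.FlatSpread.Fp

/-!
# Relative perfection near a point
-/

set_option backward.isDefEq.respectTransparency false
set_option backward.isDefEq.respectTransparency.types false
set_option linter.style.haveILetI false
set_option autoImplicit false
set_option maxHeartbeats 1000000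

universe u

open CategoryTheory Limits AlgebraicGeometry HomologicalComplex TopologicalSpace Opposite

attribute [local instance] HasDerivedCategory.standard

namespace Groth.Agent.KSixLib

open Groth.Agent.DQCoh

variable {W S : Scheme.{u}} (g : W ⟶ S)

/-- **openness of flatness over the base for finitely presented modules** -/
theorem exists_nhd_flatOverAt [LocallyOfFinitePresentation g] {C : W.Modules} (hq : Coh.IsQCoh C)
    (hfp : CohB1.IsFP C) (w : W) (h : FlatMod.IsFlatOverAt g C w) :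
    ∃ O : W.Opens, w ∈ O ∧ ∀ y ∈ O, FlatMod.IsFlatOverAt g C y := by
  obtain ⟨V, hV, hwV⟩ := QC.exists_affine_mem (g.base w)
  obtain ⟨_, ⟨U, hU, rfl⟩, hwU, hUV⟩ :=
    W.isBasis_affineOpens.exists_subset_of_mem_open (show w ∈ g ⁻¹ᵁ V from hwV) (g ⁻¹ᵁ V).isOpen
  replace hU : IsAffineOpen U := hU
  replace hUV : U ≤ g ⁻¹ᵁ V := hUV
  let R := Γ(S, V)
  let B := Γ(W, U)
  letI : Algebra R B := (g.appLE V U hUV).hom.toAlgebra
  haveI : Algebra.FinitePresentation R B := g.finitePresentation_appLE hV hU hUV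
  letI := FlatModB.secModule g C U V hUV
  haveI : IsScalarTower R B Γ(C, U) := ⟨fun a c m => mul_smul ((g.appLE V U hUV).hom a) c m⟩
  haveI : Module.FinitePresentation B Γ(C, U) := LocFree.finitePresentation_sections_of_isFP hq hfp hU
  let T : Set (PrimeSpectrum B) := {q | Module.Flat R (LocalizedModule q.asIdeal.primeCompl Γ(C, U))}
  have hT : IsOpen T := FlatSpread.isOpen_flatLocus
  have key : ∀ (y : W) (hy : y ∈ U), FlatMod.IsFlatOverAt g C y ↔ hU.primeIdealOf ⟨y, hy⟩ ∈ T := by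
    intro y hy
    rw [FlatModB.isFlatOverAt_iff g C y hV (hUV hy)]
    letI := FlatModB.stalkModule g C y V (hUV hy)
    letI := Module.compHom (C.presheaf.stalk y) (W.presheaf.germ U y hy).hom
    have hgerm : ∀ (a : R), ((S.presheaf.germ V (g.base y) (hUV hy) ≫ g.stalkMap y).hom a) =
        (W.presheaf.germ U y hy).hom ((g.appLE V U hUV).hom a) := fun a => by
      rw [← CommRingCat.comp_apply, Scheme.Hom.germ_stalkMap, Scheme.Hom.appLE, Category.assoc,
        W.presheaf.germ_res]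
    haveI : IsScalarTower R B (C.presheaf.stalk y) :=
      ⟨fun a c m => by
        change (W.presheaf.germ U y hy).hom ((g.appLE V U hUV).hom a * c) • m =
          ((S.presheaf.germ V (g.base y) (hUV hy) ≫ g.stalkMap y).hom a) • ((W.presheaf.germ U y hy).hom c • m)
        rw [map_mul, mul_smul, hgerm a]⟩
    obtain ⟨l, hl⟩ := LocFree.exists_stalkMap hU hq hy
    haveI := hl
    let el := (IsLocalizedModule.iso (hU.primeIdealOf ⟨y, hy⟩).asIdeal.primeCompl l).restrictScalars R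
    exact ⟨fun h => @Module.Flat.of_linearEquiv _ _ _ _ _ _ _ _ h el,
      fun h => @Module.Flat.of_linearEquiv _ _ _ _ _ _ _ _ h el.symm⟩
  refine ⟨hU.fromSpec ''ᵁ ⟨T, hT⟩, ⟨_, (key w hwU).1 h, hU.fromSpec_primeIdealOf ⟨w, hwU⟩⟩, ?_⟩
  rintro _ ⟨q, hq', rfl⟩
  have hy : hU.fromSpec.base q ∈ U := hU.range_fromSpec.le ⟨q, rfl⟩
  refine (key _ hy).2 ?_
  have hqq : hU.primeIdealOf ⟨_, hy⟩ = q :=
    hU.fromSpec.isOpenEmbedding.injective (hU.fromSpec_primeIdealOf ⟨_, hy⟩)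
  rw [hqq]; exact hq'

open RelPCS in
/-- **relative perfection near a point, for a flat morphism locally of finite presentation** -/
theorem relPerf_nhd_of_flat [Flat g] [LocallyOfFinitePresentation g] {K : DCoh.D W} {a b : ℤ} (hab : a ≤ b)
    (hGE : K.IsGE a) (hK : IsAboveD (b + 1) K) (hp : DCoh.IsPseudoCoherentD (a - 1) K) {w : W}
    (hw : RelAmpAt g a b K w) :
    ∃ V : W.Opens, w ∈ V ∧ (∀ m : ℤ, DCoh.IsPseudoCoherentD m ((RD V.ι).obj K)) ∧
      ∀ y ∈ V, RelAmpAt g a b K y := by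
  haveI := hGE
  obtain ⟨F₀, hF₀, ⟨eF₀⟩⟩ := DerivedCategory.exists_iso_Q_obj_of_isGE K a
  obtain ⟨O, E, α, hxO, hE, hEb, hα⟩ := RelPCS.exists_approx_le (n := a - 1) (b := b) (by lia) hK hp w
  obtain ⟨-, hl⟩ := id hE
  let F := (rC O.ι).obj F₀
  haveI : F.IsStrictlyGE a := (CochainComplex.isStrictlyGE_iff F a).2 fun i hi =>
    (Scheme.Modules.restrictFunctor O.ι).map_isZero (F₀.isZero_of_isStrictlyGE a i hi)
  let eF : DerivedCategory.Q.obj F ≅ (RD O.ι).obj K := (rdIso O.ι F₀).symm ≪≫ (RD O.ι).mapIso eF₀.symm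
  obtain ⟨E', s, hs, g₁, hg⟩ := DerivedCategory.right_fac (α ≫ eF.inv)
  have hqs : QuasiIso s := (DerivedCategory.isIso_Q_map_iff_quasiIso _ s).1 hs
  have hqg : ∀ i, a ≤ i → QuasiIsoAt g₁ i := fun i hi => by
    rw [quasiIsoAt_iff_isIso_homologyMap]
    refine (NatIso.isIso_map_iff (DerivedCategory.homologyFunctorFactors (O : Scheme.{u}).Modules i) g₁).1 ?_
    have h1 : DerivedCategory.Q.map g₁ = DerivedCategory.Q.map s ≫ α ≫ eF.inv := by
      rw [hg, IsIso.hom_inv_id_assoc]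
    haveI := hα.1 i (by lia)
    change IsIso ((DerivedCategory.homologyFunctor (O : Scheme.{u}).Modules i).map (DerivedCategory.Q.map g₁))
    rw [h1, Functor.map_comp, Functor.map_comp]
    infer_instance
  have q1 : QuasiIso (CochainComplex.truncGEMap s a) :=
    (CochainComplex.quasiIso_truncGEMap_iff s a).2 fun i _ => inferInstance
  have q2 : QuasiIso (CochainComplex.truncGEMap g₁ a) := (CochainComplex.quasiIso_truncGEMap_iff g₁ a).2 hqg
  have q3 : QuasiIso (F.πTruncGE a) := (CochainComplex.quasiIso_πTruncGE_iff F a).2 inferInstance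
  let τ := E.truncGE a
  let eτ : DCoh.toD (O : Scheme.{u}) τ ≅ (RD O.ι).obj K :=
    (@asIso _ _ _ _ _ ((DerivedCategory.isIso_Q_map_iff_quasiIso _ _).2 q1)).symm ≪≫
      (@asIso _ _ _ _ _ ((DerivedCategory.isIso_Q_map_iff_quasiIso _ _).2 q2)) ≪≫
      (@asIso _ _ _ _ _ ((DerivedCategory.isIso_Q_map_iff_quasiIso _ _).2 q3)).symm ≪≫ eF
  have hXgt : ∀ i, a < i → Nonempty (τ.X i ≅ E.X i) := fun i hi => by
    obtain ⟨k, rfl⟩ := Int.le.dest hi.le
    exact ⟨HomologicalComplex.truncGEXIso E (ComplexShape.embeddingUpIntGE a) (i := k) (by simp)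
      (fun h' => by have := (ComplexShape.boundaryGE_embeddingUpIntGE_iff a k).1 h'; lia)⟩
  have hv : DCoh.VanishesOutside τ a b := fun i hi => by
    rcases hi with hi | hi
    · exact τ.isZero_of_isStrictlyGE a i hi
    · obtain ⟨e⟩ := hXgt i (by lia)
      exact (hEb i hi).of_iso e
  let C := cokernel (E.d (a - 1) a)
  let eC : τ.X a ≅ E.opcycles a := HomologicalComplex.truncGEXIsoOpcycles E (ComplexShape.embeddingUpIntGE a)
    (i := 0) (i' := a) (by simp) ((ComplexShape.boundaryGE_embeddingUpIntGE_iff a 0).2 rfl)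
  let eC' : C ≅ τ.X a := (cokernelIsCokernel (E.d (a - 1) a)).coconePointUniqueUpToIso
    (E.opcyclesIsCokernel (a - 1) a (by simp)) ≪≫ eC.symm
  let g' := O.ι ≫ g
  let w₀ : (O : Scheme.{u}) := ⟨w, hxO⟩
  have hτ : ∀ y : (O : Scheme.{u}), RelAmpAt g' a b (DCoh.toD _ τ) y ↔ RelAmpAt g a b K (O.ι.base y) := fun y => by
    let e₀ : DerivedCategory.Q.obj ((DCoh.restrictCx O).obj F₀) ≅ DCoh.toD _ τ := eF ≪≫ eτ.symm
    exact ⟨fun h => relAmpAt_of_iso eF₀.symm ((relAmpAt_restrict_iff O F₀ a b y).1 (relAmpAt_of_iso e₀.symm h)),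
      fun h => relAmpAt_of_iso e₀ ((relAmpAt_restrict_iff O F₀ a b y).2 (relAmpAt_of_iso eF₀ h))⟩
  have hgt : ∀ i, a < i → FlatMod.IsFlatOver g' (τ.X i) := fun i hi => by
    obtain ⟨e⟩ := hXgt i hi
    exact isFlatOver_of_iso e.symm (flatOver_of_flat g' (DerPerf.isFlat_of_isFinLocFree (hl i)))
  have hC : FlatMod.IsFlatOverAt g' C w₀ := by
    rw [isFlatOverAt_iff]
    let T := ((stA g' w₀).mapHomologicalComplex (ComplexShape.up ℤ)).obj τ
    have hfl := flat_bottom T hab (fun i hi => (stA g' w₀).map_isZero (hv i hi)) (fun i hi => hgt i hi w₀)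
      (DRingKP.amp_of_iso ((stA g' w₀).mapDerivedCategoryFactors.app τ) ((hτ w₀).2 hw))
    exact @Module.Flat.of_linearEquiv _ _ _ _ _ _ _ _ hfl ((stA g' w₀).mapIso eC').toLinearEquiv
  have hEfp : ∀ i, CohB1.IsFP (E.X i) := fun i => LocFree.isFP_of_isFinLocFree (hl i)
  have hEq : ∀ i, Coh.IsQCoh (E.X i) := fun i => LocFree.isQCoh_of_isFinLocFree (hl i)
  have hCfp : CohB1.IsFP C := CokStage.isFP_cokernel _ (hEq _) (hEq _) (hEfp _) (hEfp _)
  obtain ⟨V₁, hwV, hV₁⟩ := exists_nhd_flatOverAt g' (QC.isQCoh_cokernel (hEq _) (hEq _) _) hCfp w₀ hC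
  let g'' := V₁.ι ≫ g'
  let T := (rC V₁.ι).obj τ
  have hTfl : ∀ i, FlatMod.IsFlatOver g'' (T.X i) := fun i => by
    rcases lt_trichotomy i a with hi | rfl | hi
    · exact flatOver_of_isZero g'' ((Scheme.Modules.restrictFunctor V₁.ι).map_isZero (hv i (Or.inl hi)))
    · intro y
      rw [isFlatOverAt_iff]
      have h0 : Module.Flat _ ((stA g' (V₁.ι.base y)).obj C) := (isFlatOverAt_iff g' C _).1 (hV₁ (V₁.ι.base y) y.2)
      exact @Module.Flat.of_linearEquiv _ _ _ _ _ _ _ _ h0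
        ((stARestrictIso (f := g') V₁ y).app (τ.X i) ≪≫ (stA g' (V₁.ι.base y)).mapIso eC'.symm).toLinearEquiv
    · intro y
      rw [isFlatOverAt_iff]
      have h0 : Module.Flat _ ((stA g' (V₁.ι.base y)).obj (τ.X i)) := (isFlatOverAt_iff g' _ _).1 (hgt i hi (V₁.ι.base y))
      exact @Module.Flat.of_linearEquiv _ _ _ _ _ _ _ _ h0
        ((stARestrictIso (f := g') V₁ y).app (τ.X i)).toLinearEquiv
  have hTb : ∀ i, b < i → IsZero (T.X i) := fun i hi =>
    (Scheme.Modules.restrictFunctor V₁.ι).map_isZero (hv i (Or.inr hi))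
  have hTpc : ∀ i, DerSch.IsPseudoCoherentRel g'' (-1) (DCoh.inD _ (T.X i)) := fun i => by
    rw [rel_flat_iff g'']
    have h1 : DCoh.IsPseudoCoherentD (-1) (DCoh.inD _ (τ.X i)) := by
      rcases lt_trichotomy i a with hi | rfl | hi
      · exact pc_negOne_of_isFP (LocFree.isFP_of_isFinLocFree (isFinLocFree_of_isZero (hv i (Or.inl hi))))
      · exact pc_of_iso ((DerivedCategory.singleFunctor _ 0).mapIso eC') (pc_negOne_of_isFP hCfp)
      · obtain ⟨e⟩ := hXgt i hi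
        exact pc_of_iso ((DerivedCategory.singleFunctor _ 0).mapIso e.symm) (pc_negOne_of_isFP (hEfp i))
    exact pc_of_iso (rdInD V₁.ι _) (pc_restrict V₁.ι h1)
  have hpc : ∀ m, DCoh.IsPseudoCoherentD m (DCoh.toD _ T) := fun m =>
    (rel_flat_iff g'' m _).1 (rel_of_flat_terms T b hTb hTfl hTpc m)
  let eT : DCoh.toD _ T ≅ (RD (V₁.ι ≫ O.ι)).obj K :=
    (rdIso V₁.ι τ).symm ≪≫ (RD V₁.ι).mapIso eτ ≪≫ ((rdComp V₁.ι O.ι).app K).symm
  obtain ⟨k, hk, hkj⟩ := exists_opens (V₁.ι ≫ O.ι)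
  refine ⟨(V₁.ι ≫ O.ι).opensRange, ⟨⟨w₀, hwV⟩, rfl⟩, fun m => ?_, ?_⟩
  · exact pc_of_iso (((rdComp k _).app K).symm ≪≫ (rdCongr hkj).app K) (pc_restrict k (pc_of_iso eT (hpc m)))
  · rintro _ ⟨y, rfl⟩
    refine (hτ (V₁.ι.base y)).1 ?_
    refine (relAmpAt_restrict_iff V₁ τ a b y).1 (relAmpAt_of_rel ⟨T, fun i hi => ?_, hTfl, ⟨Iso.refl _⟩⟩ y)
    exact (Scheme.Modules.restrictFunctor V₁.ι).map_isZero (hv i hi)

end Groth.Agent.KSixLib

namespace Groth.Agent.KSixLib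

open Groth.Agent.DQCoh

/-- relative amplitude bounds the cohomology -/
lemma isZero_HD_of_relAmp {X S : Scheme.{u}} (f : X ⟶ S) {a b : ℤ} {K : DCoh.D X}
    (h : ∀ x, RelAmpAt f a b K x) (i : ℤ) (hi : i < a ∨ b < i) : IsZero (DCoh.HD K i) := by
  refine KFlat.isZero_of_stalks _ fun x => ?_
  obtain ⟨E, hE, -, ⟨e⟩⟩ := h x
  have h1 : IsZero ((DerivedCategory.homologyFunctor _ i).obj ((stA f x).mapDerivedCategory.obj K)) :=
    ((ShortComplex.isZero_homology_of_isZero_X₂ _ (hE i hi)).of_iso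
      ((DerivedCategory.homologyFunctorFactors _ i).app E)).of_iso ((DerivedCategory.homologyFunctor _ i).mapIso e.symm)
  have h2 : Subsingleton ((stA f x).obj (DCoh.HD K i)) :=
    ModuleCat.subsingleton_of_isZero (h1.of_iso ((homologyDerIso (stA f x) i).app K).symm)
  exact @ModuleCat.isZero_of_subsingleton _ _ _ h2

open RelPCS in
/-- the step inside a closed immersion into a flat scheme locally of finite presentation over the base -/
theorem perfAmpRel_nhd_of_chart {X Y W : Scheme.{u}} (f : X ⟶ Y) [LocallyOfFiniteType f]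
    (F : CochainComplex X.Modules ℤ) {U' : X.Opens} (i : (U' : Scheme.{u}) ⟶ W) [IsClosedImmersion i]
    (g : W ⟶ Y) [Flat g] [LocallyOfFinitePresentation g] (hw : i ≫ g = U'.ι ≫ f) {a b : ℤ}
    (hpc : DerSch.IsPseudoCoherentRel (i ≫ g) (a - 1) (DCoh.toD _ ((DCoh.restrictCx U').obj F)))
    (hvan : ∀ j, j < a ∨ b < j → IsZero (((DCoh.restrictCx U').obj F).homology j))
    (x' : (U' : Scheme.{u})) (htor : RelAmpAt f a b (DCoh.toD X F) (U'.ι.base x')) :
    ∃ O' : X.Opens, U'.ι.base x' ∈ O' ∧ DerSch.HasPerfAmplitudeRel (O'.ι ≫ f) a b ((DCoh.restrictCx O').obj F) := by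
  let F' := (DCoh.restrictCx U').obj F
  let G := (DerSch.pushCx i).obj F'
  have hG : DCoh.IsPseudoCoherentD (a - 1) (DCoh.toD _ G) := (rel_closedImm_comp_flat_iff i g _ F').1 hpc
  have hGz : ∀ j, j < a ∨ b < j → IsZero (DCoh.HD (DCoh.toD _ G) j) := fun j hj =>
    (((Scheme.Modules.pushforward i).map_isZero (hvan j hj)).of_iso
      ((F'.sc j).mapHomologyIso (Scheme.Modules.pushforward i))).of_iso (KFlat.hdIso G j)
  have hx' : DerSch.HasTorAmplitudeAt (i ≫ g) a b F' x' := by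
    rw [hw]
    exact (torAmpAt_iff _ a b F' x').2 ((relAmpAt_restrict_iff U' F a b x').2 htor)
  have hGw : RelAmpAt g a b (DCoh.toD _ G) (i.base x') :=
    (torAmpAt_iff g a b G _).1 ((torAmpAt_push i g F' x').2 hx')
  obtain ⟨V', hwV', hV'pc, hV'amp⟩ := relPerf_nhd_of_flat g (K := DCoh.toD _ G) (le_max_left a b)
    ((DerivedCategory.isGE_iff _ _).2 fun j hj => hGz j (Or.inl hj))
    (fun j hj => hGz j (Or.inr (by lia))) hG (relAmpAt_widen le_rfl (le_max_right a b) hGw)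
  let O : (U' : Scheme.{u}).Opens := i ⁻¹ᵁ V'
  let O' : X.Opens := U'.ι ''ᵁ O
  refine ⟨O', ⟨x', hwV', rfl⟩, fun m => ?_, fun y => ?_⟩
  · let Fo := (rC O.ι).obj F'
    have h1 : DCoh.IsPseudoCoherentD m ((PD (i ∣_ V')).obj (DCoh.toD _ Fo)) :=
      pc_of_iso ((RD V'.ι).mapIso (pdIso i F').symm ≪≫ (pdRestrIso i V').app _ ≪≫
        (PD (i ∣_ V')).mapIso (rdIso O.ι F')) (hV'pc m)
    have h2 : DerSch.IsPseudoCoherentRel ((i ∣_ V') ≫ V'.ι ≫ g) m (DCoh.toD _ Fo) :=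
      (rel_closedImm_comp_flat_iff (i ∣_ V') (V'.ι ≫ g) m Fo).2 (pc_of_iso (pdIso _ Fo) h1)
    have e0 : (i ∣_ V') ≫ V'.ι ≫ g = (O.ι ≫ U'.ι) ≫ f := by
      rw [← Category.assoc, morphismRestrict_ι, Category.assoc, hw, Category.assoc]
    rw [e0] at h2
    obtain ⟨k, hk, hkj⟩ := exists_opens (O.ι ≫ U'.ι)
    have hO' : (O.ι ≫ U'.ι).opensRange = O' := by
      rw [Scheme.Hom.opensRange_comp, Scheme.Opens.opensRange_ι]
    have h3 := rel_restrict h2 k
    let eO : (RD k).obj (DCoh.toD _ Fo) ≅ DCoh.toD _ ((DCoh.restrictCx (O.ι ≫ U'.ι).opensRange).obj F) :=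
      (RD k).mapIso ((rdIso O.ι F').symm ≪≫ (RD O.ι).mapIso (rdIso U'.ι F).symm ≪≫
        ((rdComp O.ι U'.ι).app _).symm) ≪≫ ((rdComp k _).app _).symm ≪≫ (rdCongr hkj).app _ ≪≫
        rdIso (O.ι ≫ U'.ι).opensRange.ι F
    have key : ∀ (O'' : X.Opens), O'' = O' → DerSch.IsPseudoCoherentRel (O''.ι ≫ f) m
        (DCoh.toD _ ((DCoh.restrictCx O'').obj F)) → DerSch.IsPseudoCoherentRel (O'.ι ≫ f) m
        (DCoh.toD _ ((DCoh.restrictCx O').obj F)) := fun O'' e h => by subst e; exact h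
    refine key _ hO' ?_
    have h4 := rel_of_iso _ eO h3
    rwa [← Category.assoc, hkj] at h4
  · obtain ⟨z, hz, hzy⟩ := y.2
    refine (torAmpAt_iff _ a b _ y).2 ((relAmpAt_restrict_iff O' F a b y).2 ?_)
    have h1 : DerSch.HasTorAmplitudeAt (i ≫ g) a (max a b) F' z :=
      (torAmpAt_push i g F' z).1 ((torAmpAt_iff g a (max a b) G _).2 (hV'amp _ hz))
    rw [hw] at h1
    have h2 : DRing.HasTorAmplitudeIn _ a b
        (DRing.toD ((DerSch.stalkCxOver (U'.ι ≫ f) z).obj F')) :=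
      DRingKP.amp_shrink h1 fun j hj =>
        (IsZero.of_iso ((stA (U'.ι ≫ f) z).map_isZero (hvan j (Or.inr (by lia))))
          ((F'.sc j).mapHomologyIso (stA (U'.ι ≫ f) z))).of_iso
          ((DerivedCategory.homologyFunctorFactors _ j).app _)
    have h3 := (relAmpAt_restrict_iff U' F a b z).1 ((torAmpAt_iff _ a b F' z).1 h2)
    have e : O'.ι.base y = U'.ι.base z := hzy.symm
    rw [e]; exact h3

open RelPCS in
/-- **relative perfect amplitude near a point** -/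
theorem perfAmpRel_nhd_iff {X Y : Scheme.{u}} (f : X ⟶ Y) [LocallyOfFiniteType f]
    (F : CochainComplex X.Modules ℤ) (a b : ℤ) (x : X) :
    (∃ U : X.Opens, x ∈ U ∧ DerSch.HasPerfAmplitudeRel (U.ι ≫ f) a b ((DCoh.restrictCx U).obj F)) ↔
      ((∃ U : X.Opens, x ∈ U ∧
          DerSch.IsPseudoCoherentRel (U.ι ≫ f) (a - 1) (DCoh.toD (U : Scheme.{u}) ((DCoh.restrictCx U).obj F)) ∧
          ∀ i : ℤ, i < a ∨ b < i → IsZero (DCoh.HD (DCoh.toD (U : Scheme.{u}) ((DCoh.restrictCx U).obj F)) i)) ∧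
        DerSch.HasTorAmplitudeAt f a b F x) := by
  constructor
  · rintro ⟨U, hx, hpc, htor⟩
    refine ⟨⟨U, hx, hpc _, isZero_HD_of_relAmp (U.ι ≫ f) fun y => (torAmpAt_iff _ a b _ y).1 (htor y)⟩, ?_⟩
    let x₀ : (U : Scheme.{u}) := ⟨x, hx⟩
    have h1 := (torAmpAt_iff (U.ι ≫ f) a b _ x₀).1 (htor x₀)
    exact (torAmpAt_iff f a b F x).2 ((relAmpAt_restrict_iff U F a b x₀).1 h1)
  rintro ⟨⟨U, hxU, hpc, hvan⟩, htor⟩
  obtain ⟨V, hV, hxV⟩ := QC.exists_affine_mem (f.base x)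
  obtain ⟨_, ⟨U₀, hU₀, rfl⟩, hxU', hU'le⟩ := X.isBasis_affineOpens.exists_subset_of_mem_open
    (show x ∈ U ⊓ f ⁻¹ᵁ V from ⟨hxU, hxV⟩) (U ⊓ f ⁻¹ᵁ V).isOpen
  obtain ⟨U', hU₁⟩ : ∃ U' : X.Opens, U₀ = U' := ⟨U₀, rfl⟩
  subst U₀
  have hU' : IsAffineOpen (U' : X.Opens) := hU₀
  have hUV : U' ≤ f ⁻¹ᵁ V := fun z hz => (hU'le hz).2
  have hUU : U' ≤ U := fun z hz => (hU'le hz).1
  obtain ⟨n, φ, hφ⟩ := exists_chart (f := f) hU' hV hUV
  haveI := closedImm_sp hφ.1
  let g := sp (MvPolynomial.C : Γ(Y, V) →+* MvPolynomial (Fin n) Γ(Y, V)) ≫ hV.fromSpec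
  let i := hU'.isoSpec.hom ≫ sp φ
  have hw : i ≫ g = (Scheme.Opens.ι U') ≫ f := by
    show (hU'.isoSpec.hom ≫ sp φ) ≫ sp _ ≫ hV.fromSpec = _
    have e : sp φ ≫ sp MvPolynomial.C = Spec.map (f.appLE V U' hUV) := by
      rw [← sp_comp, hφ.2]
      rfl
    rw [Category.assoc, ← Category.assoc (sp φ), e, IsAffineOpen.SpecMap_appLE_fromSpec f hV hU' hUV,
      ← Category.assoc, IsAffineOpen.isoSpec_hom_fromSpec]
  haveI : IsClosedImmersion i := MorphismProperty.comp_mem _ _ _ inferInstance inferInstance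
  haveI : Smooth (sp (MvPolynomial.C : Γ(Y, V) →+* MvPolynomial (Fin n) Γ(Y, V))) :=
    (HasRingHomProperty.Spec_iff (P := @Smooth)).2 (RingHom.smooth_algebraMap.2
      (⟨inferInstance, inferInstance⟩ : Algebra.Smooth Γ(Y, V) (MvPolynomial (Fin n) Γ(Y, V))))
  haveI : Smooth g := inferInstance
  let l := X.homOfLE hUU
  have hl : l ≫ U.ι = Scheme.Opens.ι U' := X.homOfLE_ι hUU
  let eR := (RD l).mapIso (rdIso U.ι F).symm ≪≫ ((rdComp l U.ι).app _).symm ≪≫ (rdCongr hl).app _ ≪≫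
    rdIso (Scheme.Opens.ι U') F
  refine perfAmpRel_nhd_of_chart (U' := U') f F i g hw ?_ (fun j hj => ?_) ⟨x, hxU'⟩ ((torAmpAt_iff f a b F x).1 htor)
  · have h0 := rel_of_iso _ eR (rel_restrict hpc l)
    have e : l ≫ U.ι ≫ f = i ≫ g := by rw [hw, ← Category.assoc, hl]
    exact e ▸ h0
  · have h1 : IsZero (DCoh.HD ((RD l).obj (DCoh.toD _ ((DCoh.restrictCx U).obj F))) j) :=
      ((Scheme.Modules.restrictFunctor l).map_isZero (hvan j hj)).of_iso (PerfGen.hdRD l _ j)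
    exact (h1.of_iso ((DerivedCategory.homologyFunctor _ j).mapIso eR.symm)).of_iso (KFlat.hdIso _ j).symm

end Groth.Agent.KSixLib
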