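import Groth.Agent.KSixLib.RelPushProj
import Groth.Agent.KSixLib.ExchPush
import Groth.Agent.DQCoh.PCNoeth

/-!
# Relative pseudo-coherence of proper direct images over a locally Noetherian base
-/

set_option backward.isDefEq.respectTransparency false
set_option backward.isDefEq.respectTransparency.types false
set_option linter.style.haveILetI false
set_option autoImplicit false

universe u

open CategoryTheory Limits AlgebraicGeometry

attribute [local instance] HasDerivedCategory.standard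

namespace Groth.Agent.KSixLib

variable {X Y S : Scheme.{u}}

/-- `Rf_*` preserves relative pseudo-coherence for proper `f` over a locally Noetherian base -/
theorem rel_push_noeth [IsLocallyNoetherian S] (q : Y ⟶ S) [LocallyOfFiniteType q] (f : X ⟶ Y) [IsProper f]
    [DCoh.HasRpush f] {E : DCoh.D X} (a : ℤ) [E.IsGE a] (hE : DerSch.IsPseudoCoherentRelAll (f ≫ q) E) :
    DerSch.IsPseudoCoherentRelAll q ((DCoh.Rpush f).obj E) := by
  haveI : IsLocallyNoetherian Y := LocallyOfFiniteType.isLocallyNoetherian q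
  haveI : IsLocallyNoetherian X := LocallyOfFiniteType.isLocallyNoetherian f
  haveI : LocallyOfFiniteType (f ≫ q) := inferInstance
  have hc := Exch.isCohD_of_relAll (f ≫ q) hE
  refine fun m => RelPCS.rel_of_qpc fun U hU V hV hle n φ hφ => ⟨hφ.1, ?_⟩
  haveI := RelPCS.closedImm_sp hφ.1
  haveI : IsNoetherianRing Γ(S, V) := IsLocallyNoetherian.component_noetherian ⟨V, hV⟩
  haveI : IsNoetherianRing Γ(Y, U) := IsLocallyNoetherian.component_noetherian ⟨U, hU⟩
  let l := pullback.fst f hU.fromSpec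
  let f' := pullback.snd f hU.fromSpec
  haveI : IsProper f' := MorphismProperty.pullback_snd _ _ ‹_›
  haveI : CompactSpace (pullback f hU.fromSpec : Scheme.{u}) := QuasiCompact.compactSpace_of_compactSpace f'
  haveI : IsLocallyNoetherian (pullback f hU.fromSpec) := LocallyOfFiniteType.isLocallyNoetherian f'
  haveI : IsNoetherian (Spec Γ(Y, U)) := {}
  haveI := DerPush.hasRpush_sch f'
  have hcl : DCoh.IsCohD ((DQCoh.RD l).obj E) := fun k =>
    CohFinite.isCoh_of_iso ((DQCoh.homologyDerIso (Scheme.Modules.restrictFunctor l) k).app E).symm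
      ⟨QC.isQCoh_restrict _ (hc k).1, QC.isFT_restrict l (hc k).2⟩
  haveI hge : ((DQCoh.RD l).obj E).IsGE a := (DerivedCategory.isGE_iff _ _).2 fun k hk =>
    IsZero.of_iso (Functor.map_isZero (Scheme.Modules.restrictFunctor l) (DerivedCategory.isZero_of_isGE E a k hk))
      ((DQCoh.homologyDerIso (Scheme.Modules.restrictFunctor l) k).app E)
  have hs : ∀ k : ℤ, ClSub.IsProperOver f' (CohB1.support (DCoh.HD ((DQCoh.RD l).obj E) k)) := fun k =>
    haveI : IsProper (𝟙 _ ≫ f') := by rw [Category.id_comp]; infer_instance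
    ClSubLib.isProperOver_of_subset f' (𝟙 _) _ (QC.isClosed_support (hcl k).2) fun x _ => ⟨x, rfl⟩
  have hR : DCoh.IsCohD ((DCoh.Rpush f').obj ((DQCoh.RD l).obj E)) := CohProperPush.main f' _ a hcl hs
  obtain ⟨b, hb⟩ := RelPCS.exists_bound_of_rel (RelPCS.rel_restrict (hE 0) l)
  obtain ⟨N, hN⟩ := DQPush.exists_amplitude f'
  have hle' : ((DQCoh.RD l).obj E).IsLE b := (DerivedCategory.isLE_iff _ _).2 fun k hk => hb k (by lia)
  haveI : IsNoetherian (Spec (CommRingCat.of (MvPolynomial (Fin n) Γ(S, V)))) := {}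
  let bc := (DQPush.rpushBCIso f f' hU.fromSpec l pullback.condition.symm
    (Scheme.Hom.opensRange_pullbackFst hU.fromSpec f)).app E
  refine DQCoh.pc_of_iso ((RelPCS.PD (RelPCS.sp φ)).mapIso bc.symm) ?_
  have hP : ∀ k, DCoh.HD ((RelPCS.PD (RelPCS.sp φ)).obj ((DCoh.Rpush f').obj ((DQCoh.RD l).obj E))) k ≅
      (Scheme.Modules.pushforward (RelPCS.sp φ)).obj (DCoh.HD ((DCoh.Rpush f').obj ((DQCoh.RD l).obj E)) k) :=
    fun k => (DQCoh.homologyDerIso (Scheme.Modules.pushforward (RelPCS.sp φ)) k).app _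
  have hcA : ∀ k, Coh.IsCoh (DCoh.HD ((RelPCS.PD (RelPCS.sp φ)).obj ((DCoh.Rpush f').obj ((DQCoh.RD l).obj E))) k) :=
    fun k => CohFinite.isCoh_of_iso (hP k).symm
      (haveI := (hR k).1; QC.isCoh_pushforward_of_isFinite (RelPCS.sp φ) (hR k).2)
  refine (DQCoh.pc_iff_isCoh _ (fun k => (hcA k).1) m).2
    ⟨fun k _ => hcA k, b + N, (DerivedCategory.isLE_iff _ _).2 fun k hk => ?_⟩
  exact IsZero.of_iso (Functor.map_isZero _ (hN _ (fun i => (hcl i).1) b hle' k (by lia))) (hP k)

end Groth.Agent.KSixLib
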