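import Groth.Agent.KSixLib.ExchProj
import Groth.Agent.KSixLib.Rel
import Groth.Agent.RelPCS.Comp
import Groth.Agent.RelPCS.Transfer
import Groth.Agent.DQPush.OpenBC

/-!
# Relative pseudo-coherence of direct images along projective morphisms
-/

set_option backward.isDefEq.respectTransparency false
set_option backward.isDefEq.respectTransparency.types false
set_option linter.style.haveILetI false
set_option autoImplicit false

universe u

open CategoryTheory Limits AlgebraicGeometry

attribute [local instance] HasDerivedCategory.standard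

namespace Groth.Agent.KSixLib

open Groth.Agent.RelPCS (QPC PD sp)

variable {X Y S P₀ T : Scheme.{u}}

/-- `Rf_*` preserves relative pseudo-coherence for a closed immersion into a base change of a proper
flat finitely presented morphism to a terminal scheme -/
theorem rel_push_proj (π₀ : P₀ ⟶ T) [IsProper π₀] [Flat π₀] [LocallyOfFinitePresentation π₀]
    (hT : Limits.IsTerminal T) (i : X ⟶ pullback π₀ (hT.from Y)) [IsClosedImmersion i]
    [DCoh.HasRpush (i ≫ pullback.snd π₀ (hT.from Y))] (q : Y ⟶ S) [LocallyOfFiniteType q] {E : DCoh.D X}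
    (hE : DerSch.IsPseudoCoherentRelAll ((i ≫ pullback.snd π₀ (hT.from Y)) ≫ q) E) :
    DerSch.IsPseudoCoherentRelAll q ((DCoh.Rpush (i ≫ pullback.snd π₀ (hT.from Y))).obj E) := by
  intro m
  refine RelPCS.rel_of_qpc fun U hU V hV hle n φ hφ => ⟨hφ.1, ?_⟩
  haveI := RelPCS.closedImm_sp hφ.1
  haveI : IsProper (pullback.snd π₀ (hT.from Y)) := MorphismProperty.pullback_snd _ _ ‹_›
  let f := i ≫ pullback.snd π₀ (hT.from Y)
  let j := hU.fromSpec
  let l := pullback.fst f j
  let f' := pullback.snd f j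
  let A := Spec (CommRingCat.of (MvPolynomial (Fin n) Γ(S, V)))
  haveI : IsProper (pullback.snd π₀ (hT.from A)) := MorphismProperty.pullback_snd _ _ ‹_›
  haveI : Flat (pullback.snd π₀ (hT.from A)) := MorphismProperty.pullback_snd _ _ ‹_›
  haveI : LocallyOfFinitePresentation (pullback.snd π₀ (hT.from A)) := MorphismProperty.pullback_snd _ _ ‹_›
  haveI : IsProper f' := MorphismProperty.pullback_snd _ _ (inferInstanceAs (IsProper (i ≫ pullback.snd π₀ (hT.from Y))))
  let a : pullback f j ⟶ pullback π₀ (hT.from A) :=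
    pullback.lift (l ≫ i ≫ pullback.fst π₀ _) (f' ≫ sp φ) (hT.hom_ext _ _)
  have ha : a ≫ pullback.snd π₀ (hT.from A) = f' ≫ sp φ := pullback.lift_snd _ _ _
  haveI : IsProper (a ≫ pullback.snd π₀ (hT.from A)) := by rw [ha]; infer_instance
  haveI : IsProper a := IsProper.of_comp a (pullback.snd π₀ (hT.from A))
  haveI : Mono a := ⟨fun {Z} g h w => by
    have h1 : g ≫ f' = h ≫ f' := by
      have := w =≫ pullback.snd π₀ (hT.from A)
      simp only [Category.assoc, ha] at this
      rwa [← Category.assoc, ← Category.assoc, cancel_mono] at this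
    refine pullback.hom_ext ?_ h1
    rw [← cancel_mono i]
    refine pullback.hom_ext ?_ ?_
    · have := w =≫ pullback.fst π₀ (hT.from A)
      simpa only [a, Category.assoc, pullback.lift_fst] using this
    · have := h1 =≫ j
      simp only [Category.assoc, f', ← pullback.condition] at this
      simpa only [f, l, Category.assoc] using this⟩
  haveI : IsClosedImmersion a := (IsClosedImmersion.iff_isProper_and_mono a).2 ⟨‹_›, ‹_›⟩
  let g : A ⟶ S := Spec.map (CommRingCat.ofHom (MvPolynomial.C (σ := Fin n) (R := Γ(S, V)))) ≫ hV.fromSpec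
  haveI : Flat g := by
    haveI : Flat (Spec.map (CommRingCat.ofHom (MvPolynomial.C (σ := Fin n) (R := Γ(S, V))))) :=
      HasRingHomProperty.Spec_iff.2 (RingHom.flat_algebraMap_iff.2
        (inferInstance : Module.Flat Γ(S, V) (MvPolynomial (Fin n) Γ(S, V))))
    exact inferInstanceAs (Flat (_ ≫ _))
  haveI : LocallyOfFinitePresentation g := by
    haveI : LocallyOfFinitePresentation (Spec.map (CommRingCat.ofHom (MvPolynomial.C (σ := Fin n) (R := Γ(S, V))))) :=
      HasRingHomProperty.Spec_iff.2 (RingHom.finitePresentation_algebraMap.2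
        (inferInstance : Algebra.FinitePresentation Γ(S, V) (MvPolynomial (Fin n) Γ(S, V))))
    exact inferInstanceAs (LocallyOfFinitePresentation (_ ≫ _))
  have hw : sp φ ≫ g = j ≫ q := by
    rw [← IsAffineOpen.SpecMap_appLE_fromSpec q hV hU hle]
    refine (Category.assoc _ _ _).symm.trans (congrArg (· ≫ hV.fromSpec) ?_)
    exact (Spec.map_comp _ _).symm.trans (congrArg Spec.map (CommRingCat.hom_ext hφ.2))
  have hl : l ≫ (f ≫ q) = a ≫ (pullback.snd π₀ (hT.from A) ≫ g) := by
    calc l ≫ (f ≫ q) = (f' ≫ j) ≫ q := by rw [← pullback.condition]; exact (Category.assoc _ _ _).symm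
      _ = f' ≫ (sp φ ≫ g) := by rw [hw, Category.assoc]
      _ = (a ≫ pullback.snd π₀ (hT.from A)) ≫ g := by rw [ha]; exact (Category.assoc _ _ _).symm
      _ = _ := Category.assoc _ _ _
  obtain ⟨F, ⟨e⟩⟩ := Exch.exists_rep ((DQCoh.RD l).obj E)
  have hpc : ∀ k, DCoh.IsPseudoCoherentD k ((PD a).obj (DCoh.toD _ F)) := fun k => by
    have h1 := RelPCS.rel_restrict (hE k) l
    rw [hl] at h1
    exact DQCoh.pc_of_iso (RelPCS.pdIso a F).symm
      ((RelPCS.rel_closedImm_comp_flat_iff a _ k F).1 (rel_of_iso _ e.symm h1))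
  haveI := DerPush.hasRpush_sch f'
  haveI := DerPush.hasRpush_sch (sp φ)
  haveI := DerPush.hasRpush_sch a
  haveI := DerPush.hasRpush_sch (pullback.snd π₀ (hT.from A))
  haveI := DerPush.hasRpush_sch (a ≫ pullback.snd π₀ (hT.from A))
  have h2 := S1106.result (pullback.snd π₀ (hT.from A)) _ hpc m
  have hr : l.opensRange = f ⁻¹ᵁ j.opensRange := Scheme.Hom.opensRange_pullbackFst j f
  let bc := (DQPush.rpushBCIso f f' j l pullback.condition.symm hr).app E
  obtain ⟨e₁⟩ := S0922.result a (pullback.snd π₀ (hT.from A))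
  haveI := DerPush.hasRpush_sch (f' ≫ sp φ)
  obtain ⟨e₂⟩ := S0922.result f' (sp φ)
  obtain ⟨G, ⟨eG⟩⟩ := Exch.exists_rep ((DCoh.Rpush f').obj ((DQCoh.RD l).obj E))
  refine DQCoh.pc_of_iso ?_ h2
  exact (DCoh.Rpush _).mapIso (RelPCS.pdIso a F ≪≫ (DerPush.rpushIsoOfExact a F).symm) ≪≫ e₁.app _ ≪≫
    eqToIso (by simp only [ha]) ≪≫ (DCoh.Rpush (f' ≫ sp φ)).mapIso e ≪≫ (e₂.app _).symm ≪≫
    (DCoh.Rpush (sp φ)).mapIso eG.symm ≪≫ DerPush.rpushIsoOfExact (sp φ) G ≪≫ (RelPCS.pdIso (sp φ) G).symm ≪≫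
    (PD (sp φ)).mapIso (eG ≪≫ bc.symm)

end Groth.Agent.KSixLib
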