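import Groth.Agent.KSixLib.FlatTwist
import Groth.Agent.DRingKP.LTensorCx

/-!
# Tor amplitude of tensor products over an intermediate ring
-/

set_option autoImplicit false
set_option linter.style.haveILetI false
set_option backward.isDefEq.respectTransparency false
set_option backward.isDefEq.respectTransparency.types false
universe u

namespace Groth.Agent.KSixLib

open CategoryTheory Limits DerivedCategory MonoidalCategory HomologicalComplex
open Groth.Agent.DRingKP

attribute [local instance] HasDerivedCategory.standard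

variable {A B C : Type u} [CommRing A] [CommRing B] [CommRing C]

/-- exactness outside a window after tensoring with a bounded flat complex -/
lemma exactAt_tensor {E : DRing.Cx A} {a b : ℤ} (hE : DRing.VanishesOutside E a b) (hEf : DRing.TermwiseFlat E)
    {Z : DRing.Cx A} {c d : ℤ} (hZ : ∀ i, i < c ∨ d < i → Z.ExactAt i) (i : ℤ) (hi : i < a + c ∨ b + d < i) :
    (E ⊗ Z).ExactAt i := by
  haveI : Z.IsLE d := (CochainComplex.isLE_iff Z d).2 fun j hj => hZ j (Or.inr hj)
  haveI : Z.IsGE c := (CochainComplex.isGE_iff Z c).2 fun j hj => hZ j (Or.inl hj)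
  have hEk : IsKFlat E := isKFlat_of_bounded (fun j hj => hE j (Or.inr hj)) hEf
  let Z₁ := Z.truncLE d
  haveI : Z₁.IsStrictlyLE d := inferInstance
  haveI hq₁ : QuasiIso (Z.ιTruncLE d) := (CochainComplex.quasiIso_ιTruncLE_iff Z d).2 inferInstance
  haveI : Z₁.IsGE c := (CochainComplex.isGE_iff Z₁ c).2 fun j hj => by
    rw [exactAt_iff_isZero_homology]
    exact ((exactAt_iff_isZero_homology _ _).1 (hZ j (Or.inl hj))).of_iso (isoOfQuasiIsoAt (Z.ιTruncLE d) j)
  haveI hq₂ : QuasiIso (Z₁.πTruncGE c) := (CochainComplex.quasiIso_πTruncGE_iff Z₁ c).2 inferInstance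
  haveI h₁ : QuasiIso (Z.ιTruncLE d ▷ E) := quasiIso_whiskerRight hEk _
  haveI h₂ : QuasiIso (Z₁.πTruncGE c ▷ E) := quasiIso_whiskerRight hEk _
  have h0 : (E ⊗ Z₁.truncGE c).ExactAt i := by
    refine (exactAt_iff_isZero_homology _ i).2 (ShortComplex.isZero_homology_of_isZero_X₂ _ ?_)
    refine tensor_vanishes i fun p q hpq => ?_
    by_cases hp : p < a ∨ b < p
    · exact Or.inl (hE p hp)
    · refine Or.inr ?_
      rcases hi with hi | hi
      · exact (Z₁.truncGE c).isZero_of_isStrictlyGE c q (by lia)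
      · exact (Z₁.truncGE c).isZero_of_isStrictlyLE d q (by lia)
  let H := HomologicalComplex.homologyFunctor (ModuleCat.{u} A) (ComplexShape.up ℤ) i
  rw [exactAt_iff_isZero_homology] at h0 ⊢
  exact h0.of_iso (H.mapIso (KFlat.swapIso (tBraid A) E Z) ≪≫
    (@isoOfQuasiIsoAt _ _ _ _ _ _ _ (Z.ιTruncLE d ▷ E) i _ _ ((quasiIso_iff _).1 h₁ i)).symm ≪≫
    @isoOfQuasiIsoAt _ _ _ _ _ _ _ (Z₁.πTruncGE c ▷ E) i _ _ ((quasiIso_iff _).1 h₂ i) ≪≫
    H.mapIso (KFlat.swapIso (tBraid A) (Z₁.truncGE c) E))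

variable (θ : C →+* A)

/-- **tensoring with a bounded flat complex** -/
theorem amp_tensor {E : DRing.Cx A} {a b : ℤ} (hE : DRing.VanishesOutside E a b) (hEf : DRing.TermwiseFlat E)
    (P : DRing.Cx A) {c d : ℤ} (h : DRing.HasTorAmplitudeIn C c d (DRing.toD ((resCx θ).obj P))) :
    DRing.HasTorAmplitudeIn C (a + c) (b + d) (DRing.toD ((resCx θ).obj (E ⊗ P))) := by
  have twist : ∀ (Z : DRing.Cx A), (∀ i, i < c ∨ d < i → ((resCx θ).obj Z).ExactAt i) →
      ∀ i, i < a + c ∨ b + d < i → ((resCx θ).obj (E ⊗ Z)).ExactAt i := fun Z hZ i hi => by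
    rw [exactAt_iff]
    refine (exactAt_tensor hE hEf (fun j hj => ?_) i hi).map (ModuleCat.restrictScalars.{u} θ)
    have := hZ j hj
    rw [exactAt_iff] at this ⊢
    exact (ShortComplex.exact_map_iff_of_faithful (Z.sc j) (ModuleCat.restrictScalars.{u} θ)).1 this
  have hab : ∀ i, i < c ∨ d < i → ((resCx θ).obj P).ExactAt i := fun i hi => by
    obtain ⟨F, hF, -, ⟨e⟩⟩ := h
    exact (exactAt_iff_isZero_homology _ _).2 (((ShortComplex.isZero_homology_of_isZero_X₂ _ (hF i hi)).of_iso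
      ((DerivedCategory.homologyFunctorFactors _ i).app F)).of_iso
        (((DerivedCategory.homologyFunctorFactors _ i).app _).symm ≪≫
          (DerivedCategory.homologyFunctor (ModuleCat.{u} C) i).mapIso e.symm))
  obtain ⟨G₀, c₀, hG₀b, hG₀, ⟨e₀⟩⟩ := exists_proj_rep_le (DRing.toD ((resCx θ).obj P))
    ⟨d + 1, fun i hi => ((exactAt_iff_isZero_homology _ _).1 (hab i (Or.inr (by lia)))).of_iso
      ((DerivedCategory.homologyFunctorFactors _ i).app _)⟩
  obtain ⟨G, c', hGb, hG, ⟨e⟩⟩ := exists_proj_rep_le (DRing.toD ((resCx θ).obj (E ⊗ P)))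
    ⟨b + d + 1, fun i hi => ((exactAt_iff_isZero_homology _ _).1 (twist P hab i (Or.inr (by lia)))).of_iso
        ((DerivedCategory.homologyFunctorFactors _ i).app _)⟩
  haveI := isKProjective_of_vanishesAbove hGb hG
  haveI := isKProjective_of_vanishesAbove hG₀b hG₀
  have hv : Van c d G₀ := torVan_rep (torVan_of_amp h) hG₀b (flat_of_projective hG₀) e₀
  refine amp_iff_torVan.2 ⟨G, c', hGb, flat_of_projective hG, ⟨e⟩, fun Q i hi => ?_⟩
  let R := projectiveResolution Q
  let PR := R.cochainComplex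
  let Q0 := (HomologicalComplex.single _ (ComplexShape.up ℤ) 0).obj Q
  have key : ∀ {P : DRing.Cx C} {k : ℤ} {Z : DRing.Cx C} (_ : DRing.VanishesAbove P k)
      (_ : DRing.TermwiseFlat P) (g : P ⟶ Z), QuasiIso g → ∀ j,
      (IsZero (((tR Q).obj P).homology j) ↔ (((KFlat.tens (tB C)).obj Z).obj PR).ExactAt j) := by
    intro P k Z hPb hP g hg j
    haveI h1 : QuasiIso (((KFlat.tens (tB C)).map g).app PR) := (isKFlat_res R).quasiIso_map_app g
    haveI h2 : QuasiIso (((KFlat.tens (tB C)).map (resToSingle R)).app P) :=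
      ((rflat_iff P).2 (isKFlat_of_bounded hPb hP)).quasiIso_map_app (resToSingle R)
    let H := HomologicalComplex.homologyFunctor (ModuleCat.{u} C) (ComplexShape.up ℤ) j
    rw [exactAt_iff_isZero_homology]
    refine ((H.mapIso (KFlat.swapIso (tBraid C) Q0 P ≪≫ tensSingleIso P Q)).symm ≪≫
      (@isoOfQuasiIsoAt _ _ _ _ _ _ _ (((KFlat.tens (tB C)).map (resToSingle R)).app P) j _ _
        ((quasiIso_iff _).1 h2 j)).symm ≪≫
      H.mapIso (KFlat.swapIso (tBraid C) PR P) ≪≫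
      @isoOfQuasiIsoAt _ _ _ _ _ _ _ (((KFlat.tens (tB C)).map g).app PR) j _ _
        ((quasiIso_iff _).1 h1 j)).isZero_iff
  obtain ⟨g₀, hg₀⟩ := PerfLocal.exists_lift e₀.hom
  haveI : IsIso (DerivedCategory.Q.map g₀) := by rw [hg₀]; infer_instance
  obtain ⟨g, hg⟩ := PerfLocal.exists_lift e.hom
  haveI : IsIso (DerivedCategory.Q.map g) := by rw [hg]; infer_instance
  have h0 : ∀ j, j < c ∨ d < j → (((KFlat.tens (tB C)).obj ((resCx θ).obj P)).obj PR).ExactAt j := fun j hj =>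
    (key hG₀b (flat_of_projective hG₀) g₀
      ((DerivedCategory.isIso_Q_map_iff_quasiIso _ g₀).1 inferInstance) j).1 (hv Q j hj)
  refine (key hGb (flat_of_projective hG) g
    ((DerivedCategory.isIso_Q_map_iff_quasiIso _ g).1 inferInstance) i).2 ?_
  exact ((twist _ (fun j hj => (h0 j hj).of_iso (resTotIso θ P PR)) i hi).of_iso
    ((resCx θ).mapIso (α_ E P ((bc θ).obj PR)).symm)).of_iso (resTotIso θ _ PR).symm

/-- the tensor product seen over the intermediate ring -/
theorem exists_flat_tensor_model (ψ : A →+* B) {P : DRing.Cx A} (hP : IsKFlat P)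
    (L : DRing.Cx B) {a b : ℤ} (hL : DRing.HasTorAmplitudeIn A a b (DRing.toD ((resCx ψ).obj L))) :
    ∃ E : DRing.Cx A, DRing.VanishesOutside E a b ∧ DRing.TermwiseFlat E ∧
      Nonempty (DRing.toD (E ⊗ P) ≅ DRing.toD ((resCx ψ).obj ((bc ψ).obj P ⊗ L))) := by
  obtain ⟨E, hE, hEf, ⟨e⟩⟩ := id hL
  obtain ⟨G, k, hGb, hG, ⟨eG⟩⟩ := exists_proj_rep_le (DRing.toD ((resCx ψ).obj L)) ⟨_, torVan_isAbove hL⟩
  haveI := isKProjective_of_vanishesAbove hGb hG
  let g₁ := (PerfLocal.exists_lift eG.hom).choose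
  let g₂ := (PerfLocal.exists_lift (eG ≪≫ e.symm).hom).choose
  haveI : QuasiIso g₁ := (DerivedCategory.isIso_Q_map_iff_quasiIso _ g₁).1 (by
    rw [show DerivedCategory.Q.map g₁ = eG.hom from (PerfLocal.exists_lift eG.hom).choose_spec]; infer_instance)
  haveI : QuasiIso g₂ := (DerivedCategory.isIso_Q_map_iff_quasiIso _ g₂).1 (by
    rw [show DerivedCategory.Q.map g₂ = (eG ≪≫ e.symm).hom from (PerfLocal.exists_lift (eG ≪≫ e.symm).hom).choose_spec]
    infer_instance)
  haveI : QuasiIso (g₁ ▷ P) := quasiIso_whiskerRight hP g₁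
  haveI : QuasiIso (g₂ ▷ P) := quasiIso_whiskerRight hP g₂
  exact ⟨E, hE, hEf, ⟨(asIso (DerivedCategory.Q.map (g₂ ▷ P))).symm ≪≫ asIso (DerivedCategory.Q.map (g₁ ▷ P)) ≪≫
    DerivedCategory.Q.mapIso (resTotIso ψ L P ≪≫
      (resCx ψ).mapIso (KFlat.swapIso (tBraid B) L ((bc ψ).obj P)))⟩⟩

/-- vanishing of cohomology of a derived tensor product -/
theorem exactAt_bc_tensor (ψ : A →+* B) {P : DRing.Cx A} (hP : IsKFlat P) (L : DRing.Cx B) {a b c d : ℤ}
    (hL : DRing.HasTorAmplitudeIn A a b (DRing.toD ((resCx ψ).obj L)))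
    (hPz : ∀ i, i < c ∨ d < i → P.ExactAt i) (i : ℤ) (hi : i < a + c ∨ b + d < i) :
    ((bc ψ).obj P ⊗ L).ExactAt i := by
  obtain ⟨E, hE, hEf, ⟨e⟩⟩ := exists_flat_tensor_model ψ hP L hL
  have h : ((resCx ψ).obj ((bc ψ).obj P ⊗ L)).ExactAt i := (exactAt_iff_isZero_homology _ _).2
    ((((exactAt_iff_isZero_homology _ _).1 (exactAt_tensor hE hEf hPz i hi)).of_iso
      ((DerivedCategory.homologyFunctorFactors _ i).app _)).of_iso
        (((DerivedCategory.homologyFunctorFactors _ i).app _).symm ≪≫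
          (DerivedCategory.homologyFunctor (ModuleCat.{u} A) i).mapIso e.symm))
  rw [exactAt_iff] at h ⊢
  exact (ShortComplex.exact_map_iff_of_faithful (((bc ψ).obj P ⊗ L).sc i) (ModuleCat.restrictScalars.{u} ψ)).1 h

/-- **composing amplitudes through a derived tensor product** -/
theorem amp_bc_tensor (ψ : A →+* B) (χ : C →+* B) (hχ : χ = ψ.comp θ) {P : DRing.Cx A} (hP : IsKFlat P)
    (L : DRing.Cx B) {a b c d : ℤ} (hL : DRing.HasTorAmplitudeIn A a b (DRing.toD ((resCx ψ).obj L)))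
    (hPa : DRing.HasTorAmplitudeIn C c d (DRing.toD ((resCx θ).obj P))) :
    DRing.HasTorAmplitudeIn C (a + c) (b + d) (DRing.toD ((resCx χ).obj ((bc ψ).obj P ⊗ L))) := by
  subst hχ
  obtain ⟨E, hE, hEf, ⟨eD⟩⟩ := exists_flat_tensor_model ψ hP L hL
  let i := ModuleCat.restrictScalarsComp'.{u} θ ψ (ψ.comp θ) rfl
  let R := ModuleCat.restrictScalars.{u} θ
  exact amp_of_iso ((R.mapDerivedCategoryFactors.app _).symm ≪≫ R.mapDerivedCategory.mapIso eD ≪≫
    R.mapDerivedCategoryFactors.app _ ≪≫ DerivedCategory.Q.mapIso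
      (HomologicalComplex.Hom.isoOfComponents (fun n => (i.app (((bc ψ).obj P ⊗ L).X n)).symm)
        (fun p q _ => (i.inv.naturality (((bc ψ).obj P ⊗ L).d p q)).symm))) (amp_tensor θ hE hEf P hPa)

end Groth.Agent.KSixLib
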