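import Groth.Agent.KSixLib.ThickSheaf
import Groth.Agent.KSixLib.JacScheme
import Groth.Agent.KFlat.BoundedRes
import Groth.Agent.RelPCS.PushPC
import Groth.Agent.RelPCS.Calc
import Groth.Prelude.Def_MoreMor

/-!
# Pseudo-coherence along nilpotent immersions
-/

set_option backward.isDefEq.respectTransparency false
set_option backward.isDefEq.respectTransparency.types false
set_option linter.style.haveILetI false
set_option autoImplicit false
set_option maxHeartbeats 1000000

universe u

open CategoryTheory Limits AlgebraicGeometry HomologicalComplex Opposite TopologicalSpace Pretriangulated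

attribute [local instance] HasDerivedCategory.standard

namespace Groth.Agent.KSixLib

open Groth.Agent.DQCoh
open Groth.Agent.ProjForm (qC)

variable {U₀ U : Scheme.{u}} {k : U₀ ⟶ U} [IsClosedImmersion k]

/-- cohomology is bounded above by that of the derived pullback -/
theorem isAboveD_of_lpull (hk : NilImm k) [DCoh.HasLpull k] {K : DCoh.D U} {c : ℤ}
    (h : IsAboveD (c + 1) ((DCoh.Lpull k).obj K)) : IsAboveD (c + 1) K := by
  obtain ⟨G, hG, hGf, ⟨eG⟩⟩ := KFlat.exists_isKFlat_rep K
  intro i hi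
  refine IsZero.of_iso ?_ ((DerivedCategory.homologyFunctor _ i).mapIso eG.symm ≪≫ KFlat.hdIso G i)
  refine KFlat.isZero_of_stalks _ fun x => ?_
  obtain ⟨z, rfl⟩ := hk.surj x
  letI : Algebra (U.presheaf.stalk (k.base z)) (U₀.presheaf.stalk z) := (k.stalkMap z).hom.toAlgebra
  haveI := DRingKP.hasLBaseChange (k.stalkMap z).hom
  let T := (KFlat.stCx (k.base z)).obj G
  have hT : DRing.IsKFlat _ T := (KFlat.isKFlat_iff_stalks G).1 hG _
  have hTt : DRing.TermwiseFlat T := fun n => hGf n _
  let e₁ : (KFlat.stCx z).obj ((qC k).obj G) ≅ (DRingKP.bc (k.stalkMap z).hom).obj T :=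
    HomologicalComplex.Hom.isoOfComponents (fun n => ((KFlat.pullStalkIso k z).app (G.X n)))
      (fun p q _ => ((KFlat.pullStalkIso k z).hom.naturality (G.d p q)).symm)
  have hb : DRingKP.IsAbove (c + 1) (DRing.toD ((DRingKP.bc (k.stalkMap z).hom).obj T)) := fun j hj => by
    have h0 : IsZero (((qC k).obj G).homology j) :=
      (h j hj).of_iso ((KFlat.hdIso _ j).symm ≪≫ (DerivedCategory.homologyFunctor _ j).mapIso
        ((ProjForm.lpullIso k hG).symm ≪≫ (DCoh.Lpull k).mapIso eG))
    exact (IsZero.of_iso ((DerSch.stalkFunctor U₀ z).map_isZero h0)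
      ((HomologicalComplex.homologyFunctor _ _ j).mapIso e₁.symm ≪≫
        (((qC k).obj G).sc j).mapHomologyIso (DerSch.stalkFunctor U₀ z))).of_iso
      ((DerivedCategory.homologyFunctorFactors _ j).app _)
  obtain ⟨Q, hQb, hQ, ⟨eQ⟩⟩ := DRingKP.exists_proj_rep_top _ c hb
  haveI := DRingKP.isKProjective_of_vanishesAbove hQb hQ
  have hz : IsZero (T.homology i) := (DRingKP.isZero_tR_unit T i).1
    (DRingKP.isZero_tR_of_quotients (A := U.presheaf.stalk (k.base z)) (B := U₀.presheaf.stalk z)
      (k.stalkMap_surjective z) (hk.nil z) hTt i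
      (fun N => DRingKP.isZero_tR_res hT (DRingKP.isKFlat_of_bounded hQb (DRingKP.flat_of_projective hQ)) eQ N i
        (ShortComplex.isZero_homology_of_isZero_X₂ _
          ((MonoidalCategory.tensorRight N).map_isZero (hQb i (by lia))))) _)
  exact hz.of_iso ((G.sc i).mapHomologyIso (DerSch.stalkFunctor U (k.base z))).symm

lemma exists_cokernel_map₂ {A B C : Type*} [Category A] [Category B] [Category C] [Abelian A] [Abelian B]
    [Abelian C] (R : A ⥤ B) (R' : B ⥤ C) [R.Additive] [R'.Additive] [PreservesFiniteColimits R]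
    [PreservesFiniteColimits R'] {P Q : A} (d : P ⟶ Q) :
    ∃ ν : cokernel (R'.map (R.map d)) ≅ R'.obj (R.obj (cokernel d)),
      cokernel.π _ ≫ ν.hom = R'.map (R.map (cokernel.π d)) :=
  ⟨(PreservesCokernel.iso R' _).symm ≪≫ R'.mapIso (PreservesCokernel.iso R d).symm, by
    simp [← Functor.map_comp]⟩

/-- pullback and restriction -/
noncomputable def qcRestrIso (k : U₀ ⟶ U) (O : U.Opens) (G : CochainComplex U.Modules ℤ) :
    (rC (k ⁻¹ᵁ O).ι).obj ((qC k).obj G) ≅ (qC (k ∣_ O)).obj ((rC O.ι).obj G) :=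
  DerPerf.pullRestrictCxIso k O G

/-- the inductive step: killing the top cohomology -/
theorem pc_of_lpull_bounded : ∀ (d : ℕ) {U₀ U : Scheme.{u}} (k : U₀ ⟶ U) [IsClosedImmersion k] [DCoh.HasLpull k],
    NilImm k → ∀ (m : ℤ) (K : DCoh.D U), IsAboveD (m + d) K →
      DCoh.IsPseudoCoherentD m ((DCoh.Lpull k).obj K) → DCoh.IsPseudoCoherentD m K := by
  intro d
  induction d with
  | zero => intro U₀ U k _ _ _ m K hK _; exact pc_of_isAbove (by simpa using hK)
  | succ d ih =>
    intro U₀ U k _ _ hk m K hK hpc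
    let c : ℤ := m + d
    -- a flat representative ending in degree `c`
    let F := (DerivedCategory.Q : _ ⥤ DCoh.D U).objPreimage K
    let eF : DCoh.toD U F ≅ K := DerivedCategory.Q.objObjPreimageIso K
    haveI : F.IsLE c := (CochainComplex.isLE_iff F c).2 fun i hi =>
      (exactAt_iff_isZero_homology _ _).2
        (((isAboveD_of_iso eF.symm hK) i (by lia)).of_iso (KFlat.hdIso F i).symm)
    haveI : QuasiIso (F.ιTruncLE c) := (CochainComplex.quasiIso_ιTruncLE_iff F c).2 inferInstance
    obtain ⟨G, ρ, hG, -, hρ, hGc⟩ := KFlat.exists_resolution_le_sch (F.truncLE c) c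
    haveI := hρ
    let eG : DCoh.toD U G ≅ K := asIso (DerivedCategory.Q.map (ρ ≫ F.ιTruncLE c)) ≪≫ eF
    have hGz : ∀ i, c < i → IsZero (G.X i) := fun i hi => G.isZero_of_isStrictlyLE c i hi
    let M := cokernel (G.d (c - 1) c)
    let P₀ := (qC k).obj G
    have hP₀ : DCoh.IsPseudoCoherentD m (DCoh.toD U₀ P₀) :=
      pc_of_iso ((DCoh.Lpull k).mapIso eG.symm ≪≫ ProjForm.lpullIso k hG) hpc
    have hP₀z : IsAboveD (c + 1) (DCoh.toD U₀ P₀) := fun i hi =>
      (ShortComplex.isZero_homology_of_isZero_X₂ _ ((Scheme.Modules.pullback k).map_isZero (hGz i (by lia)))).of_iso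
        (KFlat.hdIso P₀ i)
    let eN : DCoh.HD (DCoh.toD U₀ P₀) c ≅ (Scheme.Modules.pullback k).obj M :=
      KFlat.hdIso P₀ c ≪≫ P₀.isoHomologyι c (c + 1) (by simp)
          (((Scheme.Modules.pullback k).map_isZero (hGz (c + 1) (by lia))).eq_of_tgt _ _) ≪≫
        ((cokernelIsCokernel (P₀.d (c - 1) c)).coconePointUniqueUpToIso
          (P₀.opcyclesIsCokernel (c - 1) c (by simp))).symm ≪≫
        (PreservesCokernel.iso (Scheme.Modules.pullback k) (G.d (c - 1) c)).symm
    have hFT : CohB1.IsFT ((Scheme.Modules.pullback k).obj M) :=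
      QC.isFT_of_epi eN.hom (RelPCS.isFT_of_pc (RelPCS.pc_top hP₀z (pc_mono (by lia) hP₀)))
    refine RelPCS.pc_of_locally fun x => ?_
    -- generators near `x`
    obtain ⟨O, r, q, hxO, hq⟩ := exists_free_epi hk hFT x
    haveI := hq
    haveI : IsClosedImmersion (k ∣_ O) := MorphismProperty.of_isPullback (P := @IsClosedImmersion)
      (isPullback_morphismRestrict k O).flip inferInstance
    let GO := (rC O.ι).obj G
    let πO : GO.X c ⟶ (Scheme.Modules.restrictFunctor O.ι).obj M :=
      (Scheme.Modules.restrictFunctor O.ι).map (cokernel.π (G.d (c - 1) c))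
    obtain ⟨V, hxV, φ, hφ⟩ := exists_free_lift (nilImm_restrict hk O) πO
      (q ≫ ((DerPerf.pullRestrictIso k O).app M).hom) ⟨x, hxO⟩
    let k₁ := k ∣_ O
    let k₂ := k₁ ∣_ V
    haveI : IsClosedImmersion k₂ := MorphismProperty.of_isPullback (P := @IsClosedImmersion)
      (isPullback_morphismRestrict k₁ V).flip inferInstance
    haveI := KFlat.hasLpull k₂
    let GV := (rC V.ι).obj GO
    let L := (Scheme.Modules.restrictFunctor V.ι).obj (FlatMod.freeMod (O : Scheme.{u}) r)
    have hGVz : ∀ i, c < i → IsZero (GV.X i) := fun i hi =>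
      (Scheme.Modules.restrictFunctor V.ι).map_isZero ((Scheme.Modules.restrictFunctor O.ι).map_isZero (hGz i hi))
    let S := (HomologicalComplex.single (V : Scheme.{u}).Modules (ComplexShape.up ℤ) c).obj L
    let f : S ⟶ GV := HomologicalComplex.mkHomFromSingle φ
      fun j hj => (hGVz j (by have : c + 1 = j := hj; lia)).eq_of_tgt _ _
    have hGV : DCoh.IsKFlat GV := DerPerf.isKFlat_restrictCx V (DerPerf.isKFlat_restrictCx O hG)
    have hS : DCoh.IsStrictlyPerfect S := by
      refine ⟨⟨c, c, fun i hi => isZero_single_obj_X _ _ _ _ (by lia)⟩, fun i => ?_⟩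
      by_cases hi : i = c
      · rw [hi]
        exact isFinLocFree_of_iso' (singleObjXSelf (ComplexShape.up ℤ) c L).symm
          (isFinLocFree_restrict _ (RelPCS.isFinLocFree_freeMod r))
      · exact isFinLocFree_of_isZero (isZero_single_obj_X _ _ _ _ hi)
    let C := CochainComplex.mappingCone f
    have hC : DCoh.IsKFlat C := KFlat.rflat_mappingCone_sch f (DerPerf.isKFlat_of_isStrictlyPerfect hS) hGV
    -- the map on the top cohomology is onto
    have hd : ∀ {A : CochainComplex (V : Scheme.{u}).Modules ℤ}, IsZero (A.X (c + 1)) → A.d c (c + 1) = 0 :=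
      fun hA => hA.eq_of_tgt _ _
    have hepi : Epi (HomologicalComplex.homologyMap f c) := by
      let eS := S.isoHomologyι c (c + 1) (by simp) (hd (isZero_single_obj_X _ _ _ _ (by lia)))
      let eV := GV.isoHomologyι c (c + 1) (by simp) (hd (hGVz _ (by lia)))
      have h1 : Epi (HomologicalComplex.opcyclesMap f c) := by
        haveI : Epi (φ ≫ (Scheme.Modules.restrictFunctor V.ι).map πO) := hφ
        let ω := (cokernelIsCokernel (GV.d (c - 1) c)).coconePointUniqueUpToIso
          (GV.opcyclesIsCokernel (c - 1) c (by simp))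
        obtain ⟨ν, hν⟩ : ∃ ν : cokernel (GV.d (c - 1) c) ≅
            (Scheme.Modules.restrictFunctor V.ι).obj ((Scheme.Modules.restrictFunctor O.ι).obj M),
            cokernel.π (GV.d (c - 1) c) ≫ ν.hom = (Scheme.Modules.restrictFunctor V.ι).map πO :=
          exists_cokernel_map₂ (Scheme.Modules.restrictFunctor O.ι) (Scheme.Modules.restrictFunctor V.ι)
            (G.d (c - 1) c)
        have hω : cokernel.π (GV.d (c - 1) c) ≫ ω.hom = GV.pOpcycles c :=
          IsColimit.comp_coconePointUniqueUpToIso_hom (cokernelIsCokernel (GV.d (c - 1) c))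
            (GV.opcyclesIsCokernel (c - 1) c (by simp)) WalkingParallelPair.one
        haveI : Epi (f.f c ≫ GV.pOpcycles c) := by
          have e : f.f c ≫ GV.pOpcycles c = (singleObjXSelf (ComplexShape.up ℤ) c L).hom ≫
              (φ ≫ (Scheme.Modules.restrictFunctor V.ι).map πO) ≫ ν.inv ≫ ω.hom := by
            rw [← hν, mkHomFromSingle_f]
            simp only [Category.assoc, Iso.hom_inv_id_assoc, hω]
          rw [e]; infer_instance
        haveI : Epi (S.pOpcycles c ≫ HomologicalComplex.opcyclesMap f c) := by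
          rw [HomologicalComplex.p_opcyclesMap]; infer_instance
        exact epi_of_epi (S.pOpcycles c) (HomologicalComplex.opcyclesMap f c)
      have e : HomologicalComplex.homologyMap f c = eS.hom ≫ HomologicalComplex.opcyclesMap f c ≫ eV.inv := by
        rw [← Category.assoc, Iso.eq_comp_inv]
        exact HomologicalComplex.homologyι_naturality f c
      rw [e]; infer_instance
    have hT := DerivedCategory.mappingCone_triangle_distinguished f
    have hSpc : ∀ j, DCoh.IsPseudoCoherentD j (DerivedCategory.Q.obj S) := fun j => RelPCS.pc_strictlyPerfect hS j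
    have hCab : IsAboveD c (DerivedCategory.Q.obj C) := by
      intro i hi
      haveI : Epi ((DerivedCategory.homologyFunctor _ i).map (DerivedCategory.Q.map f)) := by
        rcases eq_or_lt_of_le hi with rfl | hlt
        · exact ((MorphismProperty.epimorphisms _).arrow_mk_iso_iff
            (((Functor.mapArrowFunctor _ _).mapIso (DerivedCategory.homologyFunctorFactors _ c)).app (Arrow.mk f))).2 hepi
        · exact ((ShortComplex.isZero_homology_of_isZero_X₂ _ (hGVz i hlt)).of_iso (KFlat.hdIso GV i)).epi _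
      haveI : Mono ((DerivedCategory.homologyFunctor _ (i + 1)).map (DerivedCategory.Q.map f)) :=
        ((ShortComplex.isZero_homology_of_isZero_X₂ (S.sc (i + 1))
          (isZero_single_obj_X (ComplexShape.up ℤ) c L (i + 1) (by lia))).of_iso (KFlat.hdIso S (i + 1))).mono _
      exact (DerivedCategory.HomologySequence.exact₃ _ hT i (i + 1) rfl).isZero_of_both_zeros
        ((DerivedCategory.HomologySequence.epi_homologyMap_mor₁_iff _ hT i).1 ‹_›)
        ((DerivedCategory.HomologySequence.mono_homologyMap_mor₁_iff _ hT i (i + 1) rfl).1 ‹_›)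
    -- the derived pullback of the cone
    have hTriv := DerivedCategory.mappingCone_triangle_distinguished ((qC k₂).map f)
    have hS₀ : ∀ j, DCoh.IsPseudoCoherentD j (DerivedCategory.Q.obj ((qC k₂).obj S)) := fun j =>
      RelPCS.pc_strictlyPerfect (DerPerf.isStrictlyPerfect_pullback k₂ hS) j
    have hGV₀ : DCoh.IsPseudoCoherentD m (DerivedCategory.Q.obj ((qC k₂).obj GV)) :=
      pc_of_iso ((RD (k₁ ⁻¹ᵁ V).ι).mapIso (rdIso (k ⁻¹ᵁ O).ι P₀ ≪≫ DerivedCategory.Q.mapIso (qcRestrIso k O G)) ≪≫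
          rdIso (k₁ ⁻¹ᵁ V).ι _ ≪≫ DerivedCategory.Q.mapIso (qcRestrIso k₁ V GO))
        (pc_restrict _ (pc_restrict _ hP₀))
    have hC₀ : DCoh.IsPseudoCoherentD m ((DCoh.Lpull k₂).obj (DerivedCategory.Q.obj C)) :=
      pc_of_iso ((DerivedCategory.Q.mapIso
          (CochainComplex.mappingCone.mapHomologicalComplexIso f (Scheme.Modules.pullback k₂))).symm ≪≫
          (ProjForm.lpullIso k₂ hC).symm)
        (pc_obj₃ _ hTriv m (hS₀ _) hGV₀)
    have hCpc := ih k₂ (nilImm_restrict (nilImm_restrict hk O) V) m _ hCab hC₀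
    have hGVpc : DCoh.IsPseudoCoherentD m (DerivedCategory.Q.obj GV) := pc_obj₂ _ hT m (hSpc _) hCpc
    obtain ⟨l, hl, hle⟩ := exists_opens (V.ι ≫ O.ι)
    refine ⟨(V.ι ≫ O.ι).opensRange, ⟨⟨⟨x, hxO⟩, hxV⟩, rfl⟩, ?_⟩
    let e : DerivedCategory.Q.obj GV ≅ (RD (V.ι ≫ O.ι)).obj K :=
      (rdIso V.ι GO).symm ≪≫ (RD V.ι).mapIso ((rdIso O.ι G).symm ≪≫ (RD O.ι).mapIso eG) ≪≫
        ((rdComp V.ι O.ι).app K).symm
    exact pc_of_iso (((rdComp l _).app K).symm ≪≫ (rdCongr hle).app K) (pc_restrict l (pc_of_iso e hGVpc))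

/-- **pseudo-coherence descends along nilpotent immersions** -/
theorem pc_of_lpull {U₀ U : Scheme.{u}} (k : U₀ ⟶ U) [IsClosedImmersion k] [DCoh.HasLpull k] (hk : NilImm k)
    (m : ℤ) (K : DCoh.D U) (h : DCoh.IsPseudoCoherentD m ((DCoh.Lpull k).obj K)) :
    DCoh.IsPseudoCoherentD m K := by
  refine RelPCS.pc_of_locally fun x => ?_
  obtain ⟨O, hO, hxO⟩ := QC.exists_affine_mem x
  refine ⟨O, hxO, ?_⟩
  haveI : IsClosedImmersion (k ∣_ O) := MorphismProperty.of_isPullback (P := @IsClosedImmersion)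
    (isPullback_morphismRestrict k O).flip inferInstance
  haveI := KFlat.hasLpull (k ∣_ O)
  haveI : IsAffine (O : Scheme.{u}) := hO
  haveI : CompactSpace ↥(k ⁻¹ᵁ O : Scheme.{u}) := QuasiCompact.compactSpace_of_compactSpace (k ∣_ O)
  obtain ⟨eM⟩ := nonempty_lpull_restrict k O K
  have h' := pc_of_iso eM.symm (pc_restrict (k ⁻¹ᵁ O).ι h)
  obtain ⟨b, hb⟩ := RelPCS.exists_bound_of_pc h'
  have hab := isAboveD_of_lpull (nilImm_restrict hk O) (c := b - 1) (isAboveD_mono (by lia) hb)
  exact pc_of_lpull_bounded (b - m).toNat (k ∣_ O) (nilImm_restrict hk O) m _ (isAboveD_mono (by lia) hab) h'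

/-- finite order thickenings -/
theorem nilImm_of_thickening {X X' : Scheme.{u}} (i : X ⟶ X') (hi : MoreMor.IsFiniteOrderThickening i)
    [IsClosedImmersion i] : NilImm i := by
  refine ⟨fun x => ?_, fun z => ?_⟩
  · haveI := hi.1.2
    exact i.surjective x
  · obtain ⟨U, hU, hz⟩ := QC.exists_affine_mem (i.base z)
    obtain ⟨n, hn⟩ := hi.2
    rw [CMFlat.ker_stalkMap_eq i z ⟨U, hU⟩ hz]
    refine ⟨n + 1, ?_⟩
    rw [← Ideal.map_pow]
    have h0 : i.ker.ideal ⟨U, hU⟩ ^ (n + 1) = ⊥ := by
      have h1 : (i.ker ^ (n + 1)).ideal ⟨U, hU⟩ = ⊥ := by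
        rw [pow_succ, hn, zero_mul]; rfl
      rw [Scheme.IdealSheafData.ideal_pow, Pi.pow_apply] at h1
      exact h1
    rw [Scheme.Hom.ker_apply] at h0
    rw [h0]
    exact Ideal.map_bot

end Groth.Agent.KSixLib
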