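import Groth.Agent.DQCoh.PCCalc
import Groth.Agent.DQCoh.LocLift
import Groth.Agent.KFlat.ClosedImm
import Groth.Agent.DRingKP.Nilp
import Groth.Agent.RelPCS.Single

/-!
# Modules along closed immersions with nilpotent kernels at the local rings
-/

set_option backward.isDefEq.respectTransparency false
set_option backward.isDefEq.respectTransparency.types false
set_option linter.style.haveILetI false
set_option autoImplicit false
set_option maxHeartbeats 1000000

universe u

open CategoryTheory Limits AlgebraicGeometry Opposite TopologicalSpace TensorProduct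

namespace Groth.Agent.KSixLib

open Groth.Agent.DQCoh

variable {U₀ U : Scheme.{u}}

/-- surjective, with nilpotent kernels at all local rings -/
structure NilImm (k : U₀ ⟶ U) : Prop where
  surj : ∀ x : U, ∃ z : U₀, k.base z = x
  nil : ∀ z : U₀, IsNilpotent (RingHom.ker (k.stalkMap z).hom)

variable {k : U₀ ⟶ U}

lemma nilImm_restrict (hk : NilImm k) (O : U.Opens) : NilImm (k ∣_ O) := by
  refine ⟨fun x => ?_, fun z => ?_⟩
  · obtain ⟨z, hz⟩ := hk.surj x.1
    let z' : (k ⁻¹ᵁ O : Scheme.{u}) := ⟨z, show k.base z ∈ O from hz ▸ x.2⟩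
    refine ⟨z', Subtype.ext ?_⟩
    exact (congrArg (fun t : (k ⁻¹ᵁ O : Scheme.{u}) ⟶ U => t.base z') (morphismRestrict_ι k O)).trans hz
  · let e := morphismRestrictStalkMap k O z
    have e2 : (k ∣_ O).stalkMap z = e.hom.left ≫ k.stalkMap z.1 ≫ e.inv.right := by
      rw [← Category.assoc, show e.hom.left ≫ k.stalkMap z.1 = (k ∣_ O).stalkMap z ≫ e.hom.right from e.hom.w,
        Category.assoc, ← Arrow.comp_right, Iso.hom_inv_id]
      exact (Category.comp_id _).symm
    obtain ⟨n, hn⟩ := hk.nil z.1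
    refine ⟨n, ?_⟩
    let τ : (O : Scheme.{u}).presheaf.stalk ((k ∣_ O).base z) →+* U.presheaf.stalk (k.base z.1) := (e.hom.left).hom
    let σ : U₀.presheaf.stalk z.1 →+* (k ⁻¹ᵁ O : Scheme.{u}).presheaf.stalk z := (e.inv.right).hom
    have hinj : Function.Injective τ := (ConcreteCategory.bijective_of_isIso e.hom.left).1
    have hinj' : Function.Injective σ := (ConcreteCategory.bijective_of_isIso e.inv.right).1
    have hle : (RingHom.ker ((k ∣_ O).stalkMap z).hom).map τ ≤ RingHom.ker (k.stalkMap z.1).hom := by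
      refine Ideal.map_le_iff_le_comap.2 fun a ha => ?_
      rw [RingHom.mem_ker, e2] at ha
      exact RingHom.mem_ker.2 (hinj' ((show σ ((k.stalkMap z.1).hom (τ a)) = 0 from ha).trans (map_zero σ).symm))
    rw [Ideal.zero_eq_bot, ← le_bot_iff] at hn ⊢
    intro a ha
    have h1 := Ideal.mem_map_of_mem τ ha
    rw [Ideal.map_pow] at h1
    have h2 : τ a = 0 := (Submodule.mem_bot _).1 (hn (Ideal.pow_right_mono hle n h1))
    exact (Submodule.mem_bot _).2 (hinj (h2.trans (map_zero τ).symm))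

variable [IsClosedImmersion k]

/-- the stalk maps to the stalk of the pullback surjectively -/
lemma kap_surjective (z : U₀) (M : U.Modules) : Function.Surjective (KFlat.kap k z M) := by
  let T := (DerSch.stalkFunctor U₀ z).obj ((Scheme.Modules.pullback k).obj M)
  let S : Submodule (U₀.presheaf.stalk z) T :=
    { carrier := Set.range (KFlat.kap k z M)
      add_mem' := by rintro _ _ ⟨m, rfl⟩ ⟨m', rfl⟩; exact ⟨m + m', map_add _ _ _⟩
      zero_mem' := ⟨0, map_zero _⟩
      smul_mem' := by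
        rintro c _ ⟨m, rfl⟩
        obtain ⟨r, rfl⟩ := k.stalkMap_surjective z c
        exact ⟨r • m, KFlat.kap_smul k z M r m⟩ }
  have hq : ModuleCat.ofHom S.mkQ = (0 : T ⟶ ModuleCat.of _ (T ⧸ S)) :=
    KFlat.pull_stalk_ext k z M fun m => (Submodule.Quotient.mk_eq_zero S).2 ⟨m, rfl⟩
  intro t
  exact (Submodule.Quotient.mk_eq_zero S).1 (LinearMap.congr_fun (congrArg ModuleCat.Hom.hom hq) t)

/-- **Nakayama for sheaves along a nilpotent immersion** -/
lemma isZero_of_pullback (hk : NilImm k) {Q : U.Modules}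
    (h : IsZero ((Scheme.Modules.pullback k).obj Q)) : IsZero Q := by
  refine KFlat.isZero_of_stalks _ fun x => ?_
  obtain ⟨z, rfl⟩ := hk.surj x
  letI : Algebra (U.presheaf.stalk (k.base z)) (U₀.presheaf.stalk z) := (k.stalkMap z).hom.toAlgebra
  have h1 : IsZero ((ModuleCat.extendScalars.{u, u, u} (k.stalkMap z).hom).obj
      ((DerSch.stalkFunctor U (k.base z)).obj Q)) :=
    ((DerSch.stalkFunctor U₀ z).map_isZero h).of_iso ((KFlat.pullStalkIso k z).app Q).symm
  haveI : Subsingleton ((DerSch.stalkFunctor U (k.base z)).obj Q) :=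
    DRingKP.detects_of_nilpotent (A := U.presheaf.stalk (k.base z)) (B := U₀.presheaf.stalk z)
      (k.stalkMap_surjective z) (hk.nil z) _ fun _ => ModuleCat.subsingleton_of_isZero h1
  exact ModuleCat.isZero_of_subsingleton _

lemma epi_of_pullback (hk : NilImm k) {M N : U.Modules} (ψ : M ⟶ N)
    [Epi ((Scheme.Modules.pullback k).map ψ)] : Epi ψ :=
  Abelian.epi_of_cokernel_π_eq_zero ψ ((isZero_of_pullback hk
    ((isZero_cokernel_of_epi ((Scheme.Modules.pullback k).map ψ)).of_iso
      (PreservesCokernel.iso (Scheme.Modules.pullback k) ψ))).eq_of_tgt _ _)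

/-- the unit is an epimorphism -/
lemma epi_unit (hk : NilImm k) (M : U.Modules) :
    Epi ((Scheme.Modules.pullbackPushforwardAdjunction k).unit.app M) := by
  let adj := Scheme.Modules.pullbackPushforwardAdjunction k
  refine Abelian.epi_of_cokernel_π_eq_zero _ ((KFlat.isZero_of_stalks _ fun x => ?_).eq_of_tgt _ _)
  obtain ⟨z, rfl⟩ := hk.surj x
  have hs : Function.Surjective ((DerSch.stalkFunctor U (k.base z)).map (adj.unit.app M)).hom := by
    intro t
    obtain ⟨m, hm⟩ := kap_surjective z M (KFlat.pushStalk k z _ t)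
    refine ⟨m, (KFlat.pushStalk_bijective k z _).1 (Eq.trans ?_ hm)⟩
    obtain ⟨W, hW, s, rfl⟩ := KFlat.exists_pgerm (DCoh.toP.obj M) (k.base z) m
    refine (congrArg (KFlat.pushStalk k z _) (KFlat.pstMap_germ (DCoh.toP.map (adj.unit.app M)) (k.base z) hW s)).trans ?_
    exact (KFlat.pushStalk_germ k z _ W hW _).trans (KFlat.kap_germ k z M W hW s).symm
  haveI : Epi ((DerSch.stalkFunctor U (k.base z)).map (adj.unit.app M)) := (ModuleCat.epi_iff_surjective _).2 hs
  exact (isZero_cokernel_of_epi ((DerSch.stalkFunctor U (k.base z)).map (adj.unit.app M))).of_iso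
    (PreservesCokernel.iso (DerSch.stalkFunctor U (k.base z)) _)

/-- **lifting generators of the reduction** -/
theorem exists_free_lift (hk : NilImm k) {F M : U.Modules} (π : F ⟶ M) [Epi π] {r : ℕ}
    (q : FlatMod.freeMod U₀ r ⟶ (Scheme.Modules.pullback k).obj M) [Epi q] (x : U) :
    ∃ (V : U.Opens) (_ : x ∈ V) (φ : (Scheme.Modules.restrictFunctor V.ι).obj (FlatMod.freeMod U r) ⟶
        (Scheme.Modules.restrictFunctor V.ι).obj F),
      Epi (φ ≫ (Scheme.Modules.restrictFunctor V.ι).map π) := by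
  let adj := Scheme.Modules.pullbackPushforwardAdjunction k
  let u := adj.unit.app M
  haveI : Epi u := epi_unit hk M
  let p : FlatMod.freeMod U r ⟶ (Scheme.Modules.pushforward k).obj ((Scheme.Modules.pullback k).obj M) :=
    adj.homEquiv _ _ ((DerPerf.pullFreeIso k r).hom ≫ q)
  obtain ⟨V, hx, φ, hφ⟩ := exists_lift_free (π ≫ u) p x
  let R := Scheme.Modules.restrictFunctor V.ι
  let R₀ := Scheme.Modules.restrictFunctor (k ⁻¹ᵁ V).ι
  let T := Scheme.Modules.pullback (k ∣_ V)
  let Φ := DerPerf.pullRestrictIso k V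
  refine ⟨V, hx, φ, ?_⟩
  have hu : (Scheme.Modules.pullback k).map u ≫ adj.counit.app ((Scheme.Modules.pullback k).obj M) = 𝟙 _ :=
    adj.left_triangle_components M
  have hp : (Scheme.Modules.pullback k).map p ≫ adj.counit.app ((Scheme.Modules.pullback k).obj M) =
      (DerPerf.pullFreeIso k r).hom ≫ q :=
    (adj.homEquiv_counit (g := p)).symm.trans ((adj.homEquiv _ _).symm_apply_apply _)
  have key : T.map (φ ≫ R.map π) ≫ Φ.inv.app M =
      Φ.inv.app (FlatMod.freeMod U r) ≫ R₀.map ((DerPerf.pullFreeIso k r).hom ≫ q) := by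
    rw [← hp, Functor.map_comp R₀]
    have n1 : T.map (R.map u) ≫ Φ.inv.app _ = Φ.inv.app M ≫ R₀.map ((Scheme.Modules.pullback k).map u) :=
      Φ.inv.naturality u
    have n2 : T.map (R.map p) ≫ Φ.inv.app _ = Φ.inv.app _ ≫ R₀.map ((Scheme.Modules.pullback k).map p) :=
      Φ.inv.naturality p
    rw [← Category.assoc, ← n2, ← hφ]
    simp only [Functor.map_comp, Category.assoc]
    erw [reassoc_of% n1]
    rw [← R₀.map_comp, hu]
    erw [R₀.map_id, Category.comp_id]
  haveI : Epi (R₀.map ((DerPerf.pullFreeIso k r).hom ≫ q)) := R₀.map_epi _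
  haveI : Epi (T.map (φ ≫ R.map π) ≫ Φ.inv.app M) := by rw [key]; infer_instance
  haveI : Epi (T.map (φ ≫ R.map π)) := by
    have h : T.map (φ ≫ R.map π) = (T.map (φ ≫ R.map π) ≫ Φ.inv.app M) ≫ Φ.hom.app M := by
      rw [Category.assoc, Iso.inv_hom_id_app]; exact (Category.comp_id _).symm
    rw [h]; infer_instance
  haveI : IsClosedImmersion (k ∣_ V) := MorphismProperty.of_isPullback (P := @IsClosedImmersion)
    (isPullback_morphismRestrict k V).flip inferInstance
  exact epi_of_pullback (nilImm_restrict hk V) _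

/-- finitely many generators near a point -/
lemma exists_free_epi (hk : NilImm k) {N : U₀.Modules} (h : CohB1.IsFT N) (x : U) :
    ∃ (O : U.Opens) (r : ℕ) (q : FlatMod.freeMod (k ⁻¹ᵁ O : Scheme.{u}) r ⟶
        (Scheme.Modules.restrictFunctor (k ⁻¹ᵁ O).ι).obj N), x ∈ O ∧ Epi q := by
  obtain ⟨z, rfl⟩ := hk.surj x
  obtain ⟨W, hz, σ, hσ⟩ := QC.isFT_iff_exists_hasFinGen.1 h z
  obtain ⟨O, hO, hOW⟩ := k.isClosedEmbedding.isInducing.isOpen_iff.1 W.2
  obtain rfl : k ⁻¹ᵁ (⟨O, hO⟩ : U.Opens) = W := SetLike.coe_injective hOW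
  haveI : Finite σ.I := hσ.finite
  haveI : Epi σ.π := σ.epi
  let e := Sigma.whiskerEquiv (f := fun _ : Fin (Nat.card σ.I) => Coh.structureModule (k ⁻¹ᵁ ⟨O, hO⟩ : Scheme.{u}))
    (g := fun _ : σ.I => Coh.structureModule (k ⁻¹ᵁ ⟨O, hO⟩ : Scheme.{u})) (Finite.equivFin σ.I).symm
    (fun _ => Iso.refl _)
  refine ⟨⟨O, hO⟩, Nat.card σ.I, e.hom ≫ σ.π, ?_, epi_comp' inferInstance σ.epi⟩
  exact hz

end Groth.Agent.KSixLib
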