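import Groth.Agent.KSixLib.FlatTwist
import Groth.Agent.KSixLib.Tensor

/-!
# Tor amplitude under tor-independent base change
-/

set_option backward.isDefEq.respectTransparency false
set_option backward.isDefEq.respectTransparency.types false
set_option linter.style.haveILetI false
set_option autoImplicit false
set_option maxHeartbeats 1000000

universe u

open CategoryTheory Limits AlgebraicGeometry HomologicalComplex

attribute [local instance] HasDerivedCategory.standard

namespace Groth.Agent.KSixLib

section Ring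

open Groth.Agent.DRingKP TensorProduct
attribute [local instance] Algebra.TensorProduct.rightAlgebra

variable {R A A' : Type u} [CommRing R] [CommRing A] [CommRing A']

/-- `⊗_A A'` keeps bounded above acyclic complexes with `R`-flat terms acyclic -/
def TorNice (π : R →+* A) (φ : A →+* A') : Prop :=
  ∀ (K : DRing.Cx A) (k : ℤ), DRing.VanishesAbove K k → DRing.TermwiseFlat ((resCx π).obj K) →
    K.Acyclic → ((bc φ).obj K).Acyclic

/-- flat modules over flat algebras are flat over the base -/
lemma flat_res {π : R →+* A} (hπ : π.Flat) (M : ModuleCat.{u} A) (hM : Module.Flat A M) :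
    Module.Flat R ((ModuleCat.restrictScalars.{u} π).obj M) := by
  letI : Algebra R A := π.toAlgebra
  letI : Module R M := Module.compHom M π
  haveI : IsScalarTower R A M := IsScalarTower.of_algebraMap_smul fun _ _ => rfl
  haveI : Module.Flat R A := hπ
  haveI := hM
  exact Module.Flat.trans R A M

lemma acyclic_of_res {π : R →+* A} {K : DRing.Cx A} (h : ((resCx π).obj K).Acyclic) : K.Acyclic := fun i => by
  have h1 := h i
  rw [exactAt_iff] at h1 ⊢
  exact (ShortComplex.exact_map_iff_of_faithful (K.sc i) (ModuleCat.restrictScalars.{u} π)).1 h1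

lemma acyclic_res (π : R →+* A) {K : DRing.Cx A} (h : K.Acyclic) : ((resCx π).obj K).Acyclic := fun i => by
  have h1 := h i
  rw [exactAt_iff] at h1 ⊢
  exact (ShortComplex.exact_map_iff_of_faithful (K.sc i) (ModuleCat.restrictScalars.{u} π)).2 h1

/-- base change of the base, followed by a flat algebra, is nice -/
theorem torNice_of_flat_cmp {C : Type u} [CommRing C] [Algebra R A] [Algebra R C] [Algebra R A'] [Algebra A A']
    [Algebra C A'] [IsScalarTower R A A'] [IsScalarTower R C A'] (hφ : (DQCoh.BCAlg.cmpHom R A C A').Flat) :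
    TorNice (algebraMap R A) (algebraMap A A') := fun K k hK hKf hKa => by
  let χ := DQCoh.BCAlg.cmpHom R A C A'
  let L := (bc (algebraMap A (A ⊗[R] C))).obj K
  have hC : ((bc (algebraMap R C)).obj ((resCx (algebraMap R A)).obj K)).Acyclic := by
    refine acyclic_of_res (π := algebraMap R C) ?_
    exact KFlat.acyclic_of_iso (DRingKP.bcRestrictIso _ _).symm
      (acyclic_tR (b := k) (fun i hi => (ModuleCat.restrictScalars.{u} _).map_isZero (hK i hi)) hKf
        (acyclic_res _ hKa) _)
  have hL : L.Acyclic := acyclic_of_res (π := algebraMap C (A ⊗[R] C))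
    (KFlat.acyclic_of_iso (pushCxIso K).symm hC)
  have hcomp : algebraMap A A' = χ.comp (algebraMap A (A ⊗[R] C)) := RingHom.ext fun s => by
    rw [RingHom.comp_apply]
    exact ((DQCoh.BCAlg.cmpHom_tmul (R := R) (S := A) (R' := C) (C := A') s 1).trans
      (by rw [map_one, mul_one])).symm
  haveI : PreservesFiniteLimits (ModuleCat.extendScalars.{u, u, u} χ) :=
    ModuleCat.preservesFiniteLimits_extendScalars_of_flat hφ
  haveI : PreservesFiniteColimits (ModuleCat.extendScalars.{u, u, u} χ) := inferInstance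
  rw [hcomp]
  let i := ModuleCat.extendScalarsComp (algebraMap A (A ⊗[R] C)) χ
  refine KFlat.acyclic_of_iso (K := ((bc χ).obj L))
    (HomologicalComplex.Hom.isoOfComponents (fun n => (i.app (K.X n)).symm)
      (fun p q _ => (i.inv.naturality (K.d p q)).symm)) fun n => ?_
  have h1 := hL n
  rw [exactAt_iff] at h1 ⊢
  exact h1.map (ModuleCat.extendScalars.{u, u, u} χ)

/-- **tor amplitude under a tor-independent change of the base, followed by a flat algebra** -/
theorem amp_bc_indep {B B' : Type u} [CommRing B] [CommRing B'] [Algebra A B] [Algebra A A'] [Algebra A B']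
    [Algebra B B'] [Algebra A' B'] [IsScalarTower A B B'] [IsScalarTower A A' B']
    (π : R →+* A) (hπ : π.Flat) (hN : TorNice π (algebraMap A A'))
    (hφ : (DQCoh.BCAlg.cmpHom A B A' B').Flat) (F : DRing.Cx B) {c : ℤ} (hFc : DRing.VanishesAbove F c)
    (hFf : DRing.TermwiseFlat ((resCx π).obj ((resCx (algebraMap A B)).obj F))) {a b : ℤ}
    (h : DRing.HasTorAmplitudeIn A a b (DRing.toD ((resCx (algebraMap A B)).obj F))) :
    DRing.HasTorAmplitudeIn A' a b
      (DRing.toD ((resCx (algebraMap A' B')).obj ((bc (algebraMap B B')).obj F))) := by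
  obtain ⟨E, hE, hEf, ⟨e⟩⟩ := h
  let F₀ := (resCx (algebraMap A B)).obj F
  have hEb : DRing.VanishesAbove E b := fun i hi => hE i (Or.inr hi)
  have hF₀ : DRing.VanishesAbove F₀ c := fun i hi => (ModuleCat.restrictScalars.{u} _).map_isZero (hFc i hi)
  obtain ⟨G, g', hGb, hG, ⟨eG⟩⟩ := exists_proj_rep_le (DRing.toD E)
    ⟨b + 1, fun i hi => ((exactAt_iff_isZero_homology _ _).1
      (ExactAt.of_isZero (hEb i (by lia)))).of_iso ((DerivedCategory.homologyFunctorFactors _ i).app _)⟩
  haveI := isKProjective_of_vanishesAbove hGb hG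
  have hres : ∀ {P : DRing.Cx A}, DRing.TermwiseFlat P → DRing.TermwiseFlat ((resCx π).obj P) :=
    fun hP i => flat_res hπ _ (hP i)
  have key : ∀ {Z : DRing.Cx A} {z : ℤ}, DRing.VanishesAbove Z z → DRing.TermwiseFlat ((resCx π).obj Z) →
      ∀ ε : DRing.toD G ≅ DRing.toD Z,
        Nonempty (DRing.toD ((bc (algebraMap A A')).obj G) ≅ DRing.toD ((bc (algebraMap A A')).obj Z)) := by
    intro Z z hZ hZf ε
    obtain ⟨g, hg⟩ := PerfLocal.exists_lift ε.hom
    haveI : IsIso (DerivedCategory.Q.map g) := by rw [hg]; infer_instance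
    haveI : QuasiIso g := (DerivedCategory.isIso_Q_map_iff_quasiIso _ g).1 inferInstance
    have hc : DRing.TermwiseFlat ((resCx π).obj (CochainComplex.mappingCone g)) := fun i => by
      haveI : PreservesFiniteBiproducts (ModuleCat.restrictScalars.{u} π) :=
        Functor.preservesFiniteBiproductsOfAdditive _
      haveI : PreservesBinaryBiproduct (G.X (i + 1)) (Z.X i) (ModuleCat.restrictScalars.{u} π) :=
        (preservesBinaryBiproducts_of_preservesBiproducts (ModuleCat.restrictScalars.{u} π)).preserves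
      have hb := flat_biprod (hres (flat_of_projective hG) (i + 1)) (hZf i)
      exact @Module.Flat.of_linearEquiv R _ _ _ _ _ _ _ hb ((ModuleCat.restrictScalars.{u} π).mapIso
        (HomologicalComplex.homotopyCofiber.XIsoBiprod g i (i + 1) rfl) ≪≫
          (ModuleCat.restrictScalars.{u} π).mapBiprod _ _).toLinearEquiv
    haveI : QuasiIso ((bc (algebraMap A A')).map g) :=
      KFlat.quasiIso_of_acyclic_mappingCone _ (KFlat.acyclic_of_iso
        (CochainComplex.mappingCone.mapHomologicalComplexIso g (ModuleCat.extendScalars.{u, u, u} (algebraMap A A')))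
        (hN _ (max g' z) (cone_vanishesAbove g hGb hZ) hc (KFlat.mappingCone_acyclic g)))
    exact ⟨@asIso _ _ _ _ (DerivedCategory.Q.map ((bc (algebraMap A A')).map g))
      ((DerivedCategory.isIso_Q_map_iff_quasiIso _ _).2 inferInstance)⟩
  obtain ⟨k₁⟩ := key hEb (hres hEf) eG
  obtain ⟨k₂⟩ := key hF₀ hFf (eG ≪≫ e)
  have h1 : DRing.HasTorAmplitudeIn A' a b (DRing.toD ((resCx (algebraMap A' (B ⊗[A] A'))).obj
      ((bc (algebraMap B (B ⊗[A] A'))).obj F))) :=
    ⟨(bc (algebraMap A A')).obj E, fun i hi => (ModuleCat.extendScalars.{u, u, u} _).map_isZero (hE i hi),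
      fun i => haveI := hEf i; Module.Flat.of_linearEquiv (extendTensorIso (B := A') (A := A) (E.X i)).toLinearEquiv,
      ⟨k₁.symm ≪≫ k₂ ≪≫ DerivedCategory.Q.mapIso (pushCxIso F).symm⟩⟩
  let χ := DQCoh.BCAlg.cmpHom A B A' B'
  have h2 := amp_flat_bc _ χ hφ (algebraMap A' B') (RingHom.ext fun r => by
    rw [RingHom.comp_apply]
    exact ((DQCoh.BCAlg.cmpHom_tmul (R := A) (S := B) (R' := A') (C := B') 1 r).trans
      (by rw [map_one, one_mul])).symm) _ h1
  have hcomp : algebraMap B B' = χ.comp (algebraMap B (B ⊗[A] A')) := RingHom.ext fun s => by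
    rw [RingHom.comp_apply]
    exact ((DQCoh.BCAlg.cmpHom_tmul (R := A) (S := B) (R' := A') (C := B') s 1).trans
      (by rw [map_one, mul_one])).symm
  rw [hcomp]
  let i := ModuleCat.extendScalarsComp (algebraMap B (B ⊗[A] A')) χ
  exact amp_of_iso (DerivedCategory.Q.mapIso ((resCx _).mapIso
    (HomologicalComplex.Hom.isoOfComponents (fun n => (i.app (F.X n)).symm)
      (fun p q _ => (i.inv.naturality (F.d p q)).symm)))) h2

end Ring

section Square

open Groth.Agent.DQCoh

variable {X Y Z P S T : Scheme.{u}} {p : Z ⟶ X} {g : Z ⟶ P} {f : X ⟶ Y} {h : P ⟶ Y}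

lemma sq_base_eq (w : p ≫ f = g ≫ h) (z : Z) : h.base (g.base z) = f.base (p.base z) := by
  rw [← Scheme.Hom.comp_apply, ← Scheme.Hom.comp_apply, w]

/-- the map of local rings on the second side of a commutative square -/
noncomputable def sqMap (w : p ≫ f = g ≫ h) (z : Z) :
    Y.presheaf.stalk (f.base (p.base z)) ⟶ P.presheaf.stalk (g.base z) :=
  Y.presheaf.stalkSpecializes (specializes_of_eq (sq_base_eq w z)) ≫ h.stalkMap _

lemma sqComm (w : p ≫ f = g ≫ h) (z : Z) :
    f.stalkMap (p.base z) ≫ p.stalkMap z = sqMap w z ≫ g.stalkMap z := by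
  apply Spec.map_injective
  rw [← cancel_mono (Y.fromSpecStalk _), Spec.map_comp, Spec.map_comp, Category.assoc, Category.assoc,
    Scheme.SpecMap_stalkMap_fromSpecStalk, sqMap, Spec.map_comp, Category.assoc,
    Scheme.SpecMap_stalkSpecializes_fromSpecStalk, Scheme.SpecMap_stalkMap_fromSpecStalk,
    Scheme.SpecMap_stalkMap_fromSpecStalk_assoc, Scheme.SpecMap_stalkMap_fromSpecStalk_assoc, w]

/-- the local ring of a point of a cartesian square is flat over the tensor product of the two others -/
theorem flat_cmpHom_sq (H : IsPullback p g f h) (z : Z) :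
    letI := (f.stalkMap (p.base z)).hom.toAlgebra
    letI := (sqMap H.w z).hom.toAlgebra
    letI := (p.stalkMap z).hom.toAlgebra
    letI := (g.stalkMap z).hom.toAlgebra
    letI := (f.stalkMap (p.base z) ≫ p.stalkMap z).hom.toAlgebra
    haveI : IsScalarTower (Y.presheaf.stalk (f.base (p.base z))) (X.presheaf.stalk (p.base z)) (Z.presheaf.stalk z) :=
      IsScalarTower.of_algebraMap_eq fun _ => rfl
    haveI : IsScalarTower (Y.presheaf.stalk (f.base (p.base z))) (P.presheaf.stalk (g.base z)) (Z.presheaf.stalk z) :=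
      IsScalarTower.of_algebraMap_eq fun a => congr(($(sqComm H.w z)).hom a)
    (BCAlg.cmpHom (Y.presheaf.stalk (f.base (p.base z))) (X.presheaf.stalk (p.base z))
      (P.presheaf.stalk (g.base z)) (Z.presheaf.stalk z)).Flat := by
  letI := (f.stalkMap (p.base z)).hom.toAlgebra
  letI := (sqMap H.w z).hom.toAlgebra
  letI := (p.stalkMap z).hom.toAlgebra
  letI := (g.stalkMap z).hom.toAlgebra
  letI := (f.stalkMap (p.base z) ≫ p.stalkMap z).hom.toAlgebra
  haveI : IsScalarTower (Y.presheaf.stalk (f.base (p.base z))) (X.presheaf.stalk (p.base z)) (Z.presheaf.stalk z) :=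
    IsScalarTower.of_algebraMap_eq fun _ => rfl
  haveI : IsScalarTower (Y.presheaf.stalk (f.base (p.base z))) (P.presheaf.stalk (g.base z)) (Z.presheaf.stalk z) :=
    IsScalarTower.of_algebraMap_eq fun a => congr(($(sqComm H.w z)).hom a)
  haveI := BCStalk.flat_fromSpecStalk z
  refine BCStalk.flat_cmpHom_of_mono (X := X) (S' := P) f h (A := Y.presheaf.stalk (f.base (p.base z)))
    (Rx := X.presheaf.stalk (p.base z)) (R' := P.presheaf.stalk (g.base z)) (C := Z.presheaf.stalk z)
    (X.fromSpecStalk _) (P.fromSpecStalk _) (Z.fromSpecStalk z ≫ H.isoPullback.hom) ?_ ?_ ?_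
  · have hs : Spec.map (sqMap H.w z) ≫ Y.fromSpecStalk (f.base (p.base z)) = P.fromSpecStalk (g.base z) ≫ h := by
      rw [sqMap, Spec.map_comp, Category.assoc, Scheme.SpecMap_stalkSpecializes_fromSpecStalk,
        Scheme.SpecMap_stalkMap_fromSpecStalk]
    rw [← Scheme.SpecMap_stalkMap_fromSpecStalk, ← hs]
    rw [← Category.assoc, ← Category.assoc]
    exact congrArg (fun t => t ≫ Y.fromSpecStalk (f.base (p.base z))) pullback.condition
  · rw [Category.assoc, IsPullback.isoPullback_hom_fst]
    exact Scheme.SpecMap_stalkMap_fromSpecStalk _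
  · rw [Category.assoc, IsPullback.isoPullback_hom_snd]
    exact Scheme.SpecMap_stalkMap_fromSpecStalk _

/-- the projection of a fibre product over `S` is tor-nice over `S`-flat complexes -/
theorem torNice_sq {q : Y ⟶ S} {t : T ⟶ S} {t' : P ⟶ T} (hP : IsPullback h t' q t) (w : P) (y : Y)
    (e : h.base w = y) :
    TorNice (q.stalkMap y).hom (Y.presheaf.stalkSpecializes (specializes_of_eq e) ≫ h.stalkMap w).hom := by
  subst e
  letI := (q.stalkMap (h.base w)).hom.toAlgebra
  letI := (sqMap hP.w w).hom.toAlgebra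
  letI := (h.stalkMap w).hom.toAlgebra
  letI := (t'.stalkMap w).hom.toAlgebra
  letI := (q.stalkMap (h.base w) ≫ h.stalkMap w).hom.toAlgebra
  haveI : IsScalarTower (S.presheaf.stalk (q.base (h.base w))) (Y.presheaf.stalk (h.base w)) (P.presheaf.stalk w) :=
    IsScalarTower.of_algebraMap_eq fun _ => rfl
  haveI : IsScalarTower (S.presheaf.stalk (q.base (h.base w))) (T.presheaf.stalk (t'.base w)) (P.presheaf.stalk w) :=
    IsScalarTower.of_algebraMap_eq fun a => congr(($(sqComm hP.w w)).hom a)
  have := torNice_of_flat_cmp (R := S.presheaf.stalk (q.base (h.base w))) (A := Y.presheaf.stalk (h.base w))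
    (A' := P.presheaf.stalk w) (C := T.presheaf.stalk (t'.base w)) (flat_cmpHom_sq hP w)
  have e1 : Y.presheaf.stalkSpecializes (specializes_of_eq (rfl : h.base w = h.base w)) = 𝟙 _ := by simp
  rw [e1, Category.id_comp]
  exact this

/-- **stalkwise tor amplitude under tor-independent base change** -/
theorem torAmpAt_sq_indep (H : IsPullback p g f h) {q : Y ⟶ S} {t : T ⟶ S} {t' : P ⟶ T}
    (hP : IsPullback h t' q t) [Flat q] [Flat (f ≫ q)] (F : CochainComplex X.Modules ℤ) {c : ℤ}
    (hFc : ∀ i, c < i → IsZero (F.X i)) (hFf : ∀ i, FlatMod.IsFlat (F.X i)) {a b : ℤ} (z : Z)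
    (hF : DerSch.HasTorAmplitudeAt f a b F (p.base z)) :
    DerSch.HasTorAmplitudeAt g a b (((Scheme.Modules.pullback p).mapHomologicalComplex (ComplexShape.up ℤ)).obj F) z := by
  let x := p.base z
  let A := Y.presheaf.stalk (f.base x)
  let Rx := X.presheaf.stalk x
  let A' := P.presheaf.stalk (g.base z)
  let C := Z.presheaf.stalk z
  letI : Algebra A Rx := (f.stalkMap x).hom.toAlgebra
  letI : Algebra A A' := (sqMap H.w z).hom.toAlgebra
  letI : Algebra Rx C := (p.stalkMap z).hom.toAlgebra
  letI : Algebra A' C := (g.stalkMap z).hom.toAlgebra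
  letI : Algebra A C := (f.stalkMap x ≫ p.stalkMap z).hom.toAlgebra
  haveI : IsScalarTower A Rx C := IsScalarTower.of_algebraMap_eq fun _ => rfl
  haveI : IsScalarTower A A' C := IsScalarTower.of_algebraMap_eq fun t => congr(($(sqComm H.w z)).hom t)
  have hπ : (q.stalkMap (f.base x)).hom.Flat := Flat.stalkMap q _
  have hFr : DRing.TermwiseFlat ((resCx (q.stalkMap (f.base x)).hom).obj
      ((resCx (algebraMap A Rx)).obj ((KFlat.stCx x).obj F))) := fun i => by
    have hc : ((f ≫ q).stalkMap x).hom.Flat := Flat.stalkMap (f ≫ q) _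
    have h1 := flat_res hc (((KFlat.stCx x).obj F).X i) (hFf i x)
    exact @Module.Flat.of_linearEquiv (S.presheaf.stalk (q.base (f.base x))) _ _ _ _ _ _ _ h1
      ((ModuleCat.restrictScalarsComp'.{u} (q.stalkMap (f.base x)).hom (f.stalkMap x).hom
        ((f ≫ q).stalkMap x).hom (congrArg CommRingCat.Hom.hom (Scheme.Hom.stalkMap_comp f q x))).app
          (((KFlat.stCx x).obj F).X i)).symm.toLinearEquiv
  have h1 := amp_bc_indep (A := A) (B := Rx) (A' := A') (B' := C) (q.stalkMap (f.base x)).hom hπ
    (torNice_sq hP (g.base z) (f.base x) (sq_base_eq H.w z)) (flat_cmpHom_sq H z) ((KFlat.stCx x).obj F)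
    (fun i hi => (DerSch.stalkFunctor X x).map_isZero (hFc i hi)) hFr hF
  let i := Functor.isoWhiskerRight (KFlat.pullStalkIso p z) (ModuleCat.restrictScalars.{u} (g.stalkMap z).hom)
  refine DRingKP.amp_of_iso (DerivedCategory.Q.mapIso ?_) h1
  exact (HomologicalComplex.Hom.isoOfComponents (fun n => i.app (F.X n))
    (fun m n _ => (i.hom.naturality (F.d m n)).symm)).symm

/-- stalkwise tor amplitude under flat base change, for a cartesian square -/
theorem torAmpAt_sq_flat (H : IsPullback p g f h) [Flat h] (F : CochainComplex X.Modules ℤ) {a b : ℤ} (z : Z)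
    (hF : DerSch.HasTorAmplitudeAt f a b F (p.base z)) :
    DerSch.HasTorAmplitudeAt g a b (((Scheme.Modules.pullback p).mapHomologicalComplex (ComplexShape.up ℤ)).obj F) z := by
  let x := p.base z
  let A := Y.presheaf.stalk (f.base x)
  let Rx := X.presheaf.stalk x
  let A' := P.presheaf.stalk (g.base z)
  let C := Z.presheaf.stalk z
  letI : Algebra A Rx := (f.stalkMap x).hom.toAlgebra
  letI : Algebra A A' := (sqMap H.w z).hom.toAlgebra
  letI : Algebra Rx C := (p.stalkMap z).hom.toAlgebra
  letI : Algebra A' C := (g.stalkMap z).hom.toAlgebra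
  letI : Algebra A C := (f.stalkMap x ≫ p.stalkMap z).hom.toAlgebra
  haveI : IsScalarTower A Rx C := IsScalarTower.of_algebraMap_eq fun _ => rfl
  haveI : IsScalarTower A A' C := IsScalarTower.of_algebraMap_eq fun t => congr(($(sqComm H.w z)).hom t)
  haveI : Module.Flat A A' := by
    refine RingHom.flat_algebraMap_iff.1 ?_
    change (h.stalkMap (g.base z)).hom.comp
      (Y.presheaf.stalkSpecializes (specializes_of_eq (sq_base_eq H.w z))).hom |>.Flat
    refine RingHom.Flat.comp (RingHom.Flat.of_bijective ?_) (Flat.stalkMap h _)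
    exact ConcreteCategory.bijective_of_isIso (Y.presheaf.stalkCongr (.of_eq (sq_base_eq H.w z))).inv
  have h1 := amp_bc_twist (A := A) (S := Rx) (A' := A') (C := C) (flat_cmpHom_sq H z) ((KFlat.stCx x).obj F) hF
  let i := Functor.isoWhiskerRight (KFlat.pullStalkIso p z) (ModuleCat.restrictScalars.{u} (g.stalkMap z).hom)
  refine DRingKP.amp_of_iso (DerivedCategory.Q.mapIso ?_) h1
  exact (HomologicalComplex.Hom.isoOfComponents (fun n => i.app (F.X n))
    (fun m n _ => (i.hom.naturality (F.d m n)).symm)).symm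

end Square

end Groth.Agent.KSixLib
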