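import Groth.Agent.KSixLib.RelPerfPushMain
import Groth.Agent.KSixLib.Ascend

/-!
# Local finiteness of the tor amplitude of direct images
-/

set_option backward.isDefEq.respectTransparency false
set_option backward.isDefEq.respectTransparency.types false
set_option linter.style.haveILetI false
set_option autoImplicit false

universe u

open CategoryTheory Limits AlgebraicGeometry

attribute [local instance] HasDerivedCategory.standard

namespace Groth.Agent.KSixLib

variable {X Y S : Scheme.{u}} (f : X ⟶ Y) [DCoh.HasRpush f] (q : Y ⟶ S) [QuasiCompact f] [QuasiSeparated f]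

/-- amplitude of `Rf_*` from a bound on modules -/
theorem torAmpD_push_bound (N : ℕ)
    (hN : ∀ M : X.Modules, Coh.IsQCoh M → ∀ j : ℤ, (N : ℤ) < j →
      IsZero (DCoh.HD ((DCoh.Rpush f).obj (DCoh.inD X M)) j))
    (F : CochainComplex X.Modules ℤ) (c : ℤ) [(DCoh.toD X F).IsGE c] {a b : ℤ}
    (hF : DerSch.HasTorAmplitude (f ≫ q) a b F) (hq : DCoh.IsQCohD (DCoh.toD X F)) :
    DerSch.HasTorAmplitudeD q a (b + N) ((DCoh.Rpush f).obj (DCoh.toD X F)) := by
  haveI : (DCoh.toD X F).IsLE b := (DerivedCategory.isLE_iff _ b).2 fun i hi =>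
    DQCoh.isZero_homology_of_relAmp (f := f ≫ q) (a := a) (b := b) (fun x => (torAmpAt_iff _ a b F x).1 (hF x)) i hi
  rintro R ⟨e⟩
  refine torAmp_push f q F hq hF R e fun i hi => ?_
  exact (isZero_rpush_of_module_bound f N hN ((b - c).toNat + 1) (DCoh.toD X F) c b ‹_› inferInstance (by lia) hq i hi).of_iso
    ((KFlat.hdIso R i).symm ≪≫ (DerivedCategory.homologyFunctor Y.Modules i).mapIso e)

/-- `Rf_*` keeps locally finite amplitude -/
theorem locAmpD_push (F : CochainComplex X.Modules ℤ)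
    (hF : DerSch.LocFiniteTorAmplitude (f ≫ q) F) (hq : DCoh.IsQCohD (DCoh.toD X F)) :
    DerSch.LocFiniteTorAmplitudeD q ((DCoh.Rpush f).obj (DCoh.toD X F)) := by
  rintro R ⟨e⟩ y
  obtain ⟨U, hU, hy⟩ := QC.exists_affine_mem y
  haveI : IsAffine (U : Scheme.{u}) := hU
  let X' := f ⁻¹ᵁ U
  let f' := f ∣_ U
  haveI : QuasiCompact f' := MorphismProperty.of_isPullback (isPullback_morphismRestrict f U).flip ‹_›
  haveI : QuasiSeparated f' := MorphismProperty.of_isPullback (isPullback_morphismRestrict f U).flip ‹_›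
  haveI : CompactSpace (X' : Scheme.{u}) := QuasiCompact.compactSpace_of_compactSpace f'
  haveI := DerPush.hasRpush_sch f'
  obtain ⟨re⟩ := DQPush.nonempty_rpushRestrIso f U
  let F' := (DCoh.restrictCx X').obj F
  let R' := (DCoh.restrictCx U).obj R
  have hq' : DCoh.IsQCohD (DCoh.toD X' F') := fun j => QC.isQCoh_of_iso
    (((DQCoh.homologyDerIso (Scheme.Modules.restrictFunctor X'.ι) j).app _).symm ≪≫
      (DerivedCategory.homologyFunctor _ j).mapIso (DQCoh.rdIso X'.ι F))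
    (QC.isQCoh_restrict _ (hq j))
  obtain ⟨a, b, hab⟩ : ∃ a b : ℤ, DerSch.HasTorAmplitude (f' ≫ (U.ι ≫ q)) a b F' := by
    choose V a b hx hV using hF
    obtain ⟨t, ht⟩ := isCompact_univ.elim_finite_subcover (fun v : ↑(X' : Scheme.{u}) => ((X'.ι ⁻¹ᵁ V (X'.ι.base v) : (X' : Scheme.{u}).Opens) : Set (X' : Scheme.{u})))
      (fun v => (X'.ι ⁻¹ᵁ V (X'.ι.base v)).isOpen) (fun v _ => Set.mem_iUnion.2 ⟨v, hx (X'.ι.base v)⟩)
    obtain ⟨A, hA⟩ := (t.image fun v => a (X'.ι.base v)).bddBelow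
    obtain ⟨B, hB⟩ := (t.image fun v => b (X'.ι.base v)).bddAbove
    refine ⟨A, B, fun v => ?_⟩
    obtain ⟨w, hw, hv⟩ := Set.mem_iUnion₂.1 (ht (Set.mem_univ v))
    have key : ∀ (h' : ↑X' ⟶ S), h' = X'.ι ≫ (f ≫ q) → DerSch.HasTorAmplitudeAt h' A B F' v := fun h' e' => by
      subst e'
      exact (torAmpAt_iff _ A B _ v).2 ((DQCoh.relAmpAt_restrict_iff X' F A B v).2
        ((torAmpAt_iff _ A B F _).1 (DRingKP.amp_widen
          (hA (Finset.mem_coe.2 (Finset.mem_image_of_mem _ hw)))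
          (hB (Finset.mem_coe.2 (Finset.mem_image_of_mem _ hw))) (hV _ _ hv))))
    exact key _ (by rw [← Category.assoc, morphismRestrict_ι, Category.assoc])
  obtain ⟨N, hN⟩ := DQPush.exists_amplitude f'
  haveI : (DCoh.toD X' F').IsLE b := (DerivedCategory.isLE_iff _ b).2 fun i hi =>
    DQCoh.isZero_homology_of_relAmp (f := f' ≫ (U.ι ≫ q)) (a := a) (b := b) (fun x => (torAmpAt_iff _ a b F' x).1 (hab x)) i hi
  let e' : DCoh.toD U R' ≅ (DCoh.Rpush f').obj (DCoh.toD X' F') :=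
    (DQCoh.rdIso U.ι R).symm ≪≫ (DQCoh.RD U.ι).mapIso e ≪≫ re.app _ ≪≫
      (DCoh.Rpush f').mapIso (DQCoh.rdIso X'.ι F)
  have h := torAmp_push f' (U.ι ≫ q) F' hq' hab R' e' (b' := b + N) fun i hi =>
    (hN _ hq' b inferInstance i (by lia)).of_iso
      ((KFlat.hdIso R' i).symm ≪≫ (DerivedCategory.homologyFunctor _ i).mapIso e')
  exact ⟨U, a, b + N, hy, fun v hv => (torAmpAt_iff q a (b + N) R v).2
    ((DQCoh.relAmpAt_restrict_iff U R a (b + N) ⟨v, hv⟩).1 ((torAmpAt_iff _ a (b + N) R' _).1 (h ⟨v, hv⟩)))⟩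

omit [DCoh.HasRpush f] [QuasiCompact f] [QuasiSeparated f] in
/-- locally finite amplitude over the base from absolute finite tor dimension -/
theorem locAmp_of_locTor (hf : DerSch.LocFiniteTorDim f) (F : CochainComplex X.Modules ℤ)
    (hE : DCoh.LocHasFiniteTorDim (DCoh.toD X F)) : DerSch.LocFiniteTorAmplitude f F := fun x => by
  obtain ⟨V, a, b, hx, hV⟩ := stalks_of_locTor hE x
  obtain ⟨V', a', b', hx', hV'⟩ := hf x
  refine ⟨V ⊓ V', a - (-a').toNat, b, ⟨hx, hx'⟩, fun z hz => ?_⟩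
  have h0 : DerSch.HasTorAmplitudeAt f (-((-a').toNat : ℤ)) 0 (DerSch.unitCx X) z :=
    DRingKP.amp_widen (by lia) le_rfl (DRingKP.amp_shrink (b' := 0) (hV' z hz.2) fun j hj =>
      (ShortComplex.isZero_homology_of_isZero_X₂ _ ((DQCoh.stA f z).map_isZero
        (HomologicalComplex.isZero_single_obj_X _ _ _ _ (by lia)))).of_iso
        ((DerivedCategory.homologyFunctorFactors _ j).app _))
  have h1 := torAmpAt_comp (𝟙 X) f (n := (-a').toNat) (x := z) h0 (hV z hz.1)
  exact (by rwa [Category.id_comp] at h1)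

/-- `Rf_*` keeps finite tor dimension -/
theorem locTor_push (hf : DerSch.LocFiniteTorDim f) (F : CochainComplex X.Modules ℤ)
    (hq : DCoh.IsQCohD (DCoh.toD X F)) (hE : DCoh.LocHasFiniteTorDim (DCoh.toD X F)) :
    DCoh.LocHasFiniteTorDim ((DCoh.Rpush f).obj (DCoh.toD X F)) := by
  obtain ⟨R, -, -, ⟨e⟩⟩ := KFlat.exists_isKFlat_rep ((DCoh.Rpush f).obj (DCoh.toD X F))
  have h := locAmp_of_locTor f hf F hE
  rw [← Category.comp_id f] at h
  have h' := locTor_of_stalks R fun y => locAmpD_push f (𝟙 Y) F h hq R ⟨e⟩ y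
  intro y
  obtain ⟨V, a, b, hy, hV⟩ := h' y
  exact ⟨V, a, b, hy, fun F' ⟨eF⟩ => hV F' ⟨eF ≪≫ e.symm⟩⟩

end Groth.Agent.KSixLib
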